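import Cfsg.Agent.Lib.AltRep.LinAlg

/-!
# Counting weights by the size of their support
-/

set_option autoImplicit false

namespace CfsgLib.AltRep

open Finset

/-- The functions into `A` with exactly `j` values different from `0`. -/
theorem card_support_eq (k j : ℕ) (A : Type*) [Fintype A] [DecidableEq A] [Zero A] :
    #{w : Fin k → A | #{i | w i ≠ 0} = j} = k.choose j * (Fintype.card A - 1) ^ j := by
  classical
  have e : ({w : Fin k → A | #{i | w i ≠ 0} = j} : Finset (Fin k → A)) =
      (powersetCard j (univ : Finset (Fin k))).biUnion fun J =>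
        Fintype.piFinset fun i => if i ∈ J then ({0} : Finset A)ᶜ else {0} := by
    ext w
    simp only [mem_filter, mem_univ, true_and, mem_biUnion, mem_powersetCard, subset_univ, Fintype.mem_piFinset]
    constructor
    · intro h
      refine ⟨({i | w i ≠ 0} : Finset (Fin k)), h, fun i => ?_⟩
      by_cases hi : w i = 0 <;> simp [hi]
    · rintro ⟨J, hJ, hw⟩
      rw [← hJ]
      congr 1
      ext i
      have := hw i
      by_cases hi : i ∈ J <;> simp [hi] at this ⊢ <;> simp [this]
  rw [e, card_biUnion]
  · have : ∀ J ∈ powersetCard j (univ : Finset (Fin k)),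
        #(Fintype.piFinset fun i => if i ∈ J then ({0} : Finset A)ᶜ else {0}) = (Fintype.card A - 1) ^ j := by
      intro J hJ
      rw [Fintype.card_piFinset]
      simp only [apply_ite Finset.card, card_compl, card_singleton, Finset.prod_ite_mem, univ_inter, prod_const]
      rw [(mem_powersetCard.1 hJ).2]
    rw [sum_congr rfl this, sum_const, card_powersetCard, card_univ, Fintype.card_fin, smul_eq_mul]
  · intro J hJ J' hJ' hne
    refine disjoint_left.2 fun w hw hw' => hne ?_
    rw [Fintype.mem_piFinset] at hw hw'
    ext i
    have h1 := hw i; have h2 := hw' i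
    by_cases hi : i ∈ J <;> by_cases hi' : i ∈ J' <;> simp [hi, hi'] at h1 h2 ⊢ <;> simp_all

theorem le_choose (k j : ℕ) (h1 : 1 ≤ j) (h2 : j < k) : k ≤ k.choose j := by
  induction k generalizing j with
  | zero => omega
  | succ k ih =>
    rcases j with - | j
    · omega
    rw [Nat.choose_succ_succ]
    rcases Nat.eq_zero_or_pos j with rfl | hj
    · simp [Nat.choose_one_right]
    · have h3 := ih j hj (by omega)
      have h4 : 1 ≤ k.choose (j + 1) := Nat.choose_pos (by omega)
      rw [Nat.succ_eq_add_one]; omega

theorem three_mul_lt_two_pow {k : ℕ} (h : 4 ≤ k) : 3 * k < 2 ^ k := by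
  induction k, h using Nat.le_induction with
  | base => norm_num
  | succ k hk ih => rw [pow_succ]; omega

end CfsgLib.AltRep
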