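import Cfsg.Agent.Lib.AltRep.QuadRelations
import Cfsg.Agent.Lib.AltRep.WeightCount

/-!
# In characteristic three, the linear case: four-groups on blocks of four points
-/

set_option autoImplicit false
set_option linter.unusedSectionVars false

namespace CfsgLib.AltRep

open Equiv Equiv.Perm Module

variable {r : ℕ} {k V H : Type*} [Field k] [IsAlgClosed k] [AddCommGroup V] [Module k V] [Group H]

namespace IsProj

variable {ρ : H →* Module.End k V} {π : H →* alternatingGroup (Fin r)} (S : IsProj ρ π)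

/-- The standard blocks of four points. -/
def bk (x : Fin (r / 4) × Fin 4) : Fin r := ⟨4 * (x.1 : ℕ) + x.2, by omega⟩

theorem bk_injective : Function.Injective (bk (r := r)) := by
  rintro ⟨i, j⟩ ⟨i', j'⟩ h
  simp only [bk, Fin.mk.injEq] at h
  have := i.2; have := j.2; have := j'.2
  ext <;> simp <;> omega

theorem d4_bk (i : Fin (r / 4)) : D4 (bk (i, 0)) (bk (i, 1)) (bk (i, 2)) (bk (i, 3)) := by
  simp [D4, D3, bk_injective.eq_iff]

theorem rho_U (g : H) {a b c d : Fin r} (h : D4 a b c d) (v : V) :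
    ρ g (S.U a b c d v) = S.U ((π g : Equiv.Perm (Fin r)) a) ((π g : Equiv.Perm (Fin r)) b)
      ((π g : Equiv.Perm (Fin r)) c) ((π g : Equiv.Perm (Fin r)) d) (ρ g v) := by
  rw [U, U, End.mul_apply, End.mul_apply, S.rho_L g h.1, S.rho_L g h.2.1]

theorem U_comm_of_off {a b c d e f g h : Fin r} (h1 : D4 a b c d) (h2 : D4 e f g h)
    (hd : ∀ z ∈ [e, f, g, h], z ≠ a ∧ z ≠ b ∧ z ≠ c ∧ z ≠ d) :
    S.U a b c d * S.U e f g h = S.U e f g h * S.U a b c d := by
  simp only [List.mem_cons, List.not_mem_nil, or_false, forall_eq_or_imp, forall_eq] at hd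
  obtain ⟨⟨e1, e2, e3, e4⟩, ⟨f1, f2, f3, f4⟩, ⟨g1, g2, g3, g4⟩, ⟨k1, k2, k3, k4⟩⟩ := hd
  have c1 : S.L a b c * S.L e f g = S.L e f g * S.L a b c :=
    S.L_comm h1.1 h2.1 (by simp [e1, e2, e3, f1, f2, f3, g1, g2, g3])
  have c2 : S.L a b c * S.L e f h = S.L e f h * S.L a b c :=
    S.L_comm h1.1 h2.2.1 (by simp [e1, e2, e3, f1, f2, f3, k1, k2, k3])
  have c3 : S.L a b d * S.L e f g = S.L e f g * S.L a b d :=
    S.L_comm h1.2.1 h2.1 (by simp [e1, e2, e4, f1, f2, f4, g1, g2, g4])
  have c4 : S.L a b d * S.L e f h = S.L e f h * S.L a b d :=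
    S.L_comm h1.2.1 h2.2.1 (by simp [e1, e2, e4, f1, f2, f4, k1, k2, k4])
  exact (S.commute_U (S.commute_U c1 c2).symm (S.commute_U c3 c4).symm).symm

theorem pow_three_gt {K : ℕ} (h : 3 ≤ K) : 4 * K + 1 < 3 ^ K := by
  induction K, h using Nat.le_induction with
  | base => norm_num
  | succ K hK ih => rw [pow_succ]; omega

include S in
set_option maxHeartbeats 4000000 in
theorem bound_three_linear [FiniteDimensional k V] (p : ℕ) [Fact p.Prime] [CharP k p] (h3 : (3 : k) = 0)
    (hsign : ∀ a b c d, D4 a b c d → S.U a b c d * S.U a b c d = (1 : k) • 1) :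
    r - 1 - (if p ∣ r then 1 else 0) ≤ finrank k V := by
  classical
  haveI := S.nontrivial
  have hr := S.nine
  by_contra hcon
  have hn : finrank k V + 2 ≤ r := by omega
  have h2 : (2 : k) ≠ 0 := fun h => one_ne_zero (show (1 : k) = 0 by linear_combination h3 - h)
  have hsq : ∀ a b c d, D4 a b c d → ∀ z, S.U a b c d (S.U a b c d z) = z := fun a b c d h z => by
    rw [← End.mul_apply, hsign a b c d h, one_smul, End.one_apply]
  have hab : ∀ a b c d, D4 a b c d → ∀ z, S.U a b c d (S.U a b d c z) = S.U a b d c (S.U a b c d z) :=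
    fun a b c d h z => by
      rw [← End.mul_apply, S.U_comm (one_mul 1) hsign h, one_smul, End.mul_apply]
  -- the action of a three-cycle on the operators of its block
  have rotv : ∀ a b c d z, S.L a b c (S.U a b d c z) = S.U a b c d (S.L a b c z) := by
    intro a b c d z
    have e := LinearMap.congr_fun (S.conj_U' a b c d) (S.L a b c z)
    simp only [End.mul_apply] at e
    rwa [← End.mul_apply (S.L a b c) (S.L a b c) z, ← End.mul_apply (S.L a b c) _ z, ← mul_assoc, S.L_cube,
      End.one_apply] at e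
  have rotu : ∀ a b c d, D4 a b c d → ∀ z,
      S.L a b c (S.U a b c d z) = S.U a b c d (S.U a b d c (S.L a b c z)) := by
    intro a b c d h z
    have e := LinearMap.congr_fun (S.conj_U hsign h) (S.L a b c z)
    rw [one_smul] at e
    simp only [End.mul_apply] at e
    rwa [← End.mul_apply (S.L a b c) (S.L a b c) z, ← End.mul_apply (S.L a b c) _ z, ← mul_assoc, S.L_cube,
      End.one_apply] at e
  set K := r / 4 with hK
  have hK2 : 2 ≤ K := by omega
  have hnK : finrank k V ≤ 4 * K + 1 := by omega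
  let x : Fin K → Module.End k V := fun i => S.L (bk (i, 0)) (bk (i, 1)) (bk (i, 2))
  let u : Fin K → Module.End k V := fun i => S.U (bk (i, 0)) (bk (i, 1)) (bk (i, 2)) (bk (i, 3))
  let v : Fin K → Module.End k V := fun i => S.U (bk (i, 0)) (bk (i, 1)) (bk (i, 3)) (bk (i, 2))
  have hd4 : ∀ i : Fin K, D4 (bk (r := r) (i, 0)) (bk (i, 1)) (bk (i, 2)) (bk (i, 3)) := fun i => d4_bk i
  let X : Fin K ⊕ Fin K → Module.End k V := Sum.elim u v
  have bne : ∀ {i j : Fin K} {a b : Fin 4}, i ≠ j → bk (r := r) (i, a) ≠ bk (j, b) := fun h e =>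
    h (congrArg Prod.fst (bk_injective e))
  have hcomm : ∀ i j, X i * X j = X j * X i := by
    have key : ∀ i j : Fin K, i ≠ j → u i * u j = u j * u i ∧ u i * v j = v j * u i ∧ v i * v j = v j * v i := by
      intro i j hij
      refine ⟨S.U_comm_of_off (hd4 i) (hd4 j) ?_, S.U_comm_of_off (hd4 i) (hd4 j).swap_last ?_,
        S.U_comm_of_off (hd4 i).swap_last (hd4 j).swap_last ?_⟩ <;>
        simp [bne hij.symm]
    have same : ∀ i, u i * v i = v i * u i := fun i => LinearMap.ext fun z => hab _ _ _ _ (hd4 i) z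
    rintro (i | i) (j | j) <;> by_cases hij : i = j
    · subst hij; rfl
    · exact (key i j hij).1
    · subst hij; exact same i
    · exact (key i j hij).2.1
    · subst hij; exact (same i).symm
    · exact ((key j i (Ne.symm hij)).2.1).symm
    · subst hij; rfl
    · exact (key i j hij).2.2
  have hXsq : ∀ i z, X i (X i z) = z := by
    rintro (i | i) z
    · exact hsq _ _ _ _ (hd4 i) z
    · exact hsq _ _ _ _ (hd4 i).swap_last z
  let E : ZMod 2 → k := fun a => if a = 0 then 1 else -1
  have hE0 : E 0 = 1 := if_pos rfl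
  have hE1 : E 1 = -1 := if_neg (by decide)
  have hEadd : ∀ a b, E (a + b) = E a * E b := by
    intro a b
    have ha : a = 0 ∨ a = 1 := by revert a; decide
    have hb : b = 0 ∨ b = 1 := by revert b; decide
    rcases ha with rfl | rfl <;> rcases hb with rfl | rfl <;>
      simp [hE0, hE1, show (1 : ZMod 2) + 1 = 0 by decide]
  have hEinj : Function.Injective E := by
    intro a b
    have ha : a = 0 ∨ a = 1 := by revert a; decide
    have hb : b = 0 ∨ b = 1 := by revert b; decide
    intro h
    have hne : (1 : k) ≠ -1 := fun e => h2 (by linear_combination e)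
    rcases ha with rfl | rfl <;> rcases hb with rfl | rfl <;> simp [hE0, hE1, hne, hne.symm] at h ⊢
  -- weights
  let IsW : (Fin K → ZMod 2 × ZMod 2) → Prop := fun w => ∃ z : V, z ≠ 0 ∧
    ∀ i, u i z = E (w i).1 • z ∧ v i z = E (w i).2 • z
  have exW : ∀ W : Submodule k V, W ≠ ⊥ → (∀ i, ∀ z ∈ W, X i z ∈ W) →
      ∃ w : Fin K → ZMod 2 × ZMod 2, ∃ z ∈ W, z ≠ 0 ∧ ∀ i, u i z = E (w i).1 • z ∧ v i z = E (w i).2 • z := by
    intro W hW hinv
    obtain ⟨z, hz, hz0, he⟩ := exists_joint_eigen X hcomm Finset.univ W hW fun i _ => hinv i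
    have h : ∀ i, ∃ a : ZMod 2, X i z = E a • z := by
      intro i
      obtain ⟨c, hc⟩ := he i (Finset.mem_univ i)
      have e := hXsq i z
      rw [hc, map_smul, hc, smul_smul] at e
      rcases mul_self_eq_one_iff.1 (smul_left_injective k hz0 (show (c * c) • z = (1 : k) • z by rw [one_smul]; exact e)) with rfl | rfl
      · exact ⟨0, by rw [hE0, hc]⟩
      · exact ⟨1, by rw [hE1, hc]⟩
    choose a ha using h
    exact ⟨fun i => (a (Sum.inl i), a (Sum.inr i)), z, hz, hz0, fun i => ⟨ha (Sum.inl i), ha (Sum.inr i)⟩⟩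
  let R : ZMod 2 × ZMod 2 → ZMod 2 × ZMod 2 := fun a => (a.2, a.1 + a.2)
  have rot : ∀ i z (a : ZMod 2 × ZMod 2), u i z = E a.1 • z → v i z = E a.2 • z →
      u i (x i z) = E (R a).1 • x i z ∧ v i (x i z) = E (R a).2 • x i z := by
    intro i z a h1 h2'
    have e1 : u i (x i z) = E a.2 • x i z := by
      show S.U _ _ _ _ (S.L _ _ _ z) = _
      rw [← rotv]
      show x i (v i z) = _
      rw [h2', map_smul]
    refine ⟨e1, ?_⟩
    have e2 : u i (v i (x i z)) = E a.1 • x i z := by
      show S.U _ _ _ _ (S.U _ _ _ _ (S.L _ _ _ z)) = _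
      rw [← rotu _ _ _ _ (hd4 i)]
      show x i (u i z) = _
      rw [h1, map_smul]
    have e3 := congrArg (u i) e2
    rw [show u i (u i (v i (x i z))) = v i (x i z) from hsq _ _ _ _ (hd4 i) _, map_smul, e1, smul_smul, ← hEadd] at e3
    exact e3
  have xcomm : ∀ i j, i ≠ j → ∀ z, u j (x i z) = x i (u j z) ∧ v j (x i z) = x i (v j z) := by
    intro i j hij z
    have e : ∀ a b : Fin 4, a ≠ 0 → a ≠ 1 → b ≠ 0 → b ≠ 1 →
        x i * S.L (bk (j, 0)) (bk (j, 1)) (bk (j, a)) = S.L (bk (j, 0)) (bk (j, 1)) (bk (j, a)) * x i := by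
      intro a b ha1 ha2 _ _
      exact S.L_comm (hd4 i).1 ⟨by simp [bk_injective.eq_iff], by simp [bk_injective.eq_iff, ha2.symm],
        by simp [bk_injective.eq_iff, ha1.symm]⟩ (by simp [bne hij.symm])
    have eu : x i * u j = u j * x i := S.commute_U (e 2 2 (by decide) (by decide) (by decide) (by decide))
      (e 3 3 (by decide) (by decide) (by decide) (by decide))
    have ev : x i * v j = v j * x i := S.commute_U (e 3 3 (by decide) (by decide) (by decide) (by decide))
      (e 2 2 (by decide) (by decide) (by decide) (by decide))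
    exact ⟨(LinearMap.congr_fun eu z).symm, (LinearMap.congr_fun ev z).symm⟩
  have hxinj : ∀ i, Function.Injective (x i) := fun i a b e => by
    have e' := congrArg (fun t => x i (x i t)) e
    simp only [← End.mul_apply] at e'
    rwa [show x i * (x i * x i) = 1 by rw [← mul_assoc]; exact S.L_cube _ _ _, End.one_apply, End.one_apply] at e'
  have upd : ∀ w i, IsW w → IsW (Function.update w i (R (w i))) := by
    rintro w i ⟨z, hz0, hz⟩
    refine ⟨x i z, fun e => hz0 (hxinj i (by rw [e, map_zero])), fun j => ?_⟩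
    by_cases hji : j = i
    · subst hji
      rw [Function.update_self]
      exact rot j z (w j) (hz j).1 (hz j).2
    · rw [Function.update_of_ne hji]
      obtain ⟨e1, e2⟩ := xcomm i j (Ne.symm hji) z
      exact ⟨by rw [e1, (hz j).1, map_smul], by rw [e2, (hz j).2, map_smul]⟩
  have perms : ∀ σ : Equiv.Perm (Fin K), ∀ w, IsW w → IsW (fun i => w (σ⁻¹ i)) := by
    intro σ
    induction σ using Equiv.Perm.swap_induction_on with
    | one => exact fun w hw => hw
    | swap_mul σ a b hab' ih =>
      intro w hw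
      obtain ⟨z, hz0, hz⟩ := ih w hw
      let q : Equiv.Perm (Fin K × Fin 4) :=
        (swap (a, 0) (b, 0) * swap (a, 1) (b, 1)) * (swap (a, 2) (b, 2) * swap (a, 3) (b, 3))
      have hq : ∀ i j, q (i, j) = (swap a b i, j) := by
        intro i j
        rcases eq_or_ne i a with rfl | h1
        · fin_cases j <;> simp [q, Perm.mul_apply, swap_apply_def, hab', hab'.symm]
        rcases eq_or_ne i b with rfl | h2
        · fin_cases j <;> simp [q, Perm.mul_apply, swap_apply_def, hab', hab'.symm]
        · fin_cases j <;> simp [q, Perm.mul_apply, swap_apply_def, hab', hab'.symm, h1, h2]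
      have hq1 : sign q = 1 := by
        simp only [q, map_mul]
        rw [sign_swap (by simp [hab']), sign_swap (by simp [hab']), sign_swap (by simp [hab']),
          sign_swap (by simp [hab'])]
        decide
      obtain ⟨g, hg⟩ := S.surj ⟨q.extendDomain (Equiv.ofInjective bk (bk_injective (r := r))),
        mem_alternatingGroup.2 ((sign_extendDomain q _).trans hq1)⟩
      have hbk : ∀ i j, (π g : Equiv.Perm (Fin r)) (bk (i, j)) = bk (swap a b i, j) := fun i j => by
        rw [← hq, hg]
        exact Equiv.Perm.extendDomain_apply_image q (Equiv.ofInjective bk bk_injective) (i, j)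
      refine ⟨ρ g z, fun e => hz0 (rho_injective g (by rw [e, map_zero])), fun i => ?_⟩
      have hi := hz (swap a b i)
      have hinv : (swap a b * σ)⁻¹ i = σ⁻¹ (swap a b i) := by simp [mul_inv_rev]
      constructor
      · show u i (ρ g z) = E (w ((swap a b * σ)⁻¹ i)).1 • ρ g z
        rw [hinv]
        have e := congrArg (ρ g) hi.1
        rw [map_smul, show ρ g (u (swap a b i) z) = _ from S.rho_U g (hd4 _) z] at e
        rw [hbk, hbk, hbk, hbk, swap_apply_self] at e
        exact e
      · show v i (ρ g z) = E (w ((swap a b * σ)⁻¹ i)).2 • ρ g z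
        rw [hinv]
        have e := congrArg (ρ g) hi.2
        rw [map_smul, show ρ g (v (swap a b i) z) = _ from S.rho_U g (hd4 _).swap_last z] at e
        rw [hbk, hbk, hbk, hbk, swap_apply_self] at e
        exact e
  have orbit : ∀ w w', IsW w →
      (Finset.univ.filter fun i => w i ≠ 0).card = (Finset.univ.filter fun i => w' i ≠ 0).card → IsW w' := by
    intro w w' hw hcard
    obtain ⟨σ, hσ⟩ : ∃ σ : Equiv.Perm (Fin K), ∀ i, w i ≠ 0 ↔ w' (σ i) ≠ 0 := by
      let e : {i // w i ≠ 0} ≃ {i // w' i ≠ 0} := Fintype.equivOfCardEq (by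
        rw [Fintype.card_subtype, Fintype.card_subtype]; exact hcard)
      exact ⟨e.extendSubtype, fun i => ⟨fun h => e.extendSubtype_mem i h, fun h => by
        by_contra hh; exact e.extendSubtype_not_mem i (fun hn => hn hh) h⟩⟩
    set w₁ := fun i => w (σ⁻¹ i) with hw₁
    have hw1 : IsW w₁ := perms σ w hw
    have hiff : ∀ i, w₁ i ≠ 0 ↔ w' i ≠ 0 := fun i => by
      rw [hw₁, hσ (σ⁻¹ i)]; simp
    have step : ∀ T : Finset (Fin K), IsW fun i => if i ∈ T then w' i else w₁ i := by
      intro T
      induction T using Finset.induction_on with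
      | empty => simpa using hw1
      | @insert a T ha ih =>
        have e : ∀ b : ZMod 2 × ZMod 2, (fun i => if i ∈ insert a T then w' i else w₁ i) =
            Function.update (fun i => if i ∈ T then w' i else w₁ i) a (w' a) := fun b => by
          funext i
          by_cases hi : i = a
          · subst hi; simp
          · simp [hi]
        rw [e 0]
        have key : ∀ a b : ZMod 2 × ZMod 2, (a ≠ 0 ↔ b ≠ 0) → b = a ∨ b = R a ∨ b = R (R a) := by decide
        set f := fun i => if i ∈ T then w' i else w₁ i with hf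
        have hfa : f a = w₁ a := if_neg ha
        rcases key (w₁ a) (w' a) (hiff a) with h | h | h
        · rwa [h, ← hfa, Function.update_eq_self]
        · rw [h, ← hfa]; exact upd f a ih
        · rw [h, ← hfa]
          have := upd _ a (upd f a ih)
          rwa [Function.update_self, Function.update_idem] at this
    simpa using step Finset.univ
  let supp : (Fin K → ZMod 2 × ZMod 2) → ℕ := fun w => (Finset.univ.filter fun i => w i ≠ 0).card
  have hwinj : ∀ a b : Fin K → ZMod 2 × ZMod 2,
      (fun i : Fin K ⊕ Fin K => Sum.elim (fun i => E (a i).1) (fun i => E (a i).2) i) =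
        (fun i => Sum.elim (fun i => E (b i).1) (fun i => E (b i).2) i) → a = b := fun a b e =>
    funext fun i => Prod.ext (hEinj (congrFun e (Sum.inl i))) (hEinj (congrFun e (Sum.inr i)))
  have hlev : ∀ w, IsW w → supp w ≤ 1 := by
    intro w hw
    by_contra! hc
    have hle : supp w ≤ K := (Finset.card_le_univ _).trans (le_of_eq (Fintype.card_fin K))
    let κ := {a : Fin K → ZMod 2 × ZMod 2 // supp a = supp w}
    have hall : ∀ a : κ, IsW a.1 := fun a => orbit w a.1 hw a.2.symm
    have hcard : Fintype.card κ = K.choose (supp w) * 3 ^ supp w := by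
      rw [Fintype.card_subtype, show (3 : ℕ) = Fintype.card (ZMod 2 × ZMod 2) - 1 from rfl, ← card_support_eq]
    choose z hz0 hz using hall
    have hzX : ∀ (a : κ) i, X i (z a) = Sum.elim (fun i => E (a.1 i).1) (fun i => E (a.1 i).2) i • z a := fun a i => by
      rcases i with i | i
      · exact (hz a i).1
      · exact (hz a i).2
    have hli : LinearIndependent k z := linearIndependent_of_weights X
      (fun (a : κ) i => Sum.elim (fun i => E (a.1 i).1) (fun i => E (a.1 i).2) i) z
      (fun a b e => Subtype.ext (hwinj a.1 b.1 e)) hz0 hzX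
    have hle9 := hli.fintype_card_le_finrank
    rw [hcard] at hle9
    by_cases hsK : supp w < K
    · have h1 := le_choose K (supp w) (by omega) hsK
      have h2' : 9 ≤ 3 ^ supp w := by
        calc 9 = 3 ^ 2 := rfl
          _ ≤ _ := Nat.pow_le_pow_right (by norm_num) (by omega)
      have := Nat.mul_le_mul h1 h2'
      omega
    have hsK' : supp w = K := by omega
    rw [hsK', Nat.choose_self, one_mul] at hle9
    have hKeq : K = 2 := by
      by_contra hne
      have := pow_three_gt (K := K) (by omega)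
      omega
    rw [hKeq] at hle9
    have hn9 : finrank k V = 9 ∧ r = 11 := by omega
    -- nine weight lines; the lift of `(8 9 10)` preserves each of them
    let z8 := S.L (⟨8, by omega⟩ : Fin r) ⟨9, by omega⟩ ⟨10, by omega⟩
    have hd8 : D3 (⟨8, by omega⟩ : Fin r) ⟨9, by omega⟩ ⟨10, by omega⟩ := by simp [D3, Fin.ext_iff]
    have hz8 : ∀ i, z8 * X i = X i * z8 := by
      have e : ∀ (i : Fin K) (a : Fin 4), a ≠ 0 → a ≠ 1 →
          z8 * S.L (bk (i, 0)) (bk (i, 1)) (bk (i, a)) = S.L (bk (i, 0)) (bk (i, 1)) (bk (i, a)) * z8 := by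
        intro i a ha0 ha1
        refine S.L_comm hd8 ⟨by simp [bk_injective.eq_iff], by simp [bk_injective.eq_iff, ha1.symm],
          by simp [bk_injective.eq_iff, ha0.symm]⟩ ?_
        have := i.2; have := a.2
        simp only [List.mem_cons, List.not_mem_nil, or_false, forall_eq_or_imp, forall_eq, bk, ne_eq, Fin.ext_iff]
        have h0 : ((0 : Fin 4) : ℕ) = 0 := rfl
        have h1 : ((1 : Fin 4) : ℕ) = 1 := rfl
        omega
      rintro (i | i)
      · exact S.commute_U (e i 2 (by decide) (by decide)) (e i 3 (by decide) (by decide))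
      · exact S.commute_U (e i 3 (by decide) (by decide)) (e i 2 (by decide) (by decide))
    have hspan : Submodule.span k (Set.range z) = ⊤ := hli.span_eq_top_of_card_eq_finrank' (by
      rw [hcard, hsK', Nat.choose_self, hKeq, hn9.1]; norm_num)
    refine S.L_ne_one hd8 (LinearMap.ext_on hspan ?_)
    rintro _ ⟨a, rfl⟩
    obtain ⟨c, hc⟩ := (Submodule.mem_span_range_iff_exists_fun k).1
      (hspan ▸ Submodule.mem_top : z8 (z a) ∈ Submodule.span k (Set.range z))
    have hoff : ∀ b, b ≠ a → c b = 0 := by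
      intro b hba
      obtain ⟨i, hi⟩ := Function.ne_iff.1 (fun e => hba (Subtype.ext (hwinj b.1 a.1 e)))
      set wt := fun (a : κ) (i : Fin K ⊕ Fin K) => Sum.elim (fun i => E (a.1 i).1) (fun i => E (a.1 i).2) i
      have e1 : X i (z8 (z a)) = wt a i • z8 (z a) := by
        rw [← End.mul_apply, ← hz8, End.mul_apply, hzX, map_smul]
      rw [← hc, map_sum, Finset.smul_sum, ← sub_eq_zero, ← Finset.sum_sub_distrib] at e1
      have e2 : ∑ b, (c b * (wt b i - wt a i)) • z b = 0 := by
        rw [← e1]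
        refine Finset.sum_congr rfl fun b _ => ?_
        rw [map_smul, hzX, smul_smul, smul_smul, ← sub_smul, mul_sub, mul_comm (wt a i)]
      exact (mul_eq_zero.1 (Fintype.linearIndependent_iff.1 hli _ e2 b)).resolve_right (sub_ne_zero.2 hi)
    rw [Finset.sum_eq_single a (fun b _ hb => by rw [hoff b hb, zero_smul]) (fun h => absurd (Finset.mem_univ a) h)] at hc
    have h3z : z8 (z8 (z8 (z a))) = z a := by
      rw [← End.mul_apply, ← End.mul_apply, S.L_cube, End.one_apply]
    rw [← hc, map_smul, ← hc, smul_smul, map_smul, ← hc, smul_smul] at h3z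
    have hc3 : c a * c a * c a = 1 := smul_left_injective k (hz0 a)
      (show (c a * c a * c a) • z a = (1 : k) • z a by rw [one_smul]; exact h3z)
    have : (c a - 1) * ((c a - 1) * (c a - 1)) = 0 := by linear_combination hc3 + (c a - c a ^ 2) * h3
    rw [End.one_apply]
    show z8 (z a) = z a
    rw [← hc]
    rcases mul_eq_zero.1 this with h | h
    · rw [sub_eq_zero.1 h, one_smul]
    · rw [sub_eq_zero.1 (mul_self_eq_zero.1 h), one_smul]
  -- eigenspaces of a block
  let Q : Fin K → ZMod 2 × ZMod 2 → Submodule k V := fun i a =>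
    LinearMap.ker (u i - E a.1 • (1 : Module.End k V)) ⊓ LinearMap.ker (v i - E a.2 • (1 : Module.End k V))
  have hQ : ∀ i a z, z ∈ Q i a ↔ u i z = E a.1 • z ∧ v i z = E a.2 • z := fun i a z => by simp [Q, sub_eq_zero]
  have hcz : ∀ i j z, X i (X j z) = X j (X i z) := fun i j z => LinearMap.congr_fun (hcomm i j) z
  have Qinv : ∀ i a l, ∀ z ∈ Q i a, X l z ∈ Q i a := by
    intro i a l z hz
    obtain ⟨h1, h2'⟩ := (hQ i a z).1 hz
    refine (hQ i a _).2 ⟨?_, ?_⟩
    · show X (Sum.inl i) (X l z) = _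
      rw [hcz, show X (Sum.inl i) z = E a.1 • z from h1, map_smul]
    · show X (Sum.inr i) (X l z) = _
      rw [hcz, show X (Sum.inr i) z = E a.2 • z from h2', map_smul]
  have Qtriv : ∀ i j a, i ≠ j → a ≠ 0 → ∀ z ∈ Q i a, u j z = z ∧ v j z = z := by
    intro i j a hij ha
    have key : ∀ l : Fin K ⊕ Fin K, (l = Sum.inl j ∨ l = Sum.inr j) → ∀ z ∈ Q i a, X l z = z := by
      intro l hl z hz
      by_contra hne
      let W := (Q i a).map (X l - 1)
      have hW : W ≠ ⊥ := fun e => hne (by
        have h : (X l - 1) z ∈ W := ⟨z, hz, rfl⟩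
        rw [e] at h
        simpa [sub_eq_zero] using h)
      obtain ⟨w, y, hy, hy0, hw⟩ := exW W hW (by
        rintro m _ ⟨y, hy, rfl⟩
        refine ⟨X m y, Qinv i a m y hy, ?_⟩
        simp only [LinearMap.sub_apply, End.one_apply, map_sub, hcz l m])
      obtain ⟨y', hy', rfl⟩ := hy
      have hyQ : (X l - 1) y' ∈ Q i a := sub_mem (Qinv i a l y' hy') hy'
      have hneg : X l ((X l - 1) y') = -((X l - 1) y') := by
        simp only [LinearMap.sub_apply, End.one_apply, map_sub, hXsq]; abel
      have hwi : w i = a := by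
        obtain ⟨e1, e2⟩ := (hQ i a _).1 hyQ
        exact Prod.ext (hEinj (smul_left_injective k hy0 ((hw i).1.symm.trans e1)))
          (hEinj (smul_left_injective k hy0 ((hw i).2.symm.trans e2)))
      have hwj : w j ≠ 0 := by
        intro e0
        have hone : X l ((X l - 1) y') = (X l - 1) y' := by
          rcases hl with rfl | rfl
          · rw [show X (Sum.inl j) ((X (Sum.inl j) - 1) y') = _ from (hw j).1, e0]; simp [hE0]
          · rw [show X (Sum.inr j) ((X (Sum.inr j) - 1) y') = _ from (hw j).2, e0]; simp [hE0]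
        rw [hone] at hneg
        exact hy0 ((smul_eq_zero.1 (show (2 : k) • (X l - 1) y' = 0 by
          rw [two_smul]; exact add_eq_zero_iff_eq_neg.2 hneg)).resolve_left h2)
      have : 1 < supp w := Finset.one_lt_card.2 ⟨i, by simpa [hwi] using ha, j, by simpa using hwj, hij⟩
      have := hlev w ⟨_, hy0, hw⟩
      omega
    exact fun z hz => ⟨key _ (Or.inl rfl) z hz, key _ (Or.inr rfl) z hz⟩
  -- the spans of the non-trivial eigenspaces
  let P : Fin r → Fin r → Fin r → Fin r → Submodule k V := fun a b c d =>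
    LinearMap.range (S.U a b c d - 1) ⊔ LinearMap.range (S.U a b d c - 1)
  have hPswap : ∀ a b c d, P a b d c = P a b c d := fun a b c d => sup_comm _ _
  have hPinv : ∀ a b c d, D4 a b c d → ∀ z ∈ P a b c d, S.L a b c z ∈ P a b c d := by
    intro a b c d h
    refine fun z hz => (show P a b c d ≤ (P a b c d).comap (S.L a b c) from sup_le ?_ ?_) hz
    · rintro _ ⟨y, rfl⟩
      rw [Submodule.mem_comap, LinearMap.sub_apply, End.one_apply, map_sub, rotu a b c d h]
      set u' := S.U a b c d
      set v' := S.U a b d c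
      have e : u' (v' (S.L a b c y)) - S.L a b c y =
          (u' - 1) (v' (S.L a b c y)) + (v' - 1) (S.L a b c y) := by simp
      rw [e]
      exact add_mem (Submodule.mem_sup_left ⟨_, rfl⟩) (Submodule.mem_sup_right ⟨_, rfl⟩)
    · rintro _ ⟨y, rfl⟩
      rw [Submodule.mem_comap, LinearMap.sub_apply, End.one_apply, map_sub, rotv]
      exact Submodule.mem_sup_left ⟨S.L a b c y, rfl⟩
  -- the fixed part of a block
  let c0 : Fin r → Fin r → Fin r → Fin r → V → V := fun a b c d z =>
    (4 : k)⁻¹ • (z + S.U a b c d z + (S.U a b d c z + S.U a b c d (S.U a b d c z)))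
  have h4 : (4 : k) ≠ 0 := by rw [show (4 : k) = 2 * 2 by norm_num]; exact mul_ne_zero h2 h2
  have c0fix : ∀ a b c d, D4 a b c d → ∀ z,
      S.U a b c d (c0 a b c d z) = c0 a b c d z ∧ S.U a b d c (c0 a b c d z) = c0 a b c d z := by
    intro a b c d h z
    constructor
    · simp only [c0, map_smul, map_add, hsq a b c d h]; congr 1; abel
    · simp only [c0, map_smul, map_add, hsq a b d c h.swap_last]
      congr 1
      rw [← hab a b c d h z, ← hab a b c d h (S.U a b d c z), hsq a b d c h.swap_last]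
      abel
  have c0mem : ∀ a b c d, D4 a b c d → ∀ z, z - c0 a b c d z ∈ P a b c d := by
    intro a b c d h z
    set u' := S.U a b c d
    set v' := S.U a b d c
    have e : z - c0 a b c d z = (-(4 : k)⁻¹) • ((u' - 1) z + (v' - 1) z + ((u' - 1) (v' z) + (v' - 1) z)) := by
      have e4 : z = (4 : k)⁻¹ • ((4 : k) • z) := by rw [smul_smul, inv_mul_cancel₀ h4, one_smul]
      simp only [c0, LinearMap.sub_apply, End.one_apply, show S.U a b c d = u' from rfl, show S.U a b d c = v' from rfl]
      nth_rewrite 1 [e4]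
      module
    rw [e]
    exact Submodule.smul_mem _ _ (add_mem (add_mem (Submodule.mem_sup_left ⟨_, rfl⟩) (Submodule.mem_sup_right ⟨_, rfl⟩))
      (add_mem (Submodule.mem_sup_left ⟨_, rfl⟩) (Submodule.mem_sup_right ⟨_, rfl⟩)))
  let i0 : Fin K := ⟨0, by omega⟩
  let i1 : Fin K := ⟨1, by omega⟩
  have h01 : i0 ≠ i1 := by simp [i0, i1, Fin.ext_iff]
  let nz : Finset (ZMod 2 × ZMod 2) := {(1, 0), (0, 1), (1, 1)}
  have hnz : ∀ a, a ≠ 0 ↔ a ∈ nz := by decide
  have hPQ : ∀ i, P (bk (i, 0)) (bk (i, 1)) (bk (i, 2)) (bk (i, 3)) ≤ Q i (1, 0) ⊔ Q i (0, 1) ⊔ Q i (1, 1) := by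
    intro i
    refine sup_le ?_ ?_
    · rintro _ ⟨z, rfl⟩
      show (u i - 1) z ∈ _
      set y := (u i - 1) z with hy
      have huy : u i y = -y := by
        simp only [hy, LinearMap.sub_apply, End.one_apply, map_sub]
        rw [show u i (u i z) = z from hXsq (Sum.inl i) z]; abel
      have hc : ∀ t, u i (v i t) = v i (u i t) := fun t => hcz (Sum.inl i) (Sum.inr i) t
      have hy2 : y = (2 : k)⁻¹ • (y + v i y) + (2 : k)⁻¹ • (y - v i y) := by
        rw [← smul_add, show y + v i y + (y - v i y) = (2 : k) • y by module, smul_smul, inv_mul_cancel₀ h2, one_smul]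
      rw [hy2]
      refine add_mem (Submodule.mem_sup_left (Submodule.mem_sup_left ?_)) (Submodule.mem_sup_right ?_)
      · refine (hQ _ _ _).2 ⟨?_, ?_⟩
        · rw [map_smul, map_add, hc, huy, map_neg, hE1, neg_one_smul, ← smul_neg]; congr 1; abel
        · rw [map_smul, map_add, show v i (v i y) = y from hXsq (Sum.inr i) y, hE0, one_smul]; congr 1; abel
      · refine (hQ _ _ _).2 ⟨?_, ?_⟩
        · rw [map_smul, map_sub, hc, huy, map_neg, hE1, neg_one_smul, ← smul_neg]; congr 1; abel
        · rw [map_smul, map_sub, show v i (v i y) = y from hXsq (Sum.inr i) y, hE1, neg_one_smul, ← smul_neg]; congr 1; abel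
    · rintro _ ⟨z, rfl⟩
      show (v i - 1) z ∈ _
      set y := (v i - 1) z with hy
      have hvy : v i y = -y := by
        simp only [hy, LinearMap.sub_apply, End.one_apply, map_sub]
        rw [show v i (v i z) = z from hXsq (Sum.inr i) z]; abel
      have hc : ∀ t, v i (u i t) = u i (v i t) := fun t => hcz (Sum.inr i) (Sum.inl i) t
      have hy2 : y = (2 : k)⁻¹ • (y + u i y) + (2 : k)⁻¹ • (y - u i y) := by
        rw [← smul_add, show y + u i y + (y - u i y) = (2 : k) • y by module, smul_smul, inv_mul_cancel₀ h2, one_smul]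
      rw [hy2]
      refine add_mem (Submodule.mem_sup_left (Submodule.mem_sup_right ?_)) (Submodule.mem_sup_right ?_)
      · refine (hQ _ _ _).2 ⟨?_, ?_⟩
        · rw [map_smul, map_add, show u i (u i y) = y from hXsq (Sum.inl i) y, hE0, one_smul]; congr 1; abel
        · rw [map_smul, map_add, hc, hvy, map_neg, hE1, neg_one_smul, ← smul_neg]; congr 1; abel
      · refine (hQ _ _ _).2 ⟨?_, ?_⟩
        · rw [map_smul, map_sub, show u i (u i y) = y from hXsq (Sum.inl i) y, hE1, neg_one_smul, ← smul_neg]; congr 1; abel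
        · rw [map_smul, map_sub, hc, hvy, map_neg, hE1, neg_one_smul, ← smul_neg]; congr 1; abel
  -- all these eigenspaces are lines
  have hdimR : ∀ i a, finrank k (Q i a) ≤ finrank k (Q i (R a)) := by
    intro i a
    refine LinearMap.finrank_le_finrank_of_injective (f := (x i).restrict fun z hz => ?_)
      fun s t h => Subtype.ext (hxinj i (congrArg Subtype.val h))
    obtain ⟨h1, h2'⟩ := (hQ i a z).1 hz
    exact (hQ _ _ _).2 (rot i z a h1 h2')
  have hdimI : ∀ i j a, finrank k (Q i a) ≤ finrank k (Q j a) := by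
    intro i j a
    have hf : ∀ l : Fin K, Function.Injective ![bk (r := r) (l, 0), bk (l, 1), bk (l, 2), bk (l, 3)] := fun l =>
      (hd4 l).inj
    obtain ⟨g, hg⟩ := S.exists_move (n := 4) (by omega) (hf i) (hf j)
    have e0 := hg 0; have e1 := hg 1; have e2 := hg 2; have e3 := hg 3
    simp only [Fin.isValue, Matrix.cons_val] at e0 e1 e2 e3
    refine LinearMap.finrank_le_finrank_of_injective (f := (ρ g).restrict fun z hz => ?_)
      fun s t h => Subtype.ext (rho_injective g (congrArg Subtype.val h))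
    obtain ⟨h1, h2'⟩ := (hQ i a z).1 hz
    refine (hQ _ _ _).2 ⟨?_, ?_⟩
    · have e := congrArg (ρ g) h1
      rw [map_smul, show ρ g (u i z) = _ from S.rho_U g (hd4 i) z, e0, e1, e2, e3] at e
      exact e
    · have e := congrArg (ρ g) h2'
      rw [map_smul, show ρ g (v i z) = _ from S.rho_U g (hd4 i).swap_last z, e0, e1, e2, e3] at e
      exact e
  set d := finrank k (Q i0 (1, 0)) with hd
  have hdim : ∀ i a, a ≠ 0 → finrank k (Q i a) = d := by
    intro i a ha
    have h1 : finrank k (Q i (1, 0)) = d := le_antisymm (hdimI i i0 _) (hdimI i0 i _)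
    have r1 : R (1, 0) = (0, 1) := by decide
    have r2 : R (0, 1) = (1, 1) := by decide
    have r3 : R (1, 1) = (1, 0) := by decide
    have s1 := hdimR i (1, 0); have s2 := hdimR i (0, 1); have s3 := hdimR i (1, 1)
    rw [r1] at s1; rw [r2] at s2; rw [r3] at s3
    have := (hnz a).1 ha
    simp only [nz, Finset.mem_insert, Finset.mem_singleton] at this
    rcases this with rfl | rfl | rfl <;> omega
  have hd1 : d = 1 := by
    have hpos : 0 < d := by
      by_contra hc
      have hbot : ∀ a, a ≠ 0 → Q i0 a = ⊥ := fun a ha => Submodule.finrank_eq_zero.1 (by rw [hdim i0 a ha]; omega)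
      have hP0 : P (bk (i0, 0)) (bk (i0, 1)) (bk (i0, 2)) (bk (i0, 3)) = ⊥ := le_bot_iff.1 ((hPQ i0).trans (le_of_eq (by
        rw [hbot _ (by decide), hbot _ (by decide), hbot _ (by decide), bot_sup_eq, bot_sup_eq])))
      have hu1 : u i0 = 1 := LinearMap.ext fun z => by
        have hz : (u i0 - 1) z ∈ P (bk (i0, 0)) (bk (i0, 1)) (bk (i0, 2)) (bk (i0, 3)) := Submodule.mem_sup_left ⟨z, rfl⟩
        rw [hP0] at hz
        simpa [sub_eq_zero] using hz
      set a := bk (r := r) (i0, 0)
      set b := bk (r := r) (i0, 1)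
      set c := bk (r := r) (i0, 2)
      set d' := bk (r := r) (i0, 3)
      have h := hd4 i0
      have he : S.L a b d' = S.L b a c := by
        rw [S.L_flip h.1]
        calc S.L a b d' = (S.L a b c * S.L a b c * S.L a b c) * S.L a b d' := by rw [S.L_cube, one_mul]
          _ = S.L a b c * S.L a b c * (S.L a b c * S.L a b d') := by simp only [mul_assoc]
          _ = _ := by rw [show S.L a b c * S.L a b d' = 1 from hu1, mul_one]
      have := DFunLike.congr_fun (S.cyc_eq_of_L_eq h.2.1 h.1.flip he) a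
      rw [cyc_fst h.2.1, cyc_snd h.1.flip] at this
      exact h.1.2.1 this
    let ι := Fin K × {a : ZMod 2 × ZMod 2 // a ≠ 0}
    let Φ : ((p : ι) → Q p.1 p.2.1) →ₗ[k] V := ∑ p : ι, (Q p.1 p.2.1).subtype.comp (LinearMap.proj p)
    have hΦ : Function.Injective Φ := by
      rw [← LinearMap.ker_eq_bot, LinearMap.ker_eq_bot']
      intro f hf
      funext p
      refine Subtype.ext ?_
      let e : Module.End k V := (1 + E p.2.1.1 • u p.1) * (1 + E p.2.1.2 • v p.1)
      have hE2 : ∀ a, E a * E a = 1 := fun a => by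
        rw [← hEadd, show a + a = 0 by revert a; decide, hE0]
      have he : ∀ q : ι, e (f q : V) = if q = p then (4 : k) • (f q : V) else 0 := by
        intro q
        have hu : ∃ b : ZMod 2 × ZMod 2, u p.1 (f q : V) = E b.1 • (f q : V) ∧ v p.1 (f q : V) = E b.2 • (f q : V) ∧
            (q = p ↔ b = p.2.1) := by
          by_cases hq : q.1 = p.1
          · obtain ⟨h1, h2'⟩ := (hQ _ _ _).1 (f q).2
            exact ⟨q.2.1, by rw [← hq]; exact h1, by rw [← hq]; exact h2', ⟨fun h => by rw [h], fun h =>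
              Prod.ext hq (Subtype.ext h)⟩⟩
          · obtain ⟨h1, h2'⟩ := Qtriv q.1 p.1 q.2.1 hq q.2.2 _ (f q).2
            exact ⟨0, by simpa [hE0] using h1, by simpa [hE0] using h2', ⟨fun h => absurd (congrArg Prod.fst h) hq,
              fun h => absurd h.symm p.2.2⟩⟩
        obtain ⟨b, hb1, hb2, hb⟩ := hu
        have : e (f q : V) = ((1 + E p.2.1.1 * E b.1) * (1 + E p.2.1.2 * E b.2)) • (f q : V) := by
          simp only [e, End.mul_apply, LinearMap.add_apply, LinearMap.smul_apply, End.one_apply, hb1, hb2, map_add,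
            map_smul]
          module
        rw [this]
        by_cases hbp : b = p.2.1
        · rw [if_pos (hb.2 hbp), hbp, hE2, hE2]; congr 1; norm_num
        · rw [if_neg (fun h => hbp (hb.1 h))]
          have hor : b.1 ≠ p.2.1.1 ∨ b.2 ≠ p.2.1.2 := by
            by_contra! h; exact hbp (Prod.ext h.1 h.2)
          have hopp : ∀ a b : ZMod 2, a ≠ b → a + b = 1 := by decide
          rcases hor with h | h
          · rw [← hEadd, hopp _ _ (Ne.symm h), hE1, add_neg_cancel, zero_mul, zero_smul]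
          · rw [← hEadd p.2.1.2, hopp _ _ (Ne.symm h), hE1, add_neg_cancel, mul_zero, zero_smul]
      have h0 : e (Φ f) = 0 := by rw [hf, map_zero]
      simp only [Φ, LinearMap.coe_sum, Finset.sum_apply, LinearMap.comp_apply, map_sum, LinearMap.proj_apply,
        Submodule.coe_subtype, he] at h0
      rw [Finset.sum_eq_single p (fun q _ hq => if_neg hq) (fun h => absurd (Finset.mem_univ p) h), if_pos rfl] at h0
      exact (smul_eq_zero.1 h0).resolve_left h4
    have hle := LinearMap.finrank_le_finrank_of_injective hΦ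
    rw [Module.finrank_pi_fintype, Finset.sum_congr rfl (fun q _ => hdim q.1 q.2.1 q.2.2), Finset.sum_const,
      Finset.card_univ, smul_eq_mul] at hle
    have hcard : Fintype.card ι = K * 3 := by
      rw [Fintype.card_prod, Fintype.card_fin]; congr 1
    rw [hcard] at hle
    by_contra hne
    have := Nat.mul_le_mul_left (K * 3) (show 2 ≤ d by omega)
    omega
  have line1 : ∀ i a, a ≠ 0 → ∀ (T : Module.End k V), T * T * T = 1 → (∀ z ∈ Q i a, T z ∈ Q i a) →
      ∀ z ∈ Q i a, T z = z := by
    intro i a ha T hT hinv z hz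
    by_cases hz0 : z = 0
    · rw [hz0, map_zero]
    have hs : Q i a = k ∙ z := (Submodule.eq_of_le_of_finrank_eq ((Submodule.span_singleton_le_iff_mem _ _).2 hz)
      (by rw [finrank_span_singleton hz0, hdim i a ha, hd1])).symm
    have hTz := hinv z hz
    rw [hs] at hTz
    obtain ⟨c, hc⟩ := Submodule.mem_span_singleton.1 hTz
    have e := LinearMap.congr_fun hT z
    simp only [End.mul_apply, ← hc, map_smul, smul_smul, End.one_apply] at e
    have hc3 : c * c * c = 1 := smul_left_injective k hz0 (show (c * c * c) • z = (1 : k) • z by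
      rw [one_smul]; convert e using 2; ring)
    have : (c - 1) * ((c - 1) * (c - 1)) = 0 := by linear_combination hc3 + (c - c ^ 2) * h3
    rw [← hc]
    rcases mul_eq_zero.1 this with h | h
    · rw [sub_eq_zero.1 h, one_smul]
    · rw [sub_eq_zero.1 (mul_self_eq_zero.1 h), one_smul]
  -- a block fixes the space of a disjoint triple
  have fixU0 : ∀ z ∈ S.M (bk (i0, 0)) (bk (i0, 1)) (bk (i0, 2)), u i1 z = z := by
    intro z hz
    obtain ⟨y, rfl⟩ := hz
    have hkill : ∀ t ∈ P (bk (i1, 0)) (bk (i1, 1)) (bk (i1, 2)) (bk (i1, 3)), x i0 t = t := by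
      intro t ht
      have hle : Q i1 (1, 0) ⊔ Q i1 (0, 1) ⊔ Q i1 (1, 1) ≤ LinearMap.ker (x i0 - 1) := by
        have hone : ∀ a, a ≠ 0 → Q i1 a ≤ LinearMap.ker (x i0 - 1) := fun a ha s hs => by
          rw [LinearMap.mem_ker, LinearMap.sub_apply, End.one_apply, sub_eq_zero]
          refine line1 i1 a ha (x i0) (S.L_cube _ _ _) (fun s hs => ?_) s hs
          obtain ⟨h1, h2'⟩ := (hQ i1 a s).1 hs
          obtain ⟨e1, e2⟩ := xcomm i0 i1 h01 s
          exact (hQ _ _ _).2 ⟨by rw [e1, h1, map_smul], by rw [e2, h2', map_smul]⟩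
        exact sup_le (sup_le (hone _ (by decide)) (hone _ (by decide))) (hone _ (by decide))
      simpa [sub_eq_zero] using hle ((hPQ i1) ht)
    have hy := hkill _ (c0mem _ _ _ _ (hd4 i1) y)
    have hfx := (c0fix _ _ _ _ (hd4 i1) y).1
    set t := c0 (bk (i1, 0)) (bk (i1, 1)) (bk (i1, 2)) (bk (i1, 3)) y
    rw [map_sub] at hy
    have e : (x i0 - 1) y = x i0 t - t := by
      rw [LinearMap.sub_apply, End.one_apply]
      linear_combination (norm := abel) hy
    show u i1 ((x i0 - 1) y) = (x i0 - 1) y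
    rw [e, map_sub, (xcomm i0 i1 h01 t).1, show u i1 t = t from hfx]
  have fixU : ∀ a b c e f g h, D3 a b c → D4 e f g h → (∀ z ∈ [e, f, g, h], z ≠ a ∧ z ≠ b ∧ z ≠ c) →
      ∀ z ∈ S.M a b c, S.U e f g h z = z := by
    intro a b c e f g h h1 h2' hd z hz
    simp only [List.mem_cons, List.not_mem_nil, or_false, forall_eq_or_imp, forall_eq] at hd
    obtain ⟨⟨d1, d2, d3⟩, ⟨d4, d5, d6⟩, ⟨d7, d8, d9⟩, ⟨d10, d11, d12⟩⟩ := hd
    obtain ⟨⟨q1, q2, q3⟩, ⟨-, q4, q5⟩, q6⟩ := h2'
    have hf : Function.Injective ![bk (r := r) (i0, 0), bk (i0, 1), bk (i0, 2), bk (i1, 0), bk (i1, 1), bk (i1, 2),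
        bk (i1, 3)] := by
      intro i j
      fin_cases i <;> fin_cases j <;> simp [bk_injective.eq_iff, h01, h01.symm]
    have hf' : Function.Injective ![a, b, c, e, f, g, h] := by
      intro i j
      fin_cases i <;> fin_cases j <;>
        simp [h1.1, h1.2.1, h1.2.2, h1.1.symm, h1.2.1.symm, h1.2.2.symm, q1, q2, q3, q4, q5, q6, q1.symm, q2.symm,
          q3.symm, q4.symm, q5.symm, q6.symm, d1, d2, d3, d4, d5, d6, d7, d8, d9, d10, d11, d12, d1.symm, d2.symm,
          d3.symm, d4.symm, d5.symm, d6.symm, d7.symm, d8.symm, d9.symm, d10.symm, d11.symm, d12.symm]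
    obtain ⟨y, hy⟩ := S.exists_move (n := 7) (by omega) hf hf'
    have e0 := hy 0; have e1 := hy 1; have e2 := hy 2; have e3 := hy 3; have e4 := hy 4; have e5 := hy 5; have e6 := hy 6
    simp only [Fin.isValue, Matrix.cons_val] at e0 e1 e2 e3 e4 e5 e6
    have hm := S.map_M y (hd4 i0).1
    rw [e0, e1, e2] at hm
    rw [← hm] at hz
    obtain ⟨z', hz', rfl⟩ := hz
    have e' := congrArg (ρ y) (fixU0 z' hz')
    rw [show ρ y (u i1 z') = _ from S.rho_U y (hd4 i1) z', e3, e4, e5, e6] at e'
    exact e'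
  have hfix : ∀ a b c e f g, D3 a b c → D3 e f g → (∀ z ∈ [e, f, g], z ≠ a ∧ z ≠ b ∧ z ≠ c) →
      ∀ z ∈ S.M e f g, S.L a b c z = z := by
    intro a b c e f g h1 h2' hd z hz
    simp only [List.mem_cons, List.not_mem_nil, or_false, forall_eq_or_imp, forall_eq] at hd
    obtain ⟨⟨d1, d2, d3⟩, ⟨d4, d5, d6⟩, ⟨d7, d8, d9⟩⟩ := hd
    obtain ⟨h, i, hh, hi, hhi⟩ := exists_two_off ({a, b, c} ∪ {e, f, g}) (by
      have := Finset.card_union_le ({a, b, c} : Finset (Fin r)) {e, f, g}
      have := Finset.card_le_three (a := a) (b := b) (c := c)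
      have := Finset.card_le_three (a := e) (b := f) (c := g)
      omega)
    simp only [Finset.mem_union, Finset.mem_insert, Finset.mem_singleton, not_or] at hh hi
    obtain ⟨⟨ha, hb, hc⟩, he, hf, hg⟩ := hh
    obtain ⟨⟨ia, ib, ic⟩, ie, iff', ig⟩ := hi
    have q1 : D4 a h b i := ⟨⟨Ne.symm ha, hb, h1.1⟩, ⟨Ne.symm ha, hhi, Ne.symm ia⟩, Ne.symm ib⟩
    have q2 : D4 h b i c := ⟨⟨hb, Ne.symm ib, hhi⟩, ⟨hb, h1.2.1, hc⟩, ic⟩
    have f1 := fixU e f g a h b i h2' q1 (by
      simp [Ne.symm d1, Ne.symm d2, Ne.symm d4, Ne.symm d5, Ne.symm d7, Ne.symm d8, he, hf, hg, ie, iff', ig]) z hz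
    have f2 := fixU e f g h b i c h2' q2 (by
      simp [Ne.symm d2, Ne.symm d3, Ne.symm d5, Ne.symm d6, Ne.symm d8, Ne.symm d9, he, hf, hg, ie, iff', ig]) z hz
    have eσ : cycA q1.1 * cycA q1.2.1 * (cycA q2.1 * cycA q2.2.1) = cycA h1 := Subtype.ext (by
      show cyc a h b * cyc a h i * (cyc h b i * cyc h b c) = cyc a b c
      rw [cyc_pair q1, cyc_pair q2, mul_assoc, ← mul_assoc (swap h i) (swap h i), swap_mul_self, one_mul]
      rfl)
    obtain ⟨l, hl⟩ := S.isMult_smul (eσ ▸ isMult_mul (S.U_isMult q1) (S.U_isMult q2)) (S.L_spec h1).1 (by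
      intro hzero
      obtain ⟨w, hw⟩ := exists_ne (0 : V)
      have := LinearMap.congr_fun hzero w
      rw [LinearMap.zero_apply, End.mul_apply] at this
      exact hw (S.U_inj h b i c (S.U_inj a h b i (by rw [this, map_zero, map_zero]))))
    have hLz : S.L a b c z = l • z := by rw [hl, LinearMap.smul_apply, End.mul_apply, f2, f1]
    by_cases hz0 : z = 0
    · rw [hz0, map_zero]
    have e := LinearMap.congr_fun (S.L_cube a b c) z
    simp only [End.mul_apply, hLz, map_smul, smul_smul, End.one_apply] at e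
    have hl3 : l * l * l = 1 := smul_left_injective k hz0 (show (l * l * l) • z = (1 : k) • z by
      rw [one_smul]; convert e using 2; ring)
    have : (l - 1) * ((l - 1) * (l - 1)) = 0 := by linear_combination hl3 + (l - l ^ 2) * h3
    rw [hLz]
    rcases mul_eq_zero.1 this with hh' | hh'
    · rw [sub_eq_zero.1 hh', one_smul]
    · rw [sub_eq_zero.1 (mul_self_eq_zero.1 hh'), one_smul]
  have hMP : ∀ a b c d, D4 a b c d → S.M a b c ≤ P a b c d := by
    intro a b c d h
    rintro _ ⟨y, rfl⟩
    set t := c0 a b c d y with ht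
    obtain ⟨hu, hv⟩ := c0fix a b c d h y
    have hxu : S.U a b c d (S.L a b c t) = S.L a b c t := by rw [← rotv, hv]
    have hxv : S.U a b d c (S.L a b c t) = S.L a b c t := by
      have e := rotu a b c d h t
      rw [hu] at e
      have e' := congrArg (S.U a b c d) e
      rw [hsq a b c d h, hxu] at e'
      exact e'.symm
    set z := S.L a b c t - t with hz
    have hzu : S.U a b c d z = z := by rw [hz, map_sub, hxu, hu]
    have hzv : S.U a b d c z = z := by rw [hz, map_sub, hxv, hv]
    have hzM : z ∈ S.M a b c := S.sub_mem_M a b c t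
    have hz0 : z = 0 := by
      refine S.eq_zero_of_fixed_of z {a, b, c, d} (by
        have := Finset.card_le_four (a := a) (b := b) (c := c) (d := d); omega) fun p q s hpqs hq hs => ?_
      simp only [Finset.mem_insert, Finset.mem_singleton, not_or] at hq hs
      obtain ⟨h1, h2', hcd⟩ := h
      have base : ∀ p, p ≠ a → p ≠ b → p ≠ c → D3 p q s → S.L p q s z = z := fun p pa pb pc hd =>
        hfix p q s a b c hd h1 (by
          simp [Ne.symm pa, Ne.symm pb, Ne.symm pc, Ne.symm hq.1, Ne.symm hq.2.1, Ne.symm hq.2.2.1,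
            Ne.symm hs.1, Ne.symm hs.2.1, Ne.symm hs.2.2.1]) z hzM
      by_cases hp : p ≠ a ∧ p ≠ b ∧ p ≠ c
      · exact base p hp.1 hp.2.1 hp.2.2 hpqs
      have hdqs : D3 d q s := ⟨Ne.symm hq.2.2.2, hpqs.2.1, Ne.symm hs.2.2.2⟩
      have hd0 := base d h2'.2.2.symm h2'.2.1.symm hcd.symm hdqs
      have move : ∀ (σ : alternatingGroup (Fin r)) (T : Module.End k V), IsMult ρ π σ T → T z = z →
          (σ : Equiv.Perm (Fin r)) d = p → (σ : Equiv.Perm (Fin r)) q = q → (σ : Equiv.Perm (Fin r)) s = s →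
          S.L p q s z = z := by
        intro σ T hT hTz e1 e2 e3
        have := S.fixed_transport hT hTz hdqs hd0
        rwa [e1, e2, e3] at this
      have hdd : D4 a b c d := ⟨h1, h2', hcd⟩
      have hcyc1 : ((cycA hdd.1 * cycA hdd.2.1 : alternatingGroup (Fin r)) : Equiv.Perm (Fin r)) = swap a c * swap b d :=
        cyc_pair hdd
      have hcyc2 : ((cycA hdd.swap_last.1 * cycA hdd.swap_last.2.1 : alternatingGroup (Fin r)) : Equiv.Perm (Fin r)) =
          swap a d * swap b c := cyc_pair hdd.swap_last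
      have fixq : ∀ (t : Fin r), t ≠ a → t ≠ b → t ≠ c → t ≠ d →
          (swap a c * swap b d : Equiv.Perm (Fin r)) t = t ∧ (swap a d * swap b c : Equiv.Perm (Fin r)) t = t := by
        intro t ta tb tc td
        simp [Perm.mul_apply, swap_apply_of_ne_of_ne, ta, tb, tc, td]
      obtain ⟨q1, q2⟩ := fixq q hq.1 hq.2.1 hq.2.2.1 hq.2.2.2
      obtain ⟨s1, s2⟩ := fixq s hs.1 hs.2.1 hs.2.2.1 hs.2.2.2
      by_cases hpa : p = a
      · subst hpa
        refine move _ _ (S.U_isMult hdd.swap_last) hzv ?_ (by rw [hcyc2]; exact q2) (by rw [hcyc2]; exact s2)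
        rw [hcyc2, Perm.mul_apply, swap_apply_of_ne_of_ne h2'.2.1.symm hcd.symm, swap_apply_right]
      by_cases hpb : p = b
      · subst hpb
        refine move _ _ (S.U_isMult hdd) hzu ?_ (by rw [hcyc1]; exact q1) (by rw [hcyc1]; exact s1)
        rw [hcyc1, Perm.mul_apply, swap_apply_right, swap_apply_of_ne_of_ne h1.1.symm h1.2.1]
      have hpc : p = c := by by_contra hc; exact hp ⟨hpa, hpb, hc⟩
      subst hpc
      refine move _ _ (isMult_mul (S.U_isMult hdd) (S.U_isMult hdd.swap_last))
        (by rw [End.mul_apply, hzv, hzu]) ?_ ?_ ?_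
      · rw [Subgroup.coe_mul, hcyc1, hcyc2]
        simp only [Perm.mul_apply]
        rw [swap_apply_of_ne_of_ne h2'.2.1.symm hcd.symm, swap_apply_right,
          swap_apply_of_ne_of_ne h1.1 h2'.2.2, swap_apply_left]
      · rw [Subgroup.coe_mul, hcyc1, hcyc2, Perm.mul_apply, q2, q1]
      · rw [Subgroup.coe_mul, hcyc1, hcyc2, Perm.mul_apply, s2, s1]
    have hmem := sub_mem (hPinv a b c d h _ (c0mem a b c d h y)) (c0mem a b c d h y)
    rw [map_sub, ← ht] at hmem
    show (S.L a b c - 1) y ∈ _
    have e : (S.L a b c - 1) y = S.L a b c y - S.L a b c t - (y - t) := by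
      rw [LinearMap.sub_apply, End.one_apply]
      rw [hz] at hz0
      linear_combination (norm := abel) hz0
    rw [e]
    exact hmem
  -- the standard block
  obtain ⟨z0, hz0, hz00⟩ := (Submodule.ne_bot_iff (Q i0 (1, 0))).1 (fun e => by
    rw [hd, e, finrank_bot] at hd1; omega)
  set z1 := x i0 z0 with hz1
  set z2 := x i0 z1 with hz2
  obtain ⟨m0a, m0b⟩ := (hQ _ _ _).1 hz0
  have m1 := rot i0 z0 (1, 0) m0a m0b
  have m2 := rot i0 z1 (R (1, 0)) m1.1 m1.2
  have hz10 : z1 ≠ 0 := fun e => hz00 (hxinj i0 (by rw [← hz1, e, map_zero]))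
  have hz20 : z2 ≠ 0 := fun e => hz10 (hxinj i0 (by rw [← hz2, e, map_zero]))
  have hz3 : x i0 z2 = z0 := by
    show x i0 (x i0 (x i0 z0)) = z0
    rw [← End.mul_apply, ← End.mul_apply, S.L_cube, End.one_apply]
  have hlines : ∀ a z, a ≠ 0 → z ∈ Q i0 a → z ≠ 0 → Q i0 a = k ∙ z := fun a z ha hz hz' =>
    (Submodule.eq_of_le_of_finrank_eq ((Submodule.span_singleton_le_iff_mem _ _).2 hz)
      (by rw [finrank_span_singleton hz', hdim i0 a ha, hd1])).symm
  set P0 := P (bk (i0, 0)) (bk (i0, 1)) (bk (i0, 2)) (bk (i0, 3)) with hP0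
  have hP0le : P0 ≤ (k ∙ z0) ⊔ (k ∙ z1) ⊔ (k ∙ z2) := by
    refine (hPQ i0).trans (le_of_eq ?_)
    have r1 : R (1, 0) = (0, 1) := by decide
    have r2 : R (R (1, 0)) = (1, 1) := by decide
    rw [hlines (1, 0) z0 (by decide) hz0 hz00, hlines (0, 1) z1 (by decide) (r1 ▸ (hQ _ _ _).2 m1) hz10,
      hlines (1, 1) z2 (by decide) (r2 ▸ (hQ _ _ _).2 m2) hz20]
  have hP03 : finrank k P0 ≤ 3 := by
    refine (Submodule.finrank_mono hP0le).trans ?_
    refine (Submodule.finrank_add_le_finrank_add_finrank _ _).trans ?_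
    have := Submodule.finrank_add_le_finrank_add_finrank (k ∙ z0) (k ∙ z1)
    rw [finrank_span_singleton hz00, finrank_span_singleton hz10] at this
    rw [finrank_span_singleton hz20]
    omega
  have hind : ∀ c e f : k, c • z0 + e • z1 + f • z2 = 0 → c = 0 ∧ e = 0 ∧ f = 0 := by
    intro c e f hs
    have eu := congrArg (u i0) hs
    have ev := congrArg (v i0) hs
    have r1 : R (1, 0) = (0, 1) := by decide
    have r2 : R (R (1, 0)) = (1, 1) := by decide
    have e1u : u i0 z1 = z1 := by
      have h := m1.1; rw [r1, hE0, one_smul] at h; exact h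
    have e1v : v i0 z1 = -z1 := by
      have h := m1.2; rw [r1, hE1, neg_one_smul] at h; exact h
    have e2u : u i0 z2 = -z2 := by
      have h := m2.1; rw [r2, hE1, neg_one_smul] at h; exact h
    have e2v : v i0 z2 = -z2 := by
      have h := m2.2; rw [r2, hE1, neg_one_smul] at h; exact h
    simp only [map_add, map_smul, map_zero, m0a, m0b, e1u, e1v, e2u, e2v, hE0, hE1, one_smul, neg_one_smul, smul_neg] at eu ev
    have k1 : (2 : k) • (e • z1) = 0 := by linear_combination (norm := module) hs + eu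
    have k0 : (2 : k) • (c • z0) = 0 := by linear_combination (norm := module) hs + ev
    have he0 : e = 0 := (smul_eq_zero.1 ((smul_eq_zero.1 k1).resolve_left h2)).resolve_right hz10
    have hc0 : c = 0 := (smul_eq_zero.1 ((smul_eq_zero.1 k0).resolve_left h2)).resolve_right hz00
    rw [he0, hc0, zero_smul, zero_smul, zero_add, zero_add] at hs
    exact ⟨hc0, he0, (smul_eq_zero.1 hs).resolve_right hz20⟩
  have htwo0 : finrank k (S.M (bk (i0, 0)) (bk (i0, 1)) (bk (i0, 2))) = 2 := by
    have hM : S.M (bk (i0, 0)) (bk (i0, 1)) (bk (i0, 2)) ≤ P0 := hMP _ _ _ _ (hd4 i0)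
    refine le_antisymm ?_ ?_
    · by_contra hc
      have heq := Submodule.eq_of_le_of_finrank_le hM (by omega)
      have hz0P : z0 ∈ P0 := by
        refine Submodule.mem_sup_left ⟨(-(2 : k)⁻¹) • z0, ?_⟩
        show (u i0 - 1) _ = z0
        rw [LinearMap.sub_apply, End.one_apply, map_smul, m0a, hE1, smul_smul, ← sub_smul]
        rw [show -(2 : k)⁻¹ * -1 - -(2 : k)⁻¹ = 1 by field_simp; norm_num, one_smul]
      rw [← heq] at hz0P
      obtain ⟨w, hw⟩ := S.mem_M.1 hz0P
      have hn0 := S.norm_M hz0P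
      have hi := hind 1 1 1 (by rw [one_smul, one_smul, one_smul]; show z0 + x i0 z0 + x i0 (x i0 z0) = 0; rw [← hn0]; abel)
      exact one_ne_zero hi.1
    · let f : Fin 2 → V := ![z1 - z0, z2 - z1]
      have hf : LinearIndependent k f := by
        rw [LinearIndependent.pair_iff]
        intro s t hst
        obtain ⟨h1, -, h3'⟩ := hind (-s) (s - t) t (by rw [← hst]; module)
        exact ⟨neg_eq_zero.1 h1, h3'⟩
      have hle : Submodule.span k (Set.range f) ≤ S.M (bk (i0, 0)) (bk (i0, 1)) (bk (i0, 2)) := by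
        rw [Submodule.span_le]
        rintro _ ⟨j, rfl⟩
        fin_cases j
        · exact S.sub_mem_M _ _ _ z0
        · exact S.sub_mem_M _ _ _ z1
      have := Submodule.finrank_mono hle
      rwa [finrank_span_eq_card hf, Fintype.card_fin] at this
  have htwo : ∀ a b c, D3 a b c → finrank k (S.M a b c) = 2 := fun a b c h => by
    rw [S.finrank_M h (hd4 i0).1]; exact htwo0
  have hthree : ∀ a b c d, D4 a b c d → finrank k (S.M a b c ⊔ S.M a b d : Submodule k V) ≤ 3 := by
    intro a b c d h
    obtain ⟨g, hg⟩ := S.exists_move (n := 4) (by omega) (hd4 i0).inj h.inj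
    have e0 := hg 0; have e1 := hg 1; have e2 := hg 2; have e3 := hg 3
    simp only [Fin.isValue, Matrix.cons_val] at e0 e1 e2 e3
    rw [← e0, ← e1, ← e2, ← e3, ← S.map_M g (hd4 i0).1, ← S.map_M g (hd4 i0).2.1, ← Submodule.map_sup,
      ← (Submodule.equivMapOfInjective _ (rho_injective g) _).finrank_eq]
    refine (Submodule.finrank_mono (sup_le (hMP _ _ _ _ (hd4 i0)) ?_)).trans hP03
    exact (hMP _ _ _ _ (hd4 i0).swap_last).trans (le_of_eq (hPswap _ _ _ _))
  exact hcon (Natural.bound ⟨htwo, hfix, hthree⟩ p)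

end IsProj

end CfsgLib.AltRep
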