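import Cfsg.Agent.Lib.AltRep.QuadRelations

/-!
# In characteristic three, the faithful spin case: three-cycles act quadratically
-/

set_option autoImplicit false
set_option linter.unusedSectionVars false

namespace CfsgLib.AltRep

open Equiv Equiv.Perm Module

variable {r : ℕ} {k V H : Type*} [Field k] [IsAlgClosed k] [AddCommGroup V] [Module k V] [Group H]

namespace IsProj

variable {ρ : H →* Module.End k V} {π : H →* alternatingGroup (Fin r)} (S : IsProj ρ π)

theorem two_pow_grow {k' : ℕ} (h : 3 ≤ k') : 2 * k' + 2 ≤ 2 ^ k' := by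
  induction k', h using Nat.le_induction with
  | base => norm_num
  | succ k hk ih => rw [pow_succ]; omega

include S in
set_option maxHeartbeats 800000 in
theorem quadratic_of_spin [FiniteDimensional k V] (h3 : (3 : k) = 0)
    (hsign : ∀ a b c d, D4 a b c d → S.U a b c d * S.U a b c d = (-1 : k) • 1)
    (hn : finrank k V + 2 ≤ r) : ∀ a b c, D3 a b c → S.L a b c * S.L a b c + S.L a b c + 1 = 0 := by
  classical
  haveI := S.nontrivial
  have hr := S.nine
  have h2 : (2 : k) ≠ 0 := fun h => one_ne_zero (show (1 : k) = 0 by linear_combination h3 - h)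
  let o : Fin r := ⟨0, by omega⟩
  let i₁ : Fin r := ⟨1, by omega⟩
  let i₂ : Fin r := ⟨2, by omega⟩
  have hd0 : D3 o i₁ i₂ := by simp [D3, o, i₁, i₂, Fin.ext_iff]
  set x := S.L o i₁ i₂ with hx
  set N := x - 1 with hN
  suffices hN2 : N * N = 0 by
    intro a b c h
    have hf : Function.Injective ![o, i₁, i₂] := by
      intro i j; fin_cases i <;> fin_cases j <;> simp [o, i₁, i₂, Fin.ext_iff]
    have hf' : Function.Injective ![a, b, c] := by
      intro i j; fin_cases i <;> fin_cases j <;> simp [h.1, h.2.1, h.2.2, h.1.symm, h.2.1.symm, h.2.2.symm]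
    obtain ⟨g, hg⟩ := S.exists_move (n := 3) (by omega) hf hf'
    have e0 := hg 0; have e1 := hg 1; have e2 := hg 2
    simp only [Fin.isValue, Matrix.cons_val] at e0 e1 e2
    refine LinearMap.ext fun v => ?_
    obtain ⟨z, rfl⟩ : ∃ z, ρ g z = v := ⟨ρ g⁻¹ v, by rw [← End.mul_apply, rho_mul_inv, End.one_apply]⟩
    have hz : x (x z) + x z + z = 0 := by
      have e : x * x + x + 1 = N * N + (3 : k) • x := by
        simp only [hN, sub_mul, mul_sub, one_mul, mul_one]
        module
      have := LinearMap.congr_fun e z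
      rw [hN2, h3, zero_smul, zero_add] at this
      simpa using this
    have e := congrArg (ρ g) hz
    rw [map_add, map_add, map_zero, S.rho_L g hd0, S.rho_L g hd0, e0, e1, e2] at e
    simpa using e
  by_contra hN2
  -- quads
  let pt : ℕ → ℕ → ℕ → Fin r := fun s i j => ⟨(s + 4 * i + j) % r, Nat.mod_lt _ (by omega)⟩
  have pt_ne : ∀ s i j i' j', s + 4 * i + j < r → s + 4 * i' + j' < r → s + 4 * i + j ≠ s + 4 * i' + j' →
      pt s i j ≠ pt s i' j' := fun s i j i' j' h h' hne e => hne (by
    simpa [pt, Fin.ext_iff, Nat.mod_eq_of_lt h, Nat.mod_eq_of_lt h'] using e)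
  have d4 : ∀ s l i, s + 4 * l ≤ r → i < l → D4 (pt s i 0) (pt s i 1) (pt s i 2) (pt s i 3) := fun s l i h hi =>
    ⟨⟨pt_ne _ _ _ _ _ (by omega) (by omega) (by omega), pt_ne _ _ _ _ _ (by omega) (by omega) (by omega),
      pt_ne _ _ _ _ _ (by omega) (by omega) (by omega)⟩,
     ⟨pt_ne _ _ _ _ _ (by omega) (by omega) (by omega), pt_ne _ _ _ _ _ (by omega) (by omega) (by omega),
      pt_ne _ _ _ _ _ (by omega) (by omega) (by omega)⟩, pt_ne _ _ _ _ _ (by omega) (by omega) (by omega)⟩
  have dvd : ∀ (s l : ℕ), s + 4 * l ≤ r → ∀ W : Submodule k V,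
      (∀ a b c, D3 a b c → (s ≤ (a : ℕ) ∧ s ≤ (b : ℕ) ∧ s ≤ (c : ℕ)) → ∀ w ∈ W, S.L a b c w ∈ W) →
      2 ^ l ∣ finrank k W := by
    intro s l hl W hW
    refine two_pow_dvd_finrank h2 l (fun i => S.U (pt s i 0) (pt s i 1) (pt s i 2) (pt s i 3))
      (fun i => S.U (pt s i 0) (pt s i 1) (pt s i 3) (pt s i 2)) (fun i => ?_) (fun i => ?_) (fun i => S.U_inj _ _ _ _)
      (fun i j hij => ?_) W fun i w hw => ?_
    · rw [S.U_sq hsign (d4 s l i hl i.2), neg_one_smul]
    · rw [S.U_comm (by ring) hsign (d4 s l i hl i.2), neg_one_smul]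
    · have hij' : (i : ℕ) ≠ j := fun e => hij (Fin.ext e)
      have := i.2; have := j.2
      have hc : ∀ p q : ℕ, p < 4 → q < 4 → p ≠ 0 → p ≠ 1 → q ≠ 0 → q ≠ 1 →
          S.L (pt s i 0) (pt s i 1) (pt s i p) * S.L (pt s j 0) (pt s j 1) (pt s j q) =
            S.L (pt s j 0) (pt s j 1) (pt s j q) * S.L (pt s i 0) (pt s i 1) (pt s i p) := by
        intro p q hp hq h1 h2 h3 h4
        refine S.L_comm ⟨?_, ?_, ?_⟩ ⟨?_, ?_, ?_⟩ ?_
        all_goals try exact pt_ne _ _ _ _ _ (by omega) (by omega) (by omega)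
        simp only [List.mem_cons, List.not_mem_nil, or_false, forall_eq_or_imp, forall_eq]
        refine ⟨⟨?_, ?_, ?_⟩, ⟨?_, ?_, ?_⟩, ⟨?_, ?_, ?_⟩⟩ <;>
          exact pt_ne _ _ _ _ _ (by omega) (by omega) (by omega)
      have hcu : ∀ p, p < 4 → p ≠ 0 → p ≠ 1 →
          S.L (pt s i 0) (pt s i 1) (pt s i p) * S.U (pt s j 0) (pt s j 1) (pt s j 2) (pt s j 3) =
            S.U (pt s j 0) (pt s j 1) (pt s j 2) (pt s j 3) * S.L (pt s i 0) (pt s i 1) (pt s i p) :=
        fun p h1 h2 h3 => S.commute_U (hc p 2 h1 (by omega) h2 h3 (by omega) (by omega))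
          (hc p 3 h1 (by omega) h2 h3 (by omega) (by omega))
      have hcv : ∀ p, p < 4 → p ≠ 0 → p ≠ 1 →
          S.L (pt s i 0) (pt s i 1) (pt s i p) * S.U (pt s j 0) (pt s j 1) (pt s j 3) (pt s j 2) =
            S.U (pt s j 0) (pt s j 1) (pt s j 3) (pt s j 2) * S.L (pt s i 0) (pt s i 1) (pt s i p) :=
        fun p h1 h2 h3 => S.commute_U (hc p 3 h1 (by omega) h2 h3 (by omega) (by omega))
          (hc p 2 h1 (by omega) h2 h3 (by omega) (by omega))
      constructor
      · exact (S.commute_U (hcu 2 (by omega) (by omega) (by omega)).symm (hcu 3 (by omega) (by omega) (by omega)).symm).symm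
      · exact (S.commute_U (hcv 2 (by omega) (by omega) (by omega)).symm (hcv 3 (by omega) (by omega) (by omega)).symm).symm
    · have h := d4 s l i hl i.2
      have := i.2
      have hge : ∀ j, j < 4 → s ≤ (pt s i j : ℕ) := fun j hj => by
        simp only [pt]; rw [Nat.mod_eq_of_lt (by omega)]; omega
      have h1 := fun w hw => hW _ _ _ h.1 ⟨hge 0 (by omega), hge 1 (by omega), hge 2 (by omega)⟩ w hw
      have h2 := fun w hw => hW _ _ _ h.2.1 ⟨hge 0 (by omega), hge 1 (by omega), hge 3 (by omega)⟩ w hw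
      exact ⟨h1 _ (h2 w hw), h2 _ (h1 w hw)⟩
  set T := LinearMap.range (N * N) with hT
  have hx3 : x * x * x = 1 := S.L_cube _ _ _
  have hN3 : N * N * N = 0 := by
    have e : N * N * N = (x * x * x - 1) - (3 : k) • (x * x - x) := by
      simp only [hN, sub_mul, mul_sub, one_mul, mul_one]
      module
    rw [e, hx3, h3, sub_self, zero_smul, sub_self]
  have hTinv : ∀ a b c, D3 a b c → (3 ≤ (a : ℕ) ∧ 3 ≤ (b : ℕ) ∧ 3 ≤ (c : ℕ)) → ∀ w ∈ T, S.L a b c w ∈ T := by
    rintro a b c h ⟨ha, hb, hc⟩ _ ⟨z, rfl⟩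
    have e : x * S.L a b c = S.L a b c * x := by
      refine S.L_comm hd0 h ?_
      simp only [List.mem_cons, List.not_mem_nil, or_false, forall_eq_or_imp, forall_eq, o, i₁, i₂, ne_eq, Fin.ext_iff]
      omega
    have eN : N * S.L a b c = S.L a b c * N := by simp only [hN, sub_mul, mul_sub, one_mul, mul_one, e]
    refine ⟨S.L a b c z, ?_⟩
    rw [← End.mul_apply, mul_assoc, eN, ← mul_assoc, eN, mul_assoc]
    rfl
  set a := finrank k T with ha
  have ha0 : 0 < a := by
    rcases Nat.eq_zero_or_pos a with h | h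
    · exact absurd (LinearMap.range_eq_bot.1 (Submodule.finrank_eq_zero.1 h)) hN2
    · exact h
  have h3a : 3 * a ≤ finrank k V := by
    have e1 : a + finrank k (LinearMap.range N ⊓ LinearMap.ker N : Submodule k V) ≤ finrank k (LinearMap.range N) := by
      have h := LinearMap.finrank_range_add_finrank_ker (N.domRestrict (LinearMap.range N))
      have hr' : LinearMap.range (N.domRestrict (LinearMap.range N)) = T := by
        ext v
        constructor
        · rintro ⟨⟨_, w, rfl⟩, rfl⟩; exact ⟨w, rfl⟩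
        · rintro ⟨w, rfl⟩; exact ⟨⟨N w, w, rfl⟩, rfl⟩
      have hk : finrank k (LinearMap.ker (N.domRestrict (LinearMap.range N))) =
          finrank k (LinearMap.range N ⊓ LinearMap.ker N : Submodule k V) := by
        refine (LinearEquiv.finrank_eq ?_)
        exact
          { toFun := fun v => ⟨v.1.1, v.1.2, v.2⟩
            invFun := fun v => ⟨⟨v.1, v.2.1⟩, v.2.2⟩
            map_add' := fun _ _ => rfl
            map_smul' := fun _ _ => rfl
            left_inv := fun _ => rfl
            right_inv := fun _ => rfl }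
      rw [hr', hk] at h
      omega
    have e2 : a ≤ finrank k (LinearMap.range N ⊓ LinearMap.ker N : Submodule k V) := by
      refine Submodule.finrank_mono ?_
      rintro _ ⟨w, rfl⟩
      refine ⟨⟨N w, rfl⟩, ?_⟩
      show N ((N * N) w) = 0
      rw [← End.mul_apply, ← mul_assoc, hN3]; rfl
    have e3 := LinearMap.finrank_range_add_finrank_ker N
    have e4 : a + finrank k (LinearMap.range N ⊓ LinearMap.ker N : Submodule k V) ≤ finrank k (LinearMap.range N) := e1
    have e5 : finrank k (LinearMap.range N) - a ≤ finrank k (LinearMap.ker N) := by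
      have h := LinearMap.finrank_range_add_finrank_ker (N.domRestrict (LinearMap.range N))
      have hr' : LinearMap.range (N.domRestrict (LinearMap.range N)) = T := by
        ext v
        constructor
        · rintro ⟨⟨_, w, rfl⟩, rfl⟩; exact ⟨w, rfl⟩
        · rintro ⟨w, rfl⟩; exact ⟨⟨N w, w, rfl⟩, rfl⟩
      rw [hr'] at h
      have hle : finrank k (LinearMap.ker (N.domRestrict (LinearMap.range N))) ≤ finrank k (LinearMap.ker N) := by
        refine LinearMap.finrank_le_finrank_of_injective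
          (f := ((LinearMap.range N).subtype.comp (LinearMap.ker (N.domRestrict (LinearMap.range N))).subtype).codRestrict
            (LinearMap.ker N) fun v => ?_) ?_
        · exact v.2
        · intro u v h'
          have h'' : ((u : LinearMap.range N) : V) = ((v : LinearMap.range N) : V) := congrArg
            (fun z : LinearMap.ker N => (z : V)) h'
          exact Subtype.ext (Subtype.ext h'')
      omega
    omega
  have hdv : 2 ^ ((r - 3) / 4) ∣ a := dvd 3 _ (by omega) T hTinv
  have hdn : 2 ^ (r / 4) ∣ finrank k V := by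
    have := dvd 0 (r / 4) (by omega) ⊤ (fun _ _ _ _ _ _ _ => Submodule.mem_top)
    rwa [finrank_top] at this
  have ha2 : 10 ≤ r → a ≠ 2 := by
    intro h10 hea
    have key : ∀ b, b = 6 ∨ b = 5 → ∀ c : Fin r, (c : ℕ) = (if b = 6 then 5 else 6) → ∀ w ∈ T,
        S.L (⟨3, by omega⟩ : Fin r) ⟨4, by omega⟩ c w = w := by
      intro b hb c hc
      -- `c` is outside the quad `b, 7, 8, 9`
      let q0 : Fin r := ⟨b, by omega⟩
      let q1 : Fin r := ⟨7, by omega⟩
      let q2 : Fin r := ⟨8, by omega⟩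
      let q3 : Fin r := ⟨9, by omega⟩
      have h4 : D4 q0 q1 q2 q3 := by
        simp [D4, D3, q0, q1, q2, q3, Fin.ext_iff]; omega
      set u := S.U q0 q1 q2 q3
      set v := S.U q0 q1 q3 q2
      set z := S.L (⟨3, by omega⟩ : Fin r) ⟨4, by omega⟩ c
      have hz : D3 (⟨3, by omega⟩ : Fin r) ⟨4, by omega⟩ c := by
        simp [D3, Fin.ext_iff, hc]; split_ifs <;> omega
      have hc1 : z * S.L q0 q1 q2 = S.L q0 q1 q2 * z := by
        refine S.L_comm hz h4.1 ?_
        simp only [List.mem_cons, List.not_mem_nil, or_false, forall_eq_or_imp, forall_eq, q0, q1, q2, ne_eq, Fin.ext_iff, hc]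
        split_ifs <;> omega
      have hc2 : z * S.L q0 q1 q3 = S.L q0 q1 q3 * z := by
        refine S.L_comm hz h4.2.1 ?_
        simp only [List.mem_cons, List.not_mem_nil, or_false, forall_eq_or_imp, forall_eq, q0, q1, q3, ne_eq, Fin.ext_iff, hc]
        split_ifs <;> omega
      have hzu : z * u = u * z := S.commute_U hc1 hc2
      have hzv : z * v = v * z := S.commute_U hc2 hc1
      have hzT : ∀ w ∈ T, z w ∈ T := hTinv _ _ _ hz ⟨le_rfl, by norm_num, by rw [hc]; split_ifs <;> omega⟩
      -- `u, v` act irreducibly on the two dimensions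
      have hinvT : ∀ (W : Submodule k V), (∀ w ∈ W, u w ∈ W) → (∀ w ∈ W, v w ∈ W) → 2 ∣ finrank k W := by
        intro W hu hv
        have := two_pow_dvd_finrank h2 1 (fun _ => u) (fun _ => v)
          (fun _ => by rw [S.U_sq hsign h4, neg_one_smul])
          (fun _ => by rw [S.U_comm (by ring) hsign h4, neg_one_smul]) (fun _ => S.U_inj _ _ _ _)
          (fun i j hij => absurd (Subsingleton.elim i j) hij) W fun _ w hw => ⟨hu w hw, hv w hw⟩
        simpa using this
      have huT : ∀ w ∈ T, u w ∈ T ∧ v w ∈ T := by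
        have a1 := hTinv _ _ _ h4.1 ⟨by show 3 ≤ b; omega, by norm_num [q1], by norm_num [q2]⟩
        have a2 := hTinv _ _ _ h4.2.1 ⟨by show 3 ≤ b; omega, by norm_num [q1], by norm_num [q3]⟩
        exact fun w hw => ⟨a1 _ (a2 w hw), a2 _ (a1 w hw)⟩
      haveI : Nontrivial T := Module.nontrivial_of_finrank_pos (R := k) ha0
      obtain ⟨e, he⟩ := End.exists_eigenvalue (z.restrict hzT)
      obtain ⟨w₀, hw₀⟩ := he.exists_hasEigenvector
      let W := T ⊓ LinearMap.ker (z - e • (1 : Module.End k V))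
      have hW : ∀ w, w ∈ W ↔ w ∈ T ∧ z w = e • w := fun w => by simp [W, sub_eq_zero]
      have hw0 : (w₀ : V) ∈ W := (hW _).2 ⟨w₀.2, congrArg Subtype.val hw₀.apply_eq_smul⟩
      have hdW : 2 ∣ finrank k W := by
        refine hinvT W (fun w hw => ?_) fun w hw => ?_
        · obtain ⟨h1, h2'⟩ := (hW w).1 hw
          exact (hW _).2 ⟨(huT w h1).1, by rw [← End.mul_apply, hzu, End.mul_apply, h2', map_smul]⟩
        · obtain ⟨h1, h2'⟩ := (hW w).1 hw
          exact (hW _).2 ⟨(huT w h1).2, by rw [← End.mul_apply, hzv, End.mul_apply, h2', map_smul]⟩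
      have hne : W ≠ ⊥ := fun h => hw₀.2 (Subtype.ext ((Submodule.eq_bot_iff W).1 h _ hw0))
      have hWT : W = T := by
        refine Submodule.eq_of_le_of_finrank_le inf_le_left ?_
        rw [← ha, hea]
        have : 0 < finrank k W := Nat.pos_of_ne_zero fun h => hne (Submodule.finrank_eq_zero.1 h)
        obtain ⟨m, hm⟩ := hdW
        omega
      have he1 : e = 1 := by
        have e3 := LinearMap.congr_fun (S.L_cube (⟨3, by omega⟩ : Fin r) ⟨4, by omega⟩ c) (w₀ : V)
        simp only [End.mul_apply, End.one_apply] at e3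
        change z (z (z w₀)) = _ at e3
        rw [((hW _).1 hw0).2, map_smul, ((hW _).1 hw0).2, map_smul, map_smul, ((hW _).1 hw0).2, smul_smul,
          smul_smul] at e3
        have h1 : e * e * e = 1 := smul_left_injective k (fun h => hw₀.2 (Subtype.ext h))
          (show (e * e * e) • (w₀ : V) = (1 : k) • (w₀ : V) by rw [one_smul]; exact e3)
        have : (e - 1) * ((e - 1) * (e - 1)) = 0 := by linear_combination h1 + (e - e ^ 2) * h3
        rcases mul_eq_zero.1 this with h | h
        · exact sub_eq_zero.1 h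
        · exact sub_eq_zero.1 (mul_self_eq_zero.1 h)
      intro w hw
      rw [← hWT] at hw
      rw [((hW w).1 hw).2, he1, one_smul]
    set a3 : Fin r := ⟨3, by omega⟩
    set a4 : Fin r := ⟨4, by omega⟩
    have h5 := key 6 (Or.inl rfl) ⟨5, by omega⟩ (by simp)
    have h6 := key 5 (Or.inr rfl) ⟨6, by omega⟩ (by simp)
    have hu := hsign a3 a4 ⟨5, by omega⟩ ⟨6, by omega⟩ (by simp [D4, D3, a3, a4, Fin.ext_iff])
    obtain ⟨w, hw, hw0⟩ := (Submodule.ne_bot_iff T).1 (fun h => by
      rw [ha, h, finrank_bot] at ha0; omega)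
    have e := LinearMap.congr_fun hu w
    simp only [U, End.mul_apply, h5 _ hw, h6 _ hw, neg_one_smul, LinearMap.neg_apply, End.one_apply] at e
    refine hw0 ((smul_eq_zero.1 (show (2 : k) • w = 0 from ?_)).resolve_left h2)
    rw [two_smul]
    exact add_eq_zero_iff_eq_neg.2 e
  -- arithmetic
  set n := finrank k V
  rcases Nat.lt_or_ge r 15 with h15 | h15
  · obtain ⟨m, hm⟩ := hdn
    obtain ⟨l, hl⟩ := hdv
    have hcases : r = 9 ∨ r = 10 ∨ r = 11 ∨ r = 12 ∨ r = 13 ∨ r = 14 := by omega
    rcases hcases with h | h | h | h | h | h <;> rw [h] at hm hl <;> norm_num at hm hl <;>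
      first | omega | (have := ha2 (by omega); omega)
  · have h1 := Nat.le_of_dvd ha0 hdv
    have h2' := two_pow_grow (k' := (r - 3) / 4) (by omega)
    omega

end IsProj

end CfsgLib.AltRep
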