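import Cfsg.Agent.Lib.AltRep.TriplePrime
import Cfsg.Agent.Lib.AltRep.ThreeSpin
import Cfsg.Agent.Lib.AltRep.ThreeLinear

/-!
# The least degree of an irreducible projective representation of an alternating group
-/

set_option autoImplicit false

namespace CfsgLib.AltRep

open Module

variable {r : ℕ} {k V H : Type*} [Field k] [IsAlgClosed k] [AddCommGroup V] [Module k V] [Group H]

/-- A faithful irreducible projective representation of `A_r`, `r ≥ 9`, has dimension at least `r - 2`,
and at least `r - 1` unless the characteristic divides `r`. -/
theorem IsProj.degree_bound [FiniteDimensional k V] {ρ : H →* Module.End k V} {π : H →* alternatingGroup (Fin r)}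
    (S : IsProj ρ π) (p : ℕ) [Fact p.Prime] [CharP k p] :
    r - 1 - (if p ∣ r then 1 else 0) ≤ finrank k V := by
  by_cases h3 : (3 : k) = 0
  · have hp3 : p = 3 := by
      have h := (CharP.cast_eq_zero_iff k p 3).1 (by exact_mod_cast h3)
      exact (Nat.prime_dvd_prime_iff_eq Fact.out Nat.prime_three).1 h
    obtain ⟨ε, hε, hsign⟩ := S.pair_sign
    rcases mul_self_eq_one_iff.1 hε with rfl | rfl
    · exact S.bound_three_linear p h3 hsign
    · by_contra hcon
      have hn : finrank k V + 2 ≤ r := by have := S.nine; omega
      exact hcon (S.bound_of_fpf p (S.quadratic_of_spin h3 hsign hn) fun h => by omega)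
  · exact S.bound_of_three_ne_zero p h3

end CfsgLib.AltRep
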