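import Cfsg.Agent.Lib.AltRep.Lifts

/-!
# The family of canonical lifts
-/

set_option autoImplicit false
set_option linter.unusedSectionVars false

namespace CfsgLib.AltRep

open Equiv Equiv.Perm

variable {r : ℕ} {k V H : Type*} [Field k] [IsAlgClosed k] [AddCommGroup V] [Module k V] [Group H]

namespace IsProj

variable {ρ : H →* Module.End k V} {π : H →* alternatingGroup (Fin r)} (S : IsProj ρ π)

open Classical in
/-- The canonical lift of `(a b c)`. -/
noncomputable def L (a b c : Fin r) : Module.End k V :=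
  if h : D3 a b c then (S.lift_exists h).choose else 1

theorem L_spec {a b c : Fin r} (h : D3 a b c) : S.IsLift h (S.L a b c) := by
  rw [L, dif_pos h]; exact (S.lift_exists h).choose_spec

theorem L_cube (a b c : Fin r) : S.L a b c * S.L a b c * S.L a b c = 1 := by
  by_cases h : D3 a b c
  · exact (S.L_spec h).2.1
  · rw [L, dif_neg h, one_mul, one_mul]

theorem L_eq {a b c : Fin r} (h : D3 a b c) {X : Module.End k V} (hX : S.IsLift h X) : X = S.L a b c := by
  obtain ⟨hm, h3, hi⟩ := S.L_spec h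
  obtain ⟨l, hl⟩ := S.isMult_smul hm hX.1 (S.ne_zero_of_cube h3)
  obtain ⟨σ, hσ⟩ := inverter_exists S.nine h
  have e := hX.2.2 σ hσ
  rw [hl, S.ad_smul, hi σ hσ, smul_mul_smul_comm] at e
  set Y := S.L a b c
  have hll : l = l * l := S.smul_one_inj (by
    calc l • (1 : Module.End k V) = l • (Y * Y) * Y := by rw [smul_mul_assoc, h3]
      _ = _ := by rw [e, smul_mul_assoc, h3])
  have hl3 : l * l * l = 1 := S.smul_one_inj (d := 1) (by
    have e3 := hX.2.1
    rw [hl, smul_mul_smul_comm, smul_mul_smul_comm, h3] at e3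
    rw [e3, one_smul])
  rw [← hll, ← hll] at hl3
  rw [hl, hl3, one_smul]

/-- Transport of the canonical lifts. -/
theorem ad_L (σ : alternatingGroup (Fin r)) {a b c : Fin r} (h : D3 a b c) :
    S.ad σ (S.L a b c) =
      S.L ((σ : Equiv.Perm (Fin r)) a) ((σ : Equiv.Perm (Fin r)) b) ((σ : Equiv.Perm (Fin r)) c) := by
  obtain ⟨hm, h3, hi⟩ := S.L_spec h
  have he : σ * cycA h * σ⁻¹ = cycA (h.map (σ : Equiv.Perm (Fin r))) :=
    Subtype.ext (cyc_conj (σ : Equiv.Perm (Fin r)) a b c)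
  refine S.L_eq (h.map _) ⟨he ▸ S.ad_isMult σ hm, ?_, fun τ hτ => ?_⟩
  · rw [← S.ad_mul, ← S.ad_mul, h3, S.ad_id]
  · rw [← cyc_conj] at hτ
    have e := hi (σ⁻¹ * τ * σ) (by
      show ((σ : Equiv.Perm (Fin r))⁻¹ * τ * σ) * cyc a b c * ((σ : Equiv.Perm (Fin r))⁻¹ * τ * σ)⁻¹ = _
      calc _ = (σ : Equiv.Perm (Fin r))⁻¹ * ((τ : Equiv.Perm (Fin r)) * ((σ : Equiv.Perm (Fin r)) * cyc a b c *
            (σ : Equiv.Perm (Fin r))⁻¹) * (τ : Equiv.Perm (Fin r))⁻¹) * σ := by group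
        _ = _ := by rw [hτ]; group)
    rw [← S.ad_comp, show τ * σ = σ * (σ⁻¹ * τ * σ) by group, S.ad_comp, e, S.ad_mul]

theorem L_rot {a b c : Fin r} (h : D3 a b c) : S.L b c a = S.L a b c := by
  obtain ⟨hm, h3, hi⟩ := S.L_spec h
  refine (S.L_eq h.rot ⟨?_, h3, fun σ hσ => hi σ ?_⟩).symm
  · rwa [show cycA h.rot = cycA h from Subtype.ext (cyc_rot h)]
  · rwa [cyc_rot h] at hσ

theorem L_flip {a b c : Fin r} (h : D3 a b c) : S.L b a c = S.L a b c * S.L a b c := by
  obtain ⟨hm, h3, hi⟩ := S.L_spec h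
  set X := S.L a b c
  refine (S.L_eq h.flip ⟨?_, ?_, fun σ hσ => ?_⟩).symm
  · have : cycA h * cycA h = cycA h.flip := Subtype.ext (by
      show cyc a b c * cyc a b c = cyc b a c
      rw [cyc_inv h]
      refine eq_inv_of_mul_eq_one_left ?_
      have := pow_orderOf_eq_one (cyc a b c)
      rwa [(cyc_isThreeCycle h).orderOf, pow_three'] at this)
    exact this ▸ isMult_mul hm hm
  · calc X * X * (X * X) * (X * X) = (X * X * X) * (X * X * X) := by simp only [mul_assoc]
      _ = 1 := by rw [h3, one_mul]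
  · have : (σ : Equiv.Perm (Fin r)) * cyc a b c * (σ : Equiv.Perm (Fin r))⁻¹ = (cyc a b c)⁻¹ := by
      rw [cyc_inv h, inv_inv] at hσ
      calc _ = ((σ : Equiv.Perm (Fin r)) * (cyc a b c)⁻¹ * (σ : Equiv.Perm (Fin r))⁻¹)⁻¹ := by group
        _ = _ := by rw [hσ]
    rw [S.ad_mul, hi σ this]

/-- Conjugation by a lift is transport by its three-cycle. -/
theorem ad_cyc {a b c : Fin r} (h : D3 a b c) (X : Module.End k V) :
    S.ad (cycA h) X = S.L a b c * X * (S.L a b c * S.L a b c) := by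
  obtain ⟨⟨g, d, hg, he⟩, h3, -⟩ := S.L_spec h
  have hd : d ≠ 0 := fun e => S.ne_zero_of_cube h3 (by rw [he, e, zero_smul])
  have : S.L a b c * S.L a b c = d⁻¹ • ρ g⁻¹ := by
    calc S.L a b c * S.L a b c = (S.L a b c * S.L a b c) * (S.L a b c * (d⁻¹ • ρ g⁻¹)) := by
          rw [he, smul_mul_smul_comm d (ρ g) d⁻¹, mul_inv_cancel₀ hd, one_smul, rho_mul_inv, mul_one]
      _ = _ := by rw [← mul_assoc, h3, one_mul]
  rw [this, he, S.ad_eq hg, smul_mul_assoc, smul_mul_smul_comm, mul_inv_cancel₀ hd, one_smul]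

theorem conj_L {a b c e f g : Fin r} (h : D3 a b c) (h' : D3 e f g) :
    S.L a b c * S.L e f g * (S.L a b c * S.L a b c) = S.L (cyc a b c e) (cyc a b c f) (cyc a b c g) := by
  rw [← S.ad_cyc h, S.ad_L _ h']; rfl

theorem L_comm {a b c e f g : Fin r} (h : D3 a b c) (h' : D3 e f g)
    (hd : ∀ x ∈ [e, f, g], x ≠ a ∧ x ≠ b ∧ x ≠ c) :
    S.L a b c * S.L e f g = S.L e f g * S.L a b c := by
  simp only [List.mem_cons, List.not_mem_nil, or_false, forall_eq_or_imp, forall_eq] at hd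
  have := S.conj_L h h'
  rw [cyc_off hd.1.1 hd.1.2.1 hd.1.2.2, cyc_off hd.2.1.1 hd.2.1.2.1 hd.2.1.2.2,
    cyc_off hd.2.2.1 hd.2.2.2.1 hd.2.2.2.2] at this
  calc S.L a b c * S.L e f g = S.L a b c * S.L e f g * (S.L a b c * S.L a b c * S.L a b c) := by
        rw [S.L_cube, mul_one]
    _ = S.L a b c * S.L e f g * (S.L a b c * S.L a b c) * S.L a b c := by simp only [mul_assoc]
    _ = _ := by rw [this]

theorem L_ne_scalar {a b c : Fin r} (h : D3 a b c) (l : k) : S.L a b c ≠ l • 1 := by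
  intro e
  obtain ⟨⟨g, d, hg, he⟩, h3, -⟩ := S.L_spec h
  have hd : d ≠ 0 := fun e => S.ne_zero_of_cube h3 (by rw [he, e, zero_smul])
  have := (S.scal g).2 ⟨d⁻¹ * l, by rw [← smul_smul, ← e, he, smul_smul, inv_mul_cancel₀ hd, one_smul]⟩
  exact cyc_ne_one h (congrArg Subtype.val (hg ▸ this : cycA h = 1))

theorem L_ne_one {a b c : Fin r} (h : D3 a b c) : S.L a b c ≠ 1 := fun e =>
  S.L_ne_scalar h 1 (by rw [e, one_smul])

/-- A subspace invariant under all the lifts is trivial. -/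
theorem eq_bot_or_top (W : Submodule k V) (hW : ∀ a b c, D3 a b c → ∀ w ∈ W, S.L a b c w ∈ W) :
    W = ⊥ ∨ W = ⊤ := by
  refine S.irred W fun g => ?_
  have key : ∀ σ : Equiv.Perm (Fin r), σ ∈ Submonoid.closure {σ : Equiv.Perm (Fin r) | IsThreeCycle σ} →
      ∀ g, (π g : Equiv.Perm (Fin r)) = σ → ∀ w ∈ W, ρ g w ∈ W := by
    intro σ hσ
    induction hσ using Submonoid.closure_induction with
    | one =>
      intro g hg w hw
      obtain ⟨c, hc⟩ := (S.scal g).1 (Subtype.ext hg)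
      rw [hc]; exact W.smul_mem c hw
    | mem σ hσ =>
      intro g hg w hw
      obtain ⟨a, b, c, h, rfl⟩ := exists_cyc (hσ : IsThreeCycle σ)
      obtain ⟨hm, h3, -⟩ := S.L_spec h
      obtain ⟨l, hl⟩ := S.isMult_smul hm (⟨g, 1, Subtype.ext hg, (one_smul k _).symm⟩ : IsMult ρ π (cycA h) (ρ g))
        (S.ne_zero_of_cube h3)
      rw [hl]; exact W.smul_mem l (hW a b c h w hw)
    | mul σ τ hσm hτm ihσ ihτ =>
      intro g hg w hw
      have mem : ∀ υ, υ ∈ Submonoid.closure {σ : Equiv.Perm (Fin r) | IsThreeCycle σ} →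
          υ ∈ alternatingGroup (Fin r) := fun υ hυ =>
        (Submonoid.closure_le (S := (alternatingGroup (Fin r)).toSubmonoid)).2
          (fun x hx => IsThreeCycle.mem_alternatingGroup hx) hυ
      obtain ⟨g₁, hg₁⟩ := S.surj ⟨σ, mem σ hσm⟩
      have h2 : (π (g₁⁻¹ * g) : Equiv.Perm (Fin r)) = τ := by
        rw [map_mul, map_inv, hg₁, Subgroup.coe_mul, Subgroup.coe_inv, hg, inv_mul_cancel_left]
      have := ihσ g₁ (congrArg Subtype.val hg₁) _ (ihτ _ h2 w hw)
      rwa [← Module.End.mul_apply, ← map_mul, mul_inv_cancel_left] at this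
  refine key _ ?_ g rfl
  have h1 : ((π g : alternatingGroup (Fin r)) : Equiv.Perm (Fin r)) ∈
      Subgroup.closure {σ : Equiv.Perm (Fin r) | IsThreeCycle σ} := by
    rw [closure_three_cycles_eq_alternating]; exact (π g).2
  rwa [← Subgroup.closure_toSubmonoid_of_finite]

/-- A vector fixed by all the lifts vanishes. -/
theorem eq_zero_of_fixed (v : V) (hv : ∀ a b c, D3 a b c → S.L a b c v = v) : v = 0 := by
  by_contra hv0
  rcases S.eq_bot_or_top (k ∙ v) (fun a b c h w hw => by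
    obtain ⟨l, rfl⟩ := Submodule.mem_span_singleton.1 hw
    rw [map_smul, hv a b c h]; exact Submodule.smul_mem _ l (Submodule.mem_span_singleton_self v)) with e | e
  · exact hv0 (Submodule.span_singleton_eq_bot.1 e)
  · obtain ⟨a, b, c, h⟩ := exists_cycA S.nine
    refine S.L_ne_one h (LinearMap.ext fun w => ?_)
    obtain ⟨l, rfl⟩ := Submodule.mem_span_singleton.1 (e ▸ Submodule.mem_top : w ∈ k ∙ v)
    rw [map_smul, hv a b c h]; rfl

end IsProj

end CfsgLib.AltRep
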