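import Mathlib

/-!
# Commuting operators, and spaces of operators whose squares are scalars
-/

set_option autoImplicit false
set_option linter.unusedSectionVars false

namespace CfsgLib.AltRep

open Module

variable {k V : Type*} [Field k] [AddCommGroup V] [Module k V]

/-- A joint eigenvector of finitely many commuting operators inside an invariant subspace. -/
theorem exists_joint_eigen [IsAlgClosed k] [FiniteDimensional k V] {ι : Type*} (X : ι → End k V)
    (hc : ∀ i j, X i * X j = X j * X i) (s : Finset ι) (W : Submodule k V) (hW : W ≠ ⊥)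
    (hinv : ∀ i ∈ s, ∀ w ∈ W, X i w ∈ W) :
    ∃ v ∈ W, v ≠ 0 ∧ ∀ i ∈ s, ∃ c : k, X i v = c • v := by
  classical
  induction s using Finset.induction_on generalizing W with
  | empty =>
    obtain ⟨v, hv, hv0⟩ := (Submodule.ne_bot_iff W).1 hW
    exact ⟨v, hv, hv0, by simp⟩
  | @insert i s hi ih =>
    haveI : Nontrivial W := Submodule.nontrivial_iff_ne_bot.2 hW
    obtain ⟨c, hc'⟩ := End.exists_eigenvalue ((X i).restrict (hinv i (Finset.mem_insert_self i s)))
    obtain ⟨u, hu⟩ := hc'.exists_hasEigenvector
    set W' : Submodule k V := W ⊓ LinearMap.ker (X i - c • 1) with hW'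
    have hu' : (u : V) ∈ W' := by
      refine ⟨u.2, ?_⟩
      simp only [SetLike.mem_coe, LinearMap.mem_ker, LinearMap.sub_apply, LinearMap.smul_apply, End.one_apply,
        sub_eq_zero]
      exact congrArg Subtype.val hu.apply_eq_smul
    obtain ⟨v, ⟨hvW, hvc⟩, hv0, hv⟩ := ih W' ((Submodule.ne_bot_iff W').2 ⟨u, hu', by
        simpa using hu.2⟩) (fun j hj w hw => ⟨hinv j (Finset.mem_insert_of_mem hj) w hw.1, by
        have := hw.2
        simp only [SetLike.mem_coe, LinearMap.mem_ker, LinearMap.sub_apply, LinearMap.smul_apply, End.one_apply,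
          sub_eq_zero] at this ⊢
        calc X i (X j w) = (X i * X j) w := rfl
          _ = X j (X i w) := by rw [hc]; rfl
          _ = _ := by rw [this, map_smul]⟩)
    refine ⟨v, hvW, hv0, fun j hj => ?_⟩
    rcases Finset.mem_insert.1 hj with rfl | hj
    · refine ⟨c, ?_⟩
      simpa [sub_eq_zero] using hvc
    · exact hv j hj

/-- Joint eigenvectors with distinct weights are independent. -/
theorem linearIndependent_of_weights {ι κ : Type*} (X : ι → End k V) (w : κ → ι → k) (v : κ → V)
    (hw : Function.Injective w) (hv0 : ∀ a, v a ≠ 0) (hv : ∀ a i, X i (v a) = w a i • v a) :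
    LinearIndependent k v := by
  classical
  rw [linearIndependent_iff']
  intro s
  induction s using Finset.strongInduction with
  | _ s ih =>
    intro g hg a ha
    by_cases hone : ∀ b ∈ s, b = a
    · have : s = {a} := Finset.eq_singleton_iff_unique_mem.2 ⟨ha, hone⟩
      rw [this, Finset.sum_singleton] at hg
      exact (smul_eq_zero.1 hg).resolve_right (hv0 a)
    · push_neg at hone
      obtain ⟨b, hb, hba⟩ := hone
      obtain ⟨i, hi⟩ := Function.ne_iff.1 (fun e => hba (hw e))
      have h0 : ∑ c ∈ s.erase b, (g c * (w c i - w b i)) • v c = 0 := by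
        have e := congrArg (X i - w b i • (1 : End k V)) hg
        rw [map_sum, map_zero] at e
        rw [Finset.sum_erase s (a := b) (f := fun c => (g c * (w c i - w b i)) • v c) (by simp)]
        rw [← e]
        refine Finset.sum_congr rfl fun c _ => ?_
        rw [LinearMap.sub_apply, LinearMap.smul_apply, End.one_apply, map_smul, hv, smul_smul, smul_smul, ← sub_smul]
        ring_nf
      have := ih _ (Finset.erase_ssubset hb) _ h0 a (Finset.mem_erase.2 ⟨Ne.symm hba, ha⟩)
      exact (mul_eq_zero.1 this).resolve_right (sub_ne_zero.2 (Ne.symm hi))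

/-- The number of weights bounds the dimension. -/
theorem card_weights_le [FiniteDimensional k V] {ι κ : Type*} [Fintype κ] (X : ι → End k V) (w : κ → ι → k)
    (hw : Function.Injective w) (hex : ∀ a, ∃ v : V, v ≠ 0 ∧ ∀ i, X i v = w a i • v) :
    Fintype.card κ ≤ finrank k V := by
  choose v hv0 hv using hex
  exact (linearIndependent_of_weights X w v hw hv0 hv).fintype_card_le_finrank

/-- A space of operators with scalar squares and non-degenerate anticommutator needs `2 ^ l` dimensions. -/
theorem clifford_bound [IsAlgClosed k] : ∀ (l : ℕ) {V : Type*} [AddCommGroup V] [Module k V]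
    [FiniteDimensional k V] [Nontrivial V] (P : Submodule k (End k V)),
    (∀ s ∈ P, ∃ c : k, s * s = c • 1) → (∀ s ∈ P, s ≠ 0 → ∃ t ∈ P, s * t + t * s ≠ 0) →
    2 * l ≤ finrank k P → 2 ^ l ≤ finrank k V := by
  intro l
  induction l with
  | zero => intro V _ _ _ _ P _ _ _; rw [pow_zero]; exact finrank_pos
  | succ l ih =>
    intro V _ _ _ _ P hsq hnd hdim
    have hpol : ∀ s ∈ P, ∀ t ∈ P, ∃ c : k, s * t + t * s = c • 1 := by
      intro s hs t ht
      obtain ⟨a, ha⟩ := hsq s hs
      obtain ⟨b, hb⟩ := hsq t ht
      obtain ⟨c, hc⟩ := hsq _ (add_mem hs ht)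
      refine ⟨c - a - b, ?_⟩
      rw [sub_smul, sub_smul, ← hc, ← ha, ← hb]
      noncomm_ring
    -- an isotropic element
    obtain ⟨a, haP, ha0, haa⟩ : ∃ a ∈ P, a ≠ 0 ∧ a * a = 0 := by
      obtain ⟨u, hu⟩ : ∃ u : P, u ≠ 0 := by
        haveI : Nontrivial P := Module.nontrivial_of_finrank_pos (R := k) (by omega)
        exact exists_ne 0
      obtain ⟨cu, hcu⟩ := hsq u u.2
      by_cases hz : cu = 0
      · exact ⟨u, u.2, fun h => hu (Subtype.ext h), by rw [hcu, hz, zero_smul]⟩
      obtain ⟨t, ht⟩ : ∃ t : P, t ∉ Submodule.span k {u} := by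
        by_contra! hall
        have : finrank k P ≤ 1 := by
          have e : Submodule.span k {u} = ⊤ := eq_top_iff.2 fun x _ => hall x
          rw [← finrank_top k P, ← e]
          simpa using finrank_span_le_card ({u} : Set P)
        omega
      obtain ⟨ct, hct⟩ := hsq t t.2
      obtain ⟨b, hb⟩ := hpol u u.2 t t.2
      obtain ⟨x, hx⟩ := IsAlgClosed.exists_root (Polynomial.C cu * Polynomial.X ^ 2 + Polynomial.C b * Polynomial.X +
        Polynomial.C ct) (by rw [Polynomial.degree_quadratic hz]; decide)
      simp only [Polynomial.IsRoot, Polynomial.eval_add, Polynomial.eval_mul, Polynomial.eval_C, Polynomial.eval_pow,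
        Polynomial.eval_X] at hx
      refine ⟨x • (u : End k V) + t, add_mem (P.smul_mem x u.2) t.2, fun h => ht ?_, ?_⟩
      · refine Submodule.mem_span_singleton.2 ⟨-x, Subtype.ext ?_⟩
        rw [Submodule.coe_smul, neg_smul, ← eq_neg_of_add_eq_zero_right h]
      · rw [add_mul, mul_add, mul_add, smul_mul_smul_comm, hcu, hct, smul_mul_assoc, mul_smul_comm, smul_smul,
          show x * x * cu = cu * x ^ 2 by ring]
        calc (cu * x ^ 2) • (1 : End k V) + x • ((u : End k V) * t) + (x • ((t : End k V) * u) + ct • 1)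
            = (cu * x ^ 2) • 1 + x • ((u : End k V) * t + t * u) + ct • 1 := by rw [smul_add]; abel
          _ = 0 := by rw [hb, smul_smul, ← add_smul, ← add_smul, mul_comm x b, hx, zero_smul]
    obtain ⟨t, htP, ht⟩ := hnd a haP ha0
    obtain ⟨β, hβ⟩ := hpol a haP t htP
    have hβ0 : β ≠ 0 := fun h => ht (by rw [hβ, h, zero_smul])
    obtain ⟨γ, hγ⟩ := hsq _ (P.smul_mem β⁻¹ htP)
    have hat : a * (β⁻¹ • t) + (β⁻¹ • t) * a = 1 := by
      rw [mul_smul_comm, smul_mul_assoc, ← smul_add, hβ, smul_smul, inv_mul_cancel₀ hβ0, one_smul]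
    obtain ⟨b, hbP, hab, hbb⟩ : ∃ b ∈ P, a * b + b * a = 1 ∧ b * b = 0 := by
      refine ⟨β⁻¹ • t - γ • a, sub_mem (P.smul_mem _ htP) (P.smul_mem _ haP), ?_, ?_⟩
      · calc _ = (a * (β⁻¹ • t) + (β⁻¹ • t) * a) - γ • (a * a + a * a) := by
              simp only [mul_sub, sub_mul, mul_smul_comm, smul_mul_assoc, smul_add]; abel
          _ = 1 := by rw [hat, haa, add_zero, smul_zero, sub_zero]
      · calc _ = (β⁻¹ • t) * (β⁻¹ • t) - γ • (a * (β⁻¹ • t) + (β⁻¹ • t) * a) + (γ * γ) • (a * a) := by
              simp only [mul_sub, sub_mul, mul_smul_comm, smul_mul_assoc, smul_add, smul_smul, smul_sub]; module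
          _ = 0 := by rw [hγ, hat, haa, smul_zero, add_zero, sub_self]
    -- the two halves
    set e := a * b with he
    have hee : e * e = e := by
      calc e * e = a * (b * a) * b := by rw [he]; simp only [mul_assoc]
        _ = a * (1 - e) * b := by rw [eq_sub_of_add_eq' hab]
        _ = _ := by rw [he, mul_sub, mul_one, ← mul_assoc a a b, haa, zero_mul, sub_zero]
    set V₁ := LinearMap.range e
    set V₂ := LinearMap.range (b * a)
    have hsplit : finrank k V₁ + finrank k V₂ = finrank k V := by
      have hker : LinearMap.ker e = V₂ := by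
        ext v
        constructor
        · intro hv
          refine ⟨v, ?_⟩
          have := LinearMap.congr_fun hab v
          simpa [LinearMap.mem_ker.1 hv, ← he] using this
        · rintro ⟨w, rfl⟩
          rw [LinearMap.mem_ker, ← End.mul_apply, he, mul_assoc, ← mul_assoc b b a, hbb, zero_mul, mul_zero]
          rfl
      rw [← hker]
      exact LinearMap.finrank_range_add_finrank_ker e
    have heq : finrank k V₁ = finrank k V₂ := by
      refine le_antisymm ?_ ?_
      · refine LinearMap.finrank_le_finrank_of_injective (f := b.restrict (p := V₁) (q := V₂) ?_) ?_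
        · rintro _ ⟨w, rfl⟩
          exact ⟨b w, by simp [← End.mul_apply, he, mul_assoc]⟩
        · rw [← LinearMap.ker_eq_bot, LinearMap.ker_eq_bot']
          rintro ⟨_, w, rfl⟩ hx
          refine Subtype.ext ?_
          have := congrArg (fun z => a (Subtype.val z)) hx
          simpa [← End.mul_apply, ← he, ← mul_assoc, hee] using this
      · refine LinearMap.finrank_le_finrank_of_injective (f := a.restrict (p := V₂) (q := V₁) ?_) ?_
        · rintro _ ⟨w, rfl⟩
          exact ⟨a w, by simp [← End.mul_apply, he, mul_assoc]⟩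
        · rw [← LinearMap.ker_eq_bot, LinearMap.ker_eq_bot']
          rintro ⟨_, w, rfl⟩ hx
          refine Subtype.ext ?_
          have := congrArg (fun z => b (Subtype.val z)) hx
          have hba : b * a * (b * a) = b * a := by
            calc b * a * (b * a) = b * (a * b) * a := by simp only [mul_assoc]
              _ = b * (1 - b * a) * a := by rw [← he, eq_sub_of_add_eq hab]
              _ = _ := by rw [mul_sub, mul_one, ← mul_assoc b b a, hbb, zero_mul, sub_zero]
          rw [← mul_assoc] at hba
          simpa [← End.mul_apply, ← mul_assoc, hba] using this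
    have hV₁ : Nontrivial V₁ := by
      refine Module.nontrivial_of_finrank_pos (R := k) ?_
      have : 0 < finrank k V := finrank_pos
      omega
    -- the operators anticommuting with `a` and `b`
    let Q : Submodule k (End k V) :=
      P ⊓ LinearMap.ker (LinearMap.mulLeft k a + LinearMap.mulRight k a) ⊓
        LinearMap.ker (LinearMap.mulLeft k b + LinearMap.mulRight k b)
    have hQ : ∀ s, s ∈ Q ↔ s ∈ P ∧ a * s + s * a = 0 ∧ b * s + s * b = 0 := fun s => by
      simp [Q, and_assoc]
    have hcomm : ∀ s ∈ Q, e * s = s * e := by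
      intro s hs
      obtain ⟨-, h1, h2⟩ := (hQ s).1 hs
      rw [he, mul_assoc, eq_neg_of_add_eq_zero_left h2, mul_neg, ← mul_assoc, eq_neg_of_add_eq_zero_left h1, neg_mul,
        neg_neg, mul_assoc]
    have hmap : ∀ s ∈ Q, ∀ v ∈ V₁, s v ∈ V₁ := by
      rintro s hs _ ⟨w, rfl⟩
      exact ⟨s w, by rw [← End.mul_apply, hcomm s hs]; rfl⟩
    let res : Q →ₗ[k] End k V₁ :=
      { toFun := fun s => (s : End k V).restrict (hmap s s.2)
        map_add' := fun _ _ => by ext; rfl
        map_smul' := fun _ _ => by ext; rfl }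
    have hres : ∀ (s : Q) (v : V₁), ((res s v : V₁) : V) = (s : End k V) v := fun _ _ => rfl
    have hndQ : ∀ s ∈ Q, s ≠ 0 → ∃ t ∈ Q, s * t + t * s ≠ 0 := by
      intro s hs hs0
      obtain ⟨hsP, h1, h2⟩ := (hQ s).1 hs
      obtain ⟨u, huP, hu⟩ := hnd s hsP hs0
      obtain ⟨α', hα'⟩ := hpol a haP u huP
      obtain ⟨β', hβ'⟩ := hpol b hbP u huP
      refine ⟨u - β' • a - α' • b, (hQ _).2 ⟨sub_mem (sub_mem huP (P.smul_mem _ haP)) (P.smul_mem _ hbP), ?_, ?_⟩, ?_⟩
      · calc _ = (a * u + u * a) - β' • (a * a + a * a) - α' • (a * b + b * a) := by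
              simp only [mul_sub, sub_mul, mul_smul_comm, smul_mul_assoc, smul_add]; abel
          _ = 0 := by rw [hα', haa, add_zero, smul_zero, sub_zero, hab, sub_self]
      · calc _ = (b * u + u * b) - β' • (a * b + b * a) - α' • (b * b + b * b) := by
              simp only [mul_sub, sub_mul, mul_smul_comm, smul_mul_assoc, smul_add]; abel
          _ = 0 := by rw [hβ', hbb, add_zero, smul_zero, sub_zero, hab, sub_self]
      · refine fun h => hu ?_
        calc s * u + u * s = (s * (u - β' • a - α' • b) + (u - β' • a - α' • b) * s) +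
              β' • (a * s + s * a) + α' • (b * s + s * b) := by
              simp only [mul_sub, sub_mul, mul_smul_comm, smul_mul_assoc, smul_add]; abel
          _ = 0 := by rw [h, h1, h2, smul_zero, smul_zero, add_zero, add_zero]
    have hinj : Function.Injective res := by
      rw [← LinearMap.ker_eq_bot, LinearMap.ker_eq_bot']
      intro s hs
      by_contra hs0
      obtain ⟨u, huQ, hu⟩ := hndQ s s.2 fun h => hs0 (Subtype.ext h)
      obtain ⟨c, hc⟩ := hpol _ ((hQ _).1 s.2).1 u ((hQ _).1 huQ).1
      obtain ⟨v, hv⟩ := exists_ne (0 : V₁)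
      have hzero : ∀ w : V₁, (s : End k V) w = 0 := fun w => by rw [← hres, hs]; rfl
      have hcv : c • (v : V) = 0 := by
        have := LinearMap.congr_fun hc (v : V)
        rw [LinearMap.smul_apply, End.one_apply, LinearMap.add_apply, End.mul_apply, End.mul_apply, hzero v,
          map_zero, hzero ⟨u v, hmap u huQ v v.2⟩, add_zero] at this
        exact this.symm
      exact hu (by rw [hc, (smul_eq_zero.1 hcv).resolve_right fun h => hv (Subtype.ext h), zero_smul])
    have hdimQ : 2 * l ≤ finrank k (LinearMap.range res) := by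
      rw [LinearMap.finrank_range_of_inj hinj]
      let Λ : P →ₗ[k] End k V × End k V :=
        (((LinearMap.mulLeft k a + LinearMap.mulRight k a).prod (LinearMap.mulLeft k b + LinearMap.mulRight k b))).comp P.subtype
      have hr : finrank k (LinearMap.range Λ) ≤ 2 := by
        have hsub : LinearMap.range Λ ≤ LinearMap.range (LinearMap.prodMap (LinearMap.toSpanSingleton k _ (1 : End k V))
            (LinearMap.toSpanSingleton k _ (1 : End k V))) := by
          rintro _ ⟨s, rfl⟩
          obtain ⟨x, hx⟩ := hpol a haP s s.2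
          obtain ⟨y, hy⟩ := hpol b hbP s s.2
          refine ⟨(x, y), ?_⟩
          simp [Λ, hx, hy]
        exact (Submodule.finrank_mono hsub).trans ((LinearMap.finrank_range_le _).trans (by simp))
      have hk := LinearMap.finrank_range_add_finrank_ker Λ
      have hke : finrank k (LinearMap.ker Λ) ≤ finrank k Q := by
        refine LinearMap.finrank_le_finrank_of_injective
          (f := (P.subtype.comp (LinearMap.ker Λ).subtype).codRestrict Q fun s => (hQ _).2 ?_) ?_
        · have h := LinearMap.mem_ker.1 s.2
          exact ⟨s.1.2, congrArg Prod.fst h, congrArg Prod.snd h⟩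
        · intro x y hxy
          have h : ((x : P) : End k V) = ((y : P) : End k V) := by
            have h' := congrArg (fun z : Q => (z : End k V)) hxy
            exact h'
          exact Subtype.ext (Subtype.ext h)
      omega
    have := ih (LinearMap.range res) ?_ ?_ hdimQ
    · rw [pow_succ]; omega
    · rintro _ ⟨s, rfl⟩
      obtain ⟨c, hc⟩ := hsq _ ((hQ _).1 s.2).1
      refine ⟨c, LinearMap.ext fun v => Subtype.ext ?_⟩
      simpa [End.mul_apply, hres] using LinearMap.congr_fun hc (v : V)
    · rintro _ ⟨s, rfl⟩ hs0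
      obtain ⟨u, huQ, hu⟩ := hndQ s s.2 fun h => hs0 (by rw [show s = 0 from Subtype.ext h, map_zero])
      obtain ⟨c, hc⟩ := hpol _ ((hQ _).1 s.2).1 u ((hQ _).1 huQ).1
      refine ⟨res ⟨u, huQ⟩, ⟨_, rfl⟩, fun h => hu ?_⟩
      obtain ⟨v, hv⟩ := exists_ne (0 : V₁)
      have hcv : c • (v : V) = 0 := by
        have h1 := congrArg Subtype.val (LinearMap.congr_fun h v)
        have h2 := LinearMap.congr_fun hc (v : V)
        simp [End.mul_apply, hres] at h1 h2
        rw [← h2, h1]
      rw [hc, (smul_eq_zero.1 hcv).resolve_right fun h => hv (Subtype.ext h), zero_smul]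

end CfsgLib.AltRep
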