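import Cfsg.Agent.Lib.AltRep.Canonical
import Cfsg.Agent.Lib.AltRep.LinAlg

/-!
# Representations in which three-cycles have no fixed point
-/

set_option autoImplicit false
set_option linter.unusedSectionVars false

namespace CfsgLib.AltRep

open Equiv Equiv.Perm Module

variable {r : ℕ} {k V H : Type*} [Field k] [IsAlgClosed k] [AddCommGroup V] [Module k V] [Group H]

/-- Four distinct points. -/
abbrev D4 (a b c d : Fin r) : Prop := D3 a b c ∧ D3 a b d ∧ c ≠ d

theorem D4.inj {a b c d : Fin r} (h : D4 a b c d) : Function.Injective ![a, b, c, d] := by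
  obtain ⟨⟨hab, hbc, hac⟩, ⟨-, hbd, had⟩, hcd⟩ := h
  intro i j
  fin_cases i <;> fin_cases j <;>
    simp [hab, hbc, hac, hbd, had, hcd, hab.symm, hbc.symm, hac.symm, hbd.symm, had.symm, hcd.symm]

theorem cyc_pair {a b c d : Fin r} (h : D4 a b c d) :
    cyc a b c * cyc a b d = swap a c * swap b d := by
  obtain ⟨h1, h2, hcd⟩ := h
  refine Equiv.ext fun x => ?_
  rw [Perm.mul_apply, Perm.mul_apply]
  rcases eq_or_ne x a with rfl | ha
  · rw [cyc_fst h2, cyc_snd h1, swap_apply_of_ne_of_ne h1.1 h2.2.2, swap_apply_left]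
  rcases eq_or_ne x b with rfl | hb
  · rw [cyc_snd h2, cyc_off h2.2.2.symm h2.2.1.symm hcd.symm, swap_apply_left,
      swap_apply_of_ne_of_ne h2.2.2.symm hcd.symm]
  rcases eq_or_ne x d with rfl | hd
  · rw [cyc_thd h2, cyc_fst h1, swap_apply_right, swap_apply_of_ne_of_ne h1.1.symm h1.2.1]
  rw [cyc_off ha hb hd, swap_apply_of_ne_of_ne hb hd]
  rcases eq_or_ne x c with rfl | hc
  · rw [cyc_thd h1, swap_apply_right]
  · rw [cyc_off ha hb hc, swap_apply_of_ne_of_ne ha hc]

/-- Elements with scalar squares and anticommutators, with non-degenerate form, need `2 ^ (m / 2)` dimensions. -/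
theorem pow_le_of_quadratic [FiniteDimensional k V] [Nontrivial V] {m : ℕ} (s : Fin m → Module.End k V)
    (hs : ∀ i, ∃ q : k, s i * s i = q • 1) (c : Fin m → Fin m → k)
    (hc : ∀ i j, s i * s j + s j * s i = c i j • 1)
    (hnd : ∀ u : Fin m → k, (∀ j, ∑ i, u i * c i j = 0) → u = 0) : 2 ^ (m / 2) ≤ finrank k V := by
  classical
  let φ := Fintype.linearCombination k s
  have hφ : ∀ u, φ u = ∑ i, u i • s i := fun u => rfl
  have hsq : ∀ (u : Fin m → k) (t : Finset (Fin m)), ∃ q : k,
      (∑ i ∈ t, u i • s i) * (∑ i ∈ t, u i • s i) = q • 1 := by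
    intro u t
    induction t using Finset.induction_on with
    | empty => exact ⟨0, by simp⟩
    | @insert a t ha ih =>
      obtain ⟨q, hq⟩ := ih
      obtain ⟨q', hq'⟩ := hs a
      refine ⟨u a * u a * q' + q + ∑ i ∈ t, u a * u i * c a i, ?_⟩
      rw [Finset.sum_insert ha, add_mul, mul_add, mul_add, hq, smul_mul_smul_comm, hq', smul_smul, add_smul, add_smul,
        Finset.sum_smul, Finset.mul_sum, Finset.sum_mul]
      have : ∀ i, (u a * u i * c a i) • (1 : Module.End k V) = u a • s a * u i • s i + u i • s i * u a • s a := by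
        intro i
        rw [smul_mul_smul_comm, smul_mul_smul_comm, mul_comm (u i), ← smul_add, hc, smul_smul]
      simp only [this, Finset.sum_add_distrib]
      abel
  have hpol : ∀ (u : Fin m → k) (j : Fin m), φ u * s j + s j * φ u = (∑ i, u i * c i j) • 1 := by
    intro u j
    rw [hφ, Finset.sum_mul, Finset.mul_sum, ← Finset.sum_add_distrib, Finset.sum_smul]
    refine Finset.sum_congr rfl fun i _ => ?_
    rw [smul_mul_assoc, mul_smul_comm, ← smul_add, hc, smul_smul]
  have hj : ∀ j, s j = φ (Pi.single j 1) := fun j => by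
    rw [hφ, Finset.sum_eq_single j (fun i _ hi => by rw [Pi.single_eq_of_ne hi, zero_smul])
      (fun h => absurd (Finset.mem_univ j) h), Pi.single_eq_same, one_smul]
  have hinj : Function.Injective φ := by
    rw [← LinearMap.ker_eq_bot, LinearMap.ker_eq_bot']
    intro u hu
    refine hnd u fun j => ?_
    have := hpol u j
    rw [hu, zero_mul, mul_zero, add_zero] at this
    exact (smul_eq_zero.1 this.symm).resolve_right one_ne_zero
  refine clifford_bound (m / 2) (LinearMap.range φ) ?_ ?_ ?_
  · rintro _ ⟨u, rfl⟩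
    exact hsq u Finset.univ
  · rintro _ ⟨u, rfl⟩ hu
    by_contra! hall
    refine hu ?_
    rw [hnd u fun j => ?_, map_zero]
    have := hall (s j) ⟨_, (hj j).symm⟩
    rw [hpol] at this
    exact (smul_eq_zero.1 this).resolve_right one_ne_zero
  · rw [LinearMap.finrank_range_of_inj hinj, finrank_fin_fun]; omega

theorem succ_le_two_pow : ∀ m : ℕ, 6 ≤ m → m + 1 ≤ 2 ^ (m / 2)
  | m, hm => by
    obtain ⟨j, rfl | rfl⟩ : ∃ j, m = 2 * j ∨ m = 2 * j + 1 := ⟨m / 2, by omega⟩
    all_goals
      have key : ∀ i : ℕ, 2 * i + 8 ≤ 2 ^ (i + 3) := fun i => by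
        induction i with
        | zero => norm_num
        | succ i ih => rw [show i + 1 + 3 = (i + 3) + 1 by omega, pow_succ]; omega
      obtain ⟨i, rfl⟩ := Nat.exists_eq_add_of_le (show 3 ≤ j by omega)
      have := key i
      rw [show 3 + i = i + 3 by omega]
      first
        | (rw [show 2 * (i + 3) / 2 = i + 3 by omega]; omega)
        | (rw [show (2 * (i + 3) + 1) / 2 = i + 3 by omega]; omega)

namespace IsProj

variable {ρ : H →* Module.End k V} {π : H →* alternatingGroup (Fin r)} (S : IsProj ρ π)

include S in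
theorem pair_sign : ∃ ε : k, ε * ε = 1 ∧ ∀ a b c d, D4 a b c d →
    (S.L a b c * S.L a b d) * (S.L a b c * S.L a b d) = ε • 1 := by
  have hr := S.nine
  obtain ⟨a, b, c, d, h⟩ : ∃ a b c d : Fin r, D4 a b c d :=
    ⟨⟨0, by omega⟩, ⟨1, by omega⟩, ⟨2, by omega⟩, ⟨3, by omega⟩, by simp [D4, D3, Fin.ext_iff]⟩
  obtain ⟨h1, h2, hcd⟩ := h
  have hm := isMult_mul (isMult_mul (S.L_spec h1).1 (S.L_spec h2).1) (isMult_mul (S.L_spec h1).1 (S.L_spec h2).1)
  obtain ⟨g, e, hg, he⟩ := hm
  have hone : cycA h1 * cycA h2 * (cycA h1 * cycA h2) = 1 := Subtype.ext (by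
    show cyc a b c * cyc a b d * (cyc a b c * cyc a b d) = 1
    have hdis : Disjoint (swap a c) (swap b d) := by
      intro x
      by_cases hx : x = a ∨ x = c
      · right
        rcases hx with rfl | rfl
        · exact swap_apply_of_ne_of_ne h1.1 h2.2.2
        · exact swap_apply_of_ne_of_ne h1.2.1.symm hcd
      · push_neg at hx
        exact Or.inl (swap_apply_of_ne_of_ne hx.1 hx.2)
    rw [cyc_pair ⟨h1, h2, hcd⟩, mul_assoc, ← mul_assoc (swap b d), ← hdis.commute.eq, mul_assoc, swap_mul_self, mul_one,
      swap_mul_self])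
  obtain ⟨c₀, hc₀⟩ := (S.scal g).1 (hg.trans hone)
  have hbase : (S.L a b c * S.L a b d) * (S.L a b c * S.L a b d) = (e * c₀) • 1 := by
    rw [he, hc₀, smul_smul]
  refine ⟨e * c₀, ?_, fun a' b' c' d' h' => ?_⟩
  · obtain ⟨u, v, hu, hv, huv⟩ := exists_two_off ({a, b, c, d} : Finset (Fin r)) (by
      have := Finset.card_le_four (a := a) (b := b) (c := c) (d := d); omega)
    simp only [Finset.mem_insert, Finset.mem_singleton, not_or] at hu hv
    set σ : alternatingGroup (Fin r) := ⟨swap a b * swap u v,
      mem_alternatingGroup.2 (by rw [map_mul, sign_swap h1.1, sign_swap huv]; rfl)⟩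
    have ea : (σ : Equiv.Perm (Fin r)) a = b := by
      show (swap a b * swap u v) a = b
      rw [Perm.mul_apply, swap_apply_of_ne_of_ne (Ne.symm hu.1) (Ne.symm hv.1), swap_apply_left]
    have eb : (σ : Equiv.Perm (Fin r)) b = a := by
      show (swap a b * swap u v) b = a
      rw [Perm.mul_apply, swap_apply_of_ne_of_ne (Ne.symm hu.2.1) (Ne.symm hv.2.1), swap_apply_right]
    have ec : (σ : Equiv.Perm (Fin r)) c = c := by
      show (swap a b * swap u v) c = c
      rw [Perm.mul_apply, swap_apply_of_ne_of_ne (Ne.symm hu.2.2.1) (Ne.symm hv.2.2.1),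
        swap_apply_of_ne_of_ne h1.2.2.symm h1.2.1.symm]
    have ed : (σ : Equiv.Perm (Fin r)) d = d := by
      show (swap a b * swap u v) d = d
      rw [Perm.mul_apply, swap_apply_of_ne_of_ne (Ne.symm hu.2.2.2) (Ne.symm hv.2.2.2),
        swap_apply_of_ne_of_ne h2.2.2.symm h2.2.1.symm]
    have hE := congrArg (S.ad σ) hbase
    rw [S.ad_scalar, S.ad_mul, S.ad_mul, S.ad_L σ h1, S.ad_L σ h2, ea, eb, ec, ed, S.L_flip h1, S.L_flip h2] at hE
    set x := S.L a b c
    set y := S.L a b d
    have hx : x * x * x = 1 := S.L_cube a b c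
    have hy : y * y * y = 1 := S.L_cube a b d
    have hinv : (x * x * (y * y)) * (y * x) = 1 := by
      calc _ = x * x * (y * y * y) * x := by simp only [mul_assoc]
        _ = 1 := by rw [hy, mul_one, hx]
    have hyx : (y * x) * (y * x) = (e * c₀) • 1 := by
      calc (y * x) * (y * x) = y * ((x * y) * (x * y)) * (y * y) := by
            calc _ = y * x * y * x * (y * y * y) := by rw [hy, mul_one]; simp only [mul_assoc]
              _ = _ := by simp only [mul_assoc]
        _ = _ := by rw [hbase, mul_smul_comm, mul_one, smul_mul_assoc, ← mul_assoc, hy]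
    refine S.smul_one_inj (d := 1) ?_
    calc (e * c₀ * (e * c₀)) • (1 : Module.End k V) = ((e * c₀) • 1) * ((e * c₀) • 1) := by
          rw [smul_mul_smul_comm, one_mul]
      _ = (x * x * (y * y)) * ((x * x * (y * y)) * (y * x)) * (y * x) := by
          nth_rewrite 1 [← hE]; rw [← hyx]; simp only [mul_assoc]
      _ = _ := by rw [hinv, mul_one, hinv, one_smul]
  · obtain ⟨σ, hσ⟩ := exists_even_map (r := r) (a := 4) (by omega) (D4.inj ⟨h1, h2, hcd⟩) h'.inj
    have hE := congrArg (S.ad σ) hbase
    rw [S.ad_scalar, S.ad_mul, S.ad_mul, S.ad_L σ h1, S.ad_L σ h2] at hE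
    have e0 := hσ 0; have e1 := hσ 1; have e2 := hσ 2; have e3 := hσ 3
    simp only [Fin.isValue, Matrix.cons_val] at e0 e1 e2 e3
    rwa [e0, e1, e2, e3] at hE

include S in
theorem cyc_eq_of_L_eq {a b c e f g : Fin r} (h : D3 a b c) (h' : D3 e f g) (he : S.L a b c = S.L e f g) :
    cyc a b c = cyc e f g := by
  obtain ⟨⟨x, d, hx, hd⟩, h3, -⟩ := S.L_spec h
  obtain ⟨⟨y, d', hy, hd'⟩, -, -⟩ := S.L_spec h'
  rw [hd, hd'] at he
  have hd0 : d ≠ 0 := fun e0 => S.ne_zero_of_cube h3 (by rw [hd, e0, zero_smul])
  have : π (x * y⁻¹) = 1 := (S.scal _).2 ⟨d⁻¹ * d', by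
    calc ρ (x * y⁻¹) = (d⁻¹ • (d • ρ x)) * ρ y⁻¹ := by rw [map_mul, smul_smul, inv_mul_cancel₀ hd0, one_smul]
      _ = _ := by rw [he, smul_smul, smul_mul_assoc, rho_mul_inv]⟩
  rw [map_mul, map_inv, mul_inv_eq_one, hx, hy] at this
  exact congrArg Subtype.val this

include S in
/-- Fixed-point-free three-cycles force a large dimension. -/
theorem bound_of_fpf [FiniteDimensional k V] (p : ℕ) [Fact p.Prime] [CharP k p]
    (hfree : ∀ a b c, D3 a b c → S.L a b c * S.L a b c + S.L a b c + 1 = 0) (h2 : p = 2 → r = 11) :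
    r - 1 - (if p ∣ r then 1 else 0) ≤ finrank k V := by
  haveI := S.nontrivial
  have hr := S.nine
  have hpp : p.Prime := Fact.out
  obtain ⟨ε, hε, hsign⟩ := S.pair_sign
  set o : Fin r := ⟨0, by omega⟩ with ho
  set i₁ : Fin r := ⟨1, by omega⟩ with hi₁
  have hpt : ∀ c : Fin r, 2 ≤ (c : ℕ) → D3 o i₁ c := fun c hc => by
    simp [D3, o, i₁, Fin.ext_iff]; omega
  -- the relation between two generators
  have rel : ε = -1 → ∀ c d : Fin r, 2 ≤ (c : ℕ) → 2 ≤ (d : ℕ) → c ≠ d →
      S.L o i₁ c * S.L o i₁ d + S.L o i₁ d * S.L o i₁ c + (S.L o i₁ c + S.L o i₁ d + 1) = 0 := by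
    intro hε1 c d hc hd hcd
    have h := hsign o i₁ c d ⟨hpt c hc, hpt d hd, hcd⟩
    have hx := hfree o i₁ c (hpt c hc)
    have hy := hfree o i₁ d (hpt d hd)
    set x := S.L o i₁ c
    set y := S.L o i₁ d
    have hxy : x * y = -(y * y * (x * x)) := by
      calc x * y = (x * y) * ((x * y) * (y * y * (x * x))) := by
            rw [show x * y * (y * y * (x * x)) = x * (y * y * y) * (x * x) by simp only [mul_assoc], S.L_cube,
              mul_one, show x * (x * x) = x * x * x from (mul_assoc x x x).symm, S.L_cube, mul_one]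
        _ = _ := by rw [← mul_assoc, h, hε1, neg_one_smul, neg_mul, one_mul]
    have ex : x * x = -(x + 1) := eq_neg_of_add_eq_zero_left (by rw [← add_assoc]; exact hx)
    have ey : y * y = -(y + 1) := eq_neg_of_add_eq_zero_left (by rw [← add_assoc]; exact hy)
    rw [hxy, ex, ey]
    noncomm_ring
  by_cases hp2 : p = 2
  · obtain rfl := h2 hp2
    subst hp2
    have hε1 : ε = -1 := by
      haveI := Fact.mk Nat.prime_two
      rcases mul_self_eq_one_iff.1 hε with h | h
      · rw [h, CharTwo.neg_eq]
      · exact h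
    have hrel := rel hε1
    set z : Fin 11 := 10
    have two : (2 : k) = 0 := CharTwo.two_eq_zero
    have hadd : ∀ w : Module.End k V, w + w = 0 := fun w => by
      rw [← two_smul k w, two, zero_smul]
    have hneg : ∀ w : Module.End k V, -w = w := fun w => neg_eq_of_add_eq_zero_right (hadd w)
    have hge : 2 ^ (8 / 2) ≤ finrank k V := by
      refine pow_le_of_quadratic
        (fun i : Fin 8 => S.L o i₁ ⟨i + 2, by omega⟩ + S.L o i₁ z) (fun i => ⟨1, ?_⟩)
        (fun i j => if i = j then 0 else 1) (fun i j => ?_) fun u hu => ?_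
      · have hc : 2 ≤ ((⟨i + 2, by omega⟩ : Fin 11) : ℕ) := by simp
        have h := hrel ⟨i + 2, by omega⟩ z hc (by decide) (by simp [z, Fin.ext_iff]; omega)
        have ex := hfree _ _ _ (hpt _ hc)
        have ez := hfree _ _ _ (hpt z (by decide))
        set x := S.L o i₁ ⟨i + 2, by omega⟩
        set w := S.L o i₁ z
        rw [one_smul]
        calc (x + w) * (x + w) = (x * x + x + 1) + (w * w + w + 1) + (x * w + w * x + (x + w + 1))
              - (x + x) - (w + w) - (1 + 1) - 1 := by noncomm_ring
          _ = 1 := by simp only [ex, ez, h, hadd]; simp [hneg]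
      · by_cases hij : i = j
        · subst hij
          rw [if_pos rfl, zero_smul]; exact hadd _
        · rw [if_neg hij, one_smul]
          have hc : 2 ≤ ((⟨i + 2, by omega⟩ : Fin 11) : ℕ) := by simp
          have hd : 2 ≤ ((⟨j + 2, by omega⟩ : Fin 11) : ℕ) := by simp
          have h := hrel ⟨i + 2, by omega⟩ ⟨j + 2, by omega⟩ hc hd (by simp [Fin.ext_iff]; omega)
          have h1 := hrel ⟨i + 2, by omega⟩ z hc (by decide) (by simp [z, Fin.ext_iff]; omega)
          have h2 := hrel ⟨j + 2, by omega⟩ z hd (by decide) (by simp [z, Fin.ext_iff]; omega)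
          set x := S.L o i₁ ⟨i + 2, by omega⟩
          set y := S.L o i₁ ⟨j + 2, by omega⟩
          set w := S.L o i₁ z
          calc (x + w) * (y + w) + (y + w) * (x + w) = (x * y + y * x + (x + y + 1)) + (x * w + w * x + (x + w + 1))
                + (y * w + w * y + (y + w + 1)) + (w * w + w * w) - (x + x) - (y + y) - (w + w) - (1 + 1) - 1 := by
                noncomm_ring
            _ = 1 := by simp only [h, h1, h2, hadd]; simp [hneg]
      · have e : ∀ j, (∑ i, u i) - u j = 0 := fun j => by
          rw [← hu j, ← Finset.sum_erase_eq_sub (Finset.mem_univ j)]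
          refine Finset.sum_congr_of_eq_on_inter ?_ ?_ ?_
          · intro a ha hn; exact absurd (Finset.mem_univ a) hn
          · intro a _ hn
            rw [Finset.mem_erase, not_and_or] at hn
            have : a = j := by simpa using hn
            simp [this]
          · intro a ha _
            rw [if_neg (Finset.ne_of_mem_erase ha), mul_one]
        have hS : ∑ i, u i = 0 := by
          have : ∑ _j : Fin 8, (∑ i, u i) - ∑ j, u j = 0 := by
            rw [← Finset.sum_sub_distrib]; exact Finset.sum_eq_zero fun j _ => e j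
          rw [Finset.sum_const, Finset.card_univ, Fintype.card_fin, nsmul_eq_mul] at this
          have h8 : ((8 : ℕ) : k) = 0 := by
            rw [show (8 : ℕ) = 2 * 4 by norm_num, Nat.cast_mul, Nat.cast_ofNat, two, zero_mul]
          rw [h8, zero_mul, zero_sub, neg_eq_zero] at this
          exact this
        funext j
        simpa [hS] using e j
    norm_num at hge
    split_ifs <;> omega
  · have h20 : (2 : k) ≠ 0 := by
      intro h
      have := (CharP.cast_eq_zero_iff k p 2).1 (by exact_mod_cast h)
      exact hp2 ((Nat.prime_dvd_prime_iff_eq hpp Nat.prime_two).1 this)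
    have hε1 : ε = -1 := by
      rcases mul_self_eq_one_iff.1 hε with h | h
      · exfalso
        have hc : 2 ≤ ((⟨2, by omega⟩ : Fin r) : ℕ) := le_rfl
        have hd : 2 ≤ ((⟨3, by omega⟩ : Fin r) : ℕ) := by simp
        have hcd : (⟨2, by omega⟩ : Fin r) ≠ ⟨3, by omega⟩ := by simp [Fin.ext_iff]
        have hxy := hsign o i₁ _ _ ⟨hpt _ hc, hpt _ hd, hcd⟩
        have hyx := hsign o i₁ _ _ ⟨hpt _ hd, hpt _ hc, hcd.symm⟩
        have hx := hfree _ _ _ (hpt _ hc)
        have hy := hfree _ _ _ (hpt _ hd)
        set x := S.L o i₁ ⟨2, by omega⟩ with hxdef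
        set y := S.L o i₁ ⟨3, by omega⟩ with hydef
        have gen : ∀ x y : Module.End k V, x * x * x = 1 → y * y * y = 1 → (x * y) * (x * y) = 1 →
            x * y = y * y * (x * x) := fun x y h3 h3' h1 => by
          calc x * y = (x * y) * ((x * y) * (y * y * (x * x))) := by
                rw [show x * y * (y * y * (x * x)) = x * (y * y * y) * (x * x) by simp only [mul_assoc], h3',
                  mul_one, show x * (x * x) = x * x * x from (mul_assoc x x x).symm, h3, mul_one]
            _ = _ := by rw [← mul_assoc, h1, one_mul]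
        have e1 := gen x y (S.L_cube _ _ _) (S.L_cube _ _ _) (by rw [hxy, h, one_smul])
        have e2 := gen y x (S.L_cube _ _ _) (S.L_cube _ _ _) (by rw [hyx, h, one_smul])
        have ex : x * x = -(x + 1) := eq_neg_of_add_eq_zero_left (by rw [← add_assoc]; exact hx)
        have ey : y * y = -(y + 1) := eq_neg_of_add_eq_zero_left (by rw [← add_assoc]; exact hy)
        rw [ex, ey] at e1 e2
        have hsum : (2 : k) • (x + y + 1) = 0 := by
          rw [two_smul]
          have : x * y + y * x = -(y + 1) * -(x + 1) + -(x + 1) * -(y + 1) := by rw [← e1, ← e2]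
          simp only [neg_mul_neg, add_mul, mul_add, one_mul, mul_one] at this
          rw [← sub_eq_zero] at this
          rw [← neg_eq_zero, ← this]
          abel
        have hy2 : y = x * x := by
          rw [ex]
          exact eq_neg_of_add_eq_zero_right (by rw [← (smul_eq_zero.1 hsum).resolve_left h20]; abel)
        have hflip : S.L i₁ o ⟨2, by omega⟩ = y := by rw [S.L_flip (hpt _ hc), ← hxdef, hy2]
        have := congrArg (fun σ : Equiv.Perm (Fin r) => σ o)
          (S.cyc_eq_of_L_eq (hpt _ hd) (hpt _ hc).flip (by rw [hflip]))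
        simp only [cyc_fst (hpt _ hd), cyc_snd (hpt _ hc).flip] at this
        simp [i₁, Fin.ext_iff] at this
      · exact h
    have hrel := rel hε1
    set m := r - 2 - (if p ∣ r then 1 else 0) with hm
    have hm6 : 6 ≤ m := by rw [hm]; split_ifs <;> omega
    have hmr : m + 2 ≤ r := by rw [hm]; split_ifs <;> omega
    have hge : 2 ^ (m / 2) ≤ finrank k V := by
      refine pow_le_of_quadratic
        (fun i : Fin m => S.L o i₁ ⟨i + 2, by omega⟩ + (2 : k)⁻¹ • 1) (fun i => ⟨-(3 / 4), ?_⟩)
        (fun i j => if i = j then -(3 / 2) else -(1 / 2)) (fun i j => ?_) fun u hu => ?_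
      · have ex := hfree _ _ _ (hpt ⟨i + 2, by omega⟩ (by simp))
        set x := S.L o i₁ ⟨i + 2, by omega⟩
        calc (x + (2 : k)⁻¹ • 1) * (x + (2 : k)⁻¹ • 1) =
              (x * x + x + 1) + (((2 : k)⁻¹ + (2 : k)⁻¹ - 1) • x + ((2 : k)⁻¹ * (2 : k)⁻¹ - 1) • 1) := by
              simp only [add_mul, mul_add, smul_mul_assoc, mul_smul_comm, one_mul, mul_one, smul_smul]
              module
          _ = _ := by
              rw [ex, zero_add, show (2 : k)⁻¹ + (2 : k)⁻¹ - 1 = 0 by field_simp; norm_num, zero_smul, zero_add]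
              congr 1
              have h4 : (4 : k) ≠ 0 := by rw [show (4 : k) = 2 * 2 by norm_num]; exact mul_ne_zero h20 h20
              field_simp
              ring
      · by_cases hij : i = j
        · subst hij
          rw [if_pos rfl]
          have ex := hfree _ _ _ (hpt ⟨i + 2, by omega⟩ (by simp))
          set x := S.L o i₁ ⟨i + 2, by omega⟩
          calc (x + (2 : k)⁻¹ • 1) * (x + (2 : k)⁻¹ • 1) + (x + (2 : k)⁻¹ • 1) * (x + (2 : k)⁻¹ • 1) =
                (2 : k) • (x * x + x + 1) + ((4 : k) * (2 : k)⁻¹ - 2) • x +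
                  ((2 : k) * ((2 : k)⁻¹ * (2 : k)⁻¹) - 2) • 1 := by
                simp only [add_mul, mul_add, smul_mul_assoc, mul_smul_comm, one_mul, mul_one, smul_smul]
                module
            _ = _ := by
                rw [ex, smul_zero, zero_add, show (4 : k) * (2 : k)⁻¹ - 2 = 0 by field_simp; norm_num, zero_smul,
                  zero_add]
                congr 1
                field_simp
                norm_num
        · rw [if_neg hij]
          have h := hrel ⟨i + 2, by omega⟩ ⟨j + 2, by omega⟩ (by simp) (by simp) (by simp [Fin.ext_iff]; omega)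
          set x := S.L o i₁ ⟨i + 2, by omega⟩
          set y := S.L o i₁ ⟨j + 2, by omega⟩
          calc (x + (2 : k)⁻¹ • 1) * (y + (2 : k)⁻¹ • 1) + (y + (2 : k)⁻¹ • 1) * (x + (2 : k)⁻¹ • 1) =
                (x * y + y * x + (x + y + 1)) + ((2 : k) * (2 : k)⁻¹ - 1) • (x + y) +
                  ((2 : k) * ((2 : k)⁻¹ * (2 : k)⁻¹) - 1) • 1 := by
                simp only [add_mul, mul_add, smul_mul_assoc, mul_smul_comm, one_mul, mul_one, smul_smul]
                module
            _ = _ := by
                rw [h, zero_add, mul_inv_cancel₀ h20, sub_self, zero_smul, zero_add]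
                congr 1
                field_simp
                norm_num
      · have e : ∀ j, (∑ i, u i) + 2 * u j = 0 := by
          intro j
          have hd : ∀ i, u i * (if i = j then -(3 / 2 : k) else -(1 / 2)) =
              -(1 / 2) * u i + (if i = j then -(u i) else 0) := by
            intro i
            split_ifs
            · field_simp; ring
            · rw [add_zero, mul_comm]
          have h := hu j
          simp only [hd, Finset.sum_add_distrib, ← Finset.mul_sum, Finset.sum_ite_eq', Finset.mem_univ,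
            if_true] at h
          field_simp at h
          linear_combination (-1 : k) * h
        have hsum : ((m : k) + 2) * ∑ i, u i = 0 := by
          have : ∑ j : Fin m, ((∑ i, u i) + 2 * u j) = 0 := Finset.sum_eq_zero fun j _ => e j
          rw [Finset.sum_add_distrib, Finset.sum_const, ← Finset.mul_sum, Finset.card_univ, Fintype.card_fin,
            nsmul_eq_mul] at this
          linear_combination this
        have hne : ((m : k) + 2) ≠ 0 := by
          intro h
          have hd := (CharP.cast_eq_zero_iff k p (m + 2)).1 (by exact_mod_cast h)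
          by_cases hpr : p ∣ r
          · rw [hm, if_pos hpr, show r - 2 - 1 + 2 = r - 1 by omega] at hd
            have h1 : p ∣ r - (r - 1) := Nat.dvd_sub hpr hd
            rw [show r - (r - 1) = 1 by omega, Nat.dvd_one] at h1
            exact hpp.one_lt.ne' h1
          · rw [hm, if_neg hpr, show r - 2 - 0 + 2 = r by omega] at hd
            exact hpr hd
        have hS := (mul_eq_zero.1 hsum).resolve_left hne
        funext j
        have := e j
        rw [hS, zero_add] at this
        exact (mul_eq_zero.1 this).resolve_left h20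
    have := succ_le_two_pow m hm6
    rw [hm] at this hge
    split_ifs at this hge ⊢ <;> omega

end IsProj

end CfsgLib.AltRep
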