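import Cfsg.Agent.Lib.AltRep.Displacement
import Cfsg.Agent.Lib.AltRep.Spin

/-!
# The natural module inside a representation with two-dimensional displacement spaces

If every `(L - 1) V` has dimension two, disjoint three-cycles fix it, and two triples with two common
points span at most three dimensions, then the module contains the images of `e_i - e_{i+1}`, which are
independent up to the relation available when the characteristic divides the degree.
-/

set_option autoImplicit false
set_option linter.unusedSectionVars false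

namespace CfsgLib.AltRep

open Equiv Equiv.Perm Module

variable {r : ℕ} {k V H : Type*} [Field k] [IsAlgClosed k] [AddCommGroup V] [Module k V] [Group H]

namespace IsProj

variable {ρ : H →* Module.End k V} {π : H →* alternatingGroup (Fin r)} (S : IsProj ρ π)

/-- The hypotheses on the displacement spaces. -/
structure Natural : Prop where
  two : ∀ a b c, D3 a b c → finrank k (S.M a b c) = 2
  fix : ∀ a b c e f g, D3 a b c → D3 e f g → (∀ x ∈ [e, f, g], x ≠ a ∧ x ≠ b ∧ x ≠ c) →
    ∀ v ∈ S.M e f g, S.L a b c v = v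
  three : ∀ a b c d, D4 a b c d → finrank k (S.M a b c ⊔ S.M a b d : Submodule k V) ≤ 3

/-- The line belonging to a pair of points. -/
noncomputable def Ln (a b : Fin r) : Submodule k V := ⨅ (c) (_ : D3 a b c), S.M a b c

theorem mem_Ln {a b : Fin r} {v : V} : v ∈ S.Ln a b ↔ ∀ c, D3 a b c → v ∈ S.M a b c := by
  simp [Ln, Submodule.mem_iInf]

variable [FiniteDimensional k V] {S}

theorem Natural.nonempty_off (hN : S.Natural) {a b c : Fin r} (h : D3 a b c) :
    ∃ e f g, D3 e f g ∧ ∀ x ∈ [e, f, g], x ≠ a ∧ x ≠ b ∧ x ≠ c := by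
  have hr := S.nine
  have hc := Finset.card_le_three (a := a) (b := b) (c := c)
  obtain ⟨e, f, he, hf, hef⟩ := exists_two_off {a, b, c} (by omega)
  obtain ⟨g, hg⟩ := exists_off (insert e (insert f {a, b, c})) (by
    have h1 := Finset.card_insert_le e (insert f ({a, b, c} : Finset (Fin r)))
    have h2 := Finset.card_insert_le f ({a, b, c} : Finset (Fin r))
    omega)
  simp only [Finset.mem_insert, Finset.mem_singleton, not_or] at he hf hg
  refine ⟨e, f, g, ⟨hef, Ne.symm hg.2.1, Ne.symm hg.1⟩, ?_⟩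
  simp only [List.mem_cons, List.not_mem_nil, or_false, forall_eq_or_imp, forall_eq]
  exact ⟨he, hf, hg.2.2⟩

theorem Natural.M_ne (hN : S.Natural) {a b c d : Fin r} (h : D4 a b c d) : S.M a b c ≠ S.M a b d := by
  obtain ⟨h1, h2, hcd⟩ := h
  intro heq
  have hr := S.nine
  set W := S.M a b c with hW
  have hab : ∀ e, D3 a b e → S.M a b e = W := by
    intro e he
    by_cases hec : e = c
    · rw [hec]
    by_cases hed : e = d
    · rw [hed, ← heq]
    obtain ⟨f, hf⟩ := exists_off {a, b, c, d, e} (by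
      have := Finset.card_le_five (a := a) (b := b) (c := c) (d := d) (e := e); omega)
    simp only [Finset.mem_insert, Finset.mem_singleton, not_or] at hf
    have hdef : D3 d e f := ⟨Ne.symm hed, Ne.symm hf.2.2.2.2, Ne.symm hf.2.2.2.1⟩
    have hdis : ∀ x ∈ [a, b, c], x ≠ d ∧ x ≠ e ∧ x ≠ f := by
      simp only [List.mem_cons, List.not_mem_nil, or_false, forall_eq_or_imp, forall_eq]
      exact ⟨⟨h2.2.2, he.2.2, Ne.symm hf.1⟩, ⟨h2.2.1, he.2.1, Ne.symm hf.2.1⟩,
        ⟨hcd, Ne.symm hec, Ne.symm hf.2.2.1⟩⟩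
    refine (Submodule.eq_of_le_of_finrank_eq (fun v hv => ?_) (by rw [hN.two _ _ _ he, hN.two _ _ _ h1])).symm
    have hv' : v ∈ S.M a b d := heq ▸ hv
    have := S.L_mem_M hdef h2 hv'
    rwa [hN.fix d e f a b c hdef h1 hdis v hv, cyc_fst hdef, cyc_off h2.2.2 he.2.2 (Ne.symm hf.1),
      cyc_off h2.2.1 he.2.1 (Ne.symm hf.2.1)] at this
  have hrot : ∀ a' b', ((a' = a ∧ b' = b) ∨ (a' = b ∧ b' = c) ∨ (a' = c ∧ b' = a) ∨ (a' = b ∧ b' = a) ∨
      (a' = c ∧ b' = b) ∨ (a' = a ∧ b' = c)) → ∀ e, D3 a' b' e → S.M a' b' e = W := by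
    have hbc : ∀ e, D3 b c e → S.M b c e = W := by
      intro e he
      by_cases hea : e = a
      · rw [hea, S.M_rot h1]
      refine (Submodule.eq_of_le_of_finrank_eq (fun v hv => ?_) (by rw [hN.two _ _ _ he, hN.two _ _ _ h1])).symm
      have he' : D3 a b e := ⟨h1.1, he.2.2, Ne.symm hea⟩
      obtain ⟨u, hu⟩ : ∃ u ∈ W, S.L a b c u = v := by
        refine ⟨S.L a b c (S.L a b c v), S.L_mem_M_self (S.L_mem_M_self hv), ?_⟩
        rw [← End.mul_apply, ← End.mul_apply, S.L_cube, End.one_apply]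
      have := S.L_mem_M h1 he' ((hab e he').symm ▸ hu.1)
      rwa [hu.2, cyc_fst h1, cyc_snd h1, cyc_off (Ne.symm he'.2.2) (Ne.symm he'.2.1) (Ne.symm he.2.1)] at this
    have hca : ∀ e, D3 c a e → S.M c a e = W := by
      intro e he
      by_cases heb : e = b
      · rw [heb, S.M_rot h1.rot, S.M_rot h1]
      refine (Submodule.eq_of_le_of_finrank_eq (fun v hv => ?_) (by rw [hN.two _ _ _ he, hN.two _ _ _ h1])).symm
      have he' : D3 b c e := ⟨h1.2.1, he.2.2, Ne.symm heb⟩
      obtain ⟨u, hu⟩ : ∃ u ∈ W, S.L a b c u = v := by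
        refine ⟨S.L a b c (S.L a b c v), S.L_mem_M_self (S.L_mem_M_self hv), ?_⟩
        rw [← End.mul_apply, ← End.mul_apply, S.L_cube, End.one_apply]
      have := S.L_mem_M h1 he' ((hbc e he').symm ▸ hu.1)
      rwa [hu.2, cyc_snd h1, cyc_thd h1, cyc_off (Ne.symm he.2.1) (Ne.symm he'.2.2) (Ne.symm he'.2.1)] at this
    intro a' b' hcase e he
    rcases hcase with ⟨rfl, rfl⟩ | ⟨rfl, rfl⟩ | ⟨rfl, rfl⟩ | ⟨rfl, rfl⟩ | ⟨rfl, rfl⟩ | ⟨rfl, rfl⟩
    · exact hab e he
    · exact hbc e he
    · exact hca e he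
    · rw [S.M_flip he.flip, hab e he.flip]
    · rw [S.M_flip he.flip, hbc e he.flip]
    · rw [S.M_flip he.flip, hca e he.flip]
  rcases S.eq_bot_or_top_of W ({a, b, c} : Finset (Fin r))ᶜ (by
      rw [Finset.card_compl, Fintype.card_fin, Finset.card_insert_of_notMem (by simp [h1.1, h1.2.2]),
        Finset.card_pair h1.2.1]; omega) (fun e x y hexy hx hy w hw => by
      simp only [Finset.mem_compl, not_not, Finset.mem_insert, Finset.mem_singleton] at hx hy
      have : S.M x y e = W := hrot x y (by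
        rcases hx with rfl | rfl | rfl <;> rcases hy with rfl | rfl | rfl <;>
          first | exact absurd rfl hexy.2.1 | tauto) e hexy.rot
      rw [S.M_rot hexy] at this
      have hmem := S.sub_mem_M e x y w
      rw [this] at hmem
      simpa using add_mem hmem hw) with h0 | h0
  · exact S.M_ne_bot h1 h0
  · obtain ⟨e, f, g, hefg, hoff⟩ := hN.nonempty_off h1
    refine S.L_ne_one hefg (LinearMap.ext fun v => ?_)
    refine hN.fix e f g a b c hefg h1 ?_ v (by rw [show S.M a b c = ⊤ from h0]; exact Submodule.mem_top)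
    simp only [List.mem_cons, List.not_mem_nil, or_false, forall_eq_or_imp, forall_eq] at hoff ⊢
    exact ⟨⟨Ne.symm hoff.1.1, Ne.symm hoff.2.1.1, Ne.symm hoff.2.2.1⟩,
      ⟨Ne.symm hoff.1.2.1, Ne.symm hoff.2.1.2.1, Ne.symm hoff.2.2.2.1⟩,
      ⟨Ne.symm hoff.1.2.2, Ne.symm hoff.2.1.2.2, Ne.symm hoff.2.2.2.2⟩⟩

theorem Natural.Ln_eq_inf (hN : S.Natural) {a b c d : Fin r} (h : D4 a b c d) :
    S.Ln a b = S.M a b c ⊓ S.M a b d := by
  have hr := S.nine
  obtain ⟨h1, h2, hcd⟩ := h
  refine le_antisymm (fun v hv => ⟨S.mem_Ln.1 hv c h1, S.mem_Ln.1 hv d h2⟩) fun v hv => S.mem_Ln.2 fun e he => ?_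
  by_cases hec : e = c
  · exact hec ▸ hv.1
  by_cases hed : e = d
  · exact hed ▸ hv.2
  obtain ⟨f, hf⟩ := exists_off {a, b, c, d, e} (by
    have := Finset.card_le_five (a := a) (b := b) (c := c) (d := d) (e := e); omega)
  simp only [Finset.mem_insert, Finset.mem_singleton, not_or] at hf
  have hdef : D3 d e f := ⟨Ne.symm hed, Ne.symm hf.2.2.2.2, Ne.symm hf.2.2.2.1⟩
  have hdis : ∀ x ∈ [a, b, c], x ≠ d ∧ x ≠ e ∧ x ≠ f := by
    simp only [List.mem_cons, List.not_mem_nil, or_false, forall_eq_or_imp, forall_eq]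
    exact ⟨⟨h2.2.2, he.2.2, Ne.symm hf.1⟩, ⟨h2.2.1, he.2.1, Ne.symm hf.2.1⟩,
      ⟨hcd, Ne.symm hec, Ne.symm hf.2.2.1⟩⟩
  have := S.L_mem_M hdef h2 hv.2
  rwa [hN.fix d e f a b c hdef h1 hdis v hv.1, cyc_fst hdef, cyc_off h2.2.2 he.2.2 (Ne.symm hf.1),
    cyc_off h2.2.1 he.2.1 (Ne.symm hf.2.1)] at this

theorem Natural.finrank_Ln (hN : S.Natural) {a b : Fin r} (hab : a ≠ b) : finrank k (S.Ln a b) = 1 := by
  have hr := S.nine
  obtain ⟨c, d, hc, hd, hcd⟩ := exists_two_off {a, b} (by
    have := Finset.card_le_two (a := a) (b := b); omega)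
  simp only [Finset.mem_insert, Finset.mem_singleton, not_or] at hc hd
  have h1 : D3 a b c := ⟨hab, Ne.symm hc.2, Ne.symm hc.1⟩
  have h2 : D3 a b d := ⟨hab, Ne.symm hd.2, Ne.symm hd.1⟩
  rw [hN.Ln_eq_inf ⟨h1, h2, hcd⟩]
  have hsum := Submodule.finrank_sup_add_finrank_inf_eq (S.M a b c) (S.M a b d)
  rw [hN.two _ _ _ h1, hN.two _ _ _ h2] at hsum
  have h3 := hN.three a b c d ⟨h1, h2, hcd⟩
  have hlt : finrank k (S.M a b c ⊓ S.M a b d : Submodule k V) < 2 := by
    by_contra hge
    have e1 := Submodule.eq_of_le_of_finrank_le (inf_le_left : S.M a b c ⊓ S.M a b d ≤ S.M a b c)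
      (by rw [hN.two _ _ _ h1]; omega)
    have e2 := Submodule.eq_of_le_of_finrank_le (inf_le_right : S.M a b c ⊓ S.M a b d ≤ S.M a b d)
      (by rw [hN.two _ _ _ h2]; omega)
    exact hN.M_ne ⟨h1, h2, hcd⟩ (e1.symm.trans e2)
  omega

theorem Ln_symm {a b : Fin r} : S.Ln a b = S.Ln b a := by
  refine le_antisymm (fun v hv => S.mem_Ln.2 fun c hc => ?_) (fun v hv => S.mem_Ln.2 fun c hc => ?_)
  · rw [S.M_flip hc.flip]; exact S.mem_Ln.1 hv c hc.flip
  · rw [S.M_flip hc.flip]; exact S.mem_Ln.1 hv c hc.flip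

theorem L_mem_Ln {p q s a b : Fin r} (h : D3 p q s) {v : V} (hv : v ∈ S.Ln a b) :
    S.L p q s v ∈ S.Ln (cyc p q s a) (cyc p q s b) := by
  refine S.mem_Ln.2 fun e he => ?_
  obtain ⟨e', rfl⟩ := (cyc p q s).surjective e
  have h' : D3 a b e' := ⟨fun x => he.1 (congrArg _ x), fun x => he.2.1 (congrArg _ x), fun x => he.2.2 (congrArg _ x)⟩
  exact S.L_mem_M h h' (S.mem_Ln.1 hv e' h')

theorem Natural.Ln_ne (hN : S.Natural) {a b c : Fin r} (h : D3 a b c) : S.Ln a b ≠ S.Ln b c := by
  intro heq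
  have hr := S.nine
  have adj : ∀ x y z, D3 x y z → S.Ln x y ≤ S.Ln y z := by
    intro x y z hxyz
    have hf : Function.Injective ![a, b, c] := by
      intro i j; fin_cases i <;> fin_cases j <;> simp [h.1, h.2.1, h.2.2, h.1.symm, h.2.1.symm, h.2.2.symm]
    have hf' : Function.Injective ![x, y, z] := by
      intro i j; fin_cases i <;> fin_cases j <;>
        simp [hxyz.1, hxyz.2.1, hxyz.2.2, hxyz.1.symm, hxyz.2.1.symm, hxyz.2.2.symm]
    obtain ⟨g, hg⟩ := S.exists_move (n := 3) (by omega) hf hf'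
    have e0 := hg 0; have e1 := hg 1; have e2 := hg 2
    simp only [Fin.isValue, Matrix.cons_val] at e0 e1 e2
    have trans_Ln : ∀ (g : H) (p q : Fin r) (u : V), u ∈ S.Ln p q →
        ρ g u ∈ S.Ln ((π g : Equiv.Perm (Fin r)) p) ((π g : Equiv.Perm (Fin r)) q) := by
      intro g p q u hu
      refine S.mem_Ln.2 fun e he => ?_
      obtain ⟨e', rfl⟩ := (π g : Equiv.Perm (Fin r)).surjective e
      have h' : D3 p q e' := ⟨fun x => he.1 (congrArg _ x), fun x => he.2.1 (congrArg _ x),
        fun x => he.2.2 (congrArg _ x)⟩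
      exact S.rho_mem_M g h' (S.mem_Ln.1 hu e' h')
    intro v hv
    have hv' := trans_Ln g⁻¹ x y v hv
    have hinv : ∀ {i j : Fin r}, (π g : Equiv.Perm (Fin r)) i = j → (π g⁻¹ : Equiv.Perm (Fin r)) j = i := by
      intro i j e
      rw [← e]; simp
    rw [hinv e0, hinv e1, heq] at hv'
    have := trans_Ln g b c _ hv'
    rwa [e1, e2, ← End.mul_apply, rho_mul_inv, End.one_apply] at this
  obtain ⟨v, hv, hv0⟩ := (Submodule.ne_bot_iff (S.Ln a b)).1 (fun e => by
    have := hN.finrank_Ln h.1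
    rw [e, finrank_bot] at this; omega)
  refine hv0 (S.eq_zero_of_fixed v fun p q s hpqs => ?_)
  obtain ⟨u, w, z, huwz, hoff⟩ := hN.nonempty_off hpqs
  have hall : ∀ x y, x ≠ y → S.Ln a b ≤ S.Ln x y := by
    intro x y hxy
    obtain ⟨o, ho⟩ := exists_off {a, b, x, y} (by
      have := Finset.card_le_four (a := a) (b := b) (c := x) (d := y); omega)
    simp only [Finset.mem_insert, Finset.mem_singleton, not_or] at ho
    have s1 : S.Ln a b ≤ S.Ln a o := by
      rw [Ln_symm]; exact adj b a o ⟨h.1.symm, Ne.symm ho.1, Ne.symm ho.2.1⟩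
    have s2 : S.Ln a b ≤ S.Ln o x := by
      by_cases hxa : x = a
      · rw [hxa, Ln_symm (a := o)]; exact s1
      · exact s1.trans (adj a o x ⟨Ne.symm ho.1, ho.2.2.1, Ne.symm hxa⟩)
    exact s2.trans (adj o x y ⟨ho.2.2.1, hxy, ho.2.2.2⟩)
  exact hN.fix p q s u w z hpqs huwz hoff v (S.mem_Ln.1 (hall u w huwz.1 hv) z huwz)

theorem Natural.notMem (hN : S.Natural) {a b c d : Fin r} (h : D4 b c d a) {v : V} (hv : v ∈ S.Ln a b)
    (hv0 : v ≠ 0) : v ∉ S.M b c d := by
  intro hm
  obtain ⟨h1, h2, hda⟩ := h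
  refine hN.Ln_ne (a := a) (b := b) (c := c) h2.rot.rot ?_
  have hbc : v ∈ S.Ln b c := by
    rw [hN.Ln_eq_inf ⟨h1, h2, hda⟩]
    refine ⟨hm, ?_⟩
    rw [S.M_rot h2.rot.rot]
    exact S.mem_Ln.1 hv c h2.rot.rot
  have hle : ∀ x y, x ≠ y → v ∈ S.Ln x y → S.Ln x y = k ∙ v := fun x y hxy hv' =>
    (Submodule.eq_of_le_of_finrank_eq ((Submodule.span_singleton_le_iff_mem _ _).2 hv')
      (by rw [finrank_span_singleton hv0, hN.finrank_Ln hxy])).symm
  rw [hle a b h2.2.2.symm hv, hle b c h1.1 hbc]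

theorem Natural.bound (hN : S.Natural) (p : ℕ) [Fact p.Prime] [CharP k p] :
    r - 1 - (if p ∣ r then 1 else 0) ≤ finrank k V := by
  classical
  have hr := S.nine
  have hpp : p.Prime := Fact.out
  let P : ℕ → Fin r := fun i => ⟨i % r, Nat.mod_lt _ (by omega)⟩
  have hP : ∀ {i j}, i < r → j < r → (P i = P j ↔ i = j) := fun {i j} hi hj => by
    simp [P, Fin.ext_iff, Nat.mod_eq_of_lt hi, Nat.mod_eq_of_lt hj]
  have hne : ∀ {i j}, i < r → j < r → i ≠ j → P i ≠ P j := fun hi hj h e => h ((hP hi hj).1 e)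
  have d3 : ∀ i, i + 2 < r → D3 (P i) (P (i + 1)) (P (i + 2)) := fun i hi =>
    ⟨hne (by omega) (by omega) (by omega), hne (by omega) (by omega) (by omega), hne (by omega) (by omega) (by omega)⟩
  obtain ⟨v₀, hv₀, hv₀0⟩ := (Submodule.ne_bot_iff (S.Ln (P 0) (P 1))).1 (fun e => by
    have := hN.finrank_Ln (hne (i := 0) (j := 1) (by omega) (by omega) (by omega))
    rw [e, finrank_bot] at this; omega)
  let y : ℕ → Module.End k V := fun i => S.L (P i) (P (i + 1)) (P (i + 2))
  let v : ℕ → V := fun i => Nat.rec v₀ (fun j w => y j w) i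
  have hsucc : ∀ j, v (j + 1) = y j (v j) := fun j => rfl
  have hmem : ∀ i, i + 1 < r → v i ∈ S.Ln (P i) (P (i + 1)) ∧ v i ≠ 0 := by
    intro i
    induction i with
    | zero => exact fun _ => ⟨hv₀, hv₀0⟩
    | succ i ih =>
      intro hi
      obtain ⟨h1, h2⟩ := ih (by omega)
      refine ⟨?_, ?_⟩
      · have := L_mem_Ln (d3 i (by omega)) h1
        rwa [cyc_fst (d3 i (by omega)), cyc_snd (d3 i (by omega))] at this
      · rw [hsucc]
        refine fun e => h2 ?_
        have e' := congrArg (fun w => y i (y i w)) e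
        simp only [map_zero] at e'
        rwa [← End.mul_apply, ← End.mul_apply, S.L_cube, End.one_apply] at e'
  have hM : ∀ i, i + 2 < r → v i ∈ S.M (P i) (P (i + 1)) (P (i + 2)) ∧
      v (i + 1) ∈ S.M (P i) (P (i + 1)) (P (i + 2)) := fun i hi => by
    have h1 := S.mem_Ln.1 (hmem i (by omega)).1 _ (d3 i hi)
    exact ⟨h1, by rw [hsucc]; exact S.L_mem_M_self h1⟩
  have hind : ∀ i, i + 2 < r → ∀ a b : k, a • v i + b • v (i + 1) = 0 → a = 0 ∧ b = 0 := by
    intro i hi a b hab
    by_cases hb : b = 0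
    · rw [hb, zero_smul, add_zero] at hab
      exact ⟨(smul_eq_zero.1 hab).resolve_right (hmem i (by omega)).2, hb⟩
    exfalso
    refine hN.Ln_ne (d3 i hi) ?_
    have hin : v (i + 1) ∈ S.Ln (P i) (P (i + 1)) := by
      have : v (i + 1) = (-(b⁻¹ * a)) • v i := by
        rw [neg_smul, eq_neg_iff_add_eq_zero, add_comm, mul_comm]
        have := congrArg (fun w => b⁻¹ • w) hab
        simpa [smul_add, smul_smul, hb, mul_comm] using this
      rw [this]; exact Submodule.smul_mem _ _ (hmem i (by omega)).1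
    have hle : ∀ x z, x ≠ z → v (i + 1) ∈ S.Ln x z → S.Ln x z = k ∙ v (i + 1) := fun x z hxz hv' =>
      (Submodule.eq_of_le_of_finrank_eq ((Submodule.span_singleton_le_iff_mem _ _).2 hv')
        (by rw [finrank_span_singleton (hmem (i + 1) (by omega)).2, hN.finrank_Ln hxz])).symm
    rw [hle _ _ (d3 i hi).1 hin, hle _ _ (d3 i hi).2.1 (hmem (i + 1) (by omega)).1]
  -- the action of the generators
  have F1 : ∀ i, i + 2 < r → y i (v (i + 1)) = -v i - v (i + 1) := by
    intro i hi
    have h := S.norm_M (hM i hi).1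
    rw [← hsucc] at *
    rw [show -v i - v (i + 1) = -(v (i + 1) + v i) by abel, eq_neg_iff_add_eq_zero, ← add_assoc, hsucc]
    exact h
  have line : ∀ {a b : Fin r} {u w : V}, a ≠ b → u ∈ S.Ln a b → u ≠ 0 → w ∈ S.Ln a b → ∃ c : k, w = c • u := by
    intro a b u w hab hu hu0 hw
    have e : S.Ln a b = k ∙ u := (Submodule.eq_of_le_of_finrank_eq ((Submodule.span_singleton_le_iff_mem _ _).2 hu)
      (by rw [finrank_span_singleton hu0, hN.finrank_Ln hab])).symm
    rw [e] at hw
    obtain ⟨c, hc⟩ := Submodule.mem_span_singleton.1 hw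
    exact ⟨c, hc.symm⟩
  have pair : ∀ i, i + 2 < r → v i + v (i + 1) ≠ 0 ∧ v i + v (i + 1) ∈ S.Ln (P i) (P (i + 2)) := by
    intro i hi
    refine ⟨fun e => one_ne_zero (hind i hi 1 1 (by rw [one_smul, one_smul]; exact e)).1, ?_⟩
    have h1 := L_mem_Ln (d3 i hi) (L_mem_Ln (d3 i hi) (hmem i (by omega)).1)
    rw [← hsucc, cyc_fst (d3 i hi), cyc_snd (d3 i hi), cyc_thd (d3 i hi), F1 i hi] at h1
    rw [Ln_symm, show v i + v (i + 1) = -(-v i - v (i + 1)) by abel]
    exact neg_mem h1
  have F2 : ∀ j, j + 3 < r → y (j + 1) (v j) = v j + v (j + 1) := by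
    intro j hj
    have hd := d3 (j + 1) (by omega)
    have h1 := L_mem_Ln hd (hmem j (by omega)).1
    rw [cyc_fst hd, cyc_off (hne (by omega) (by omega) (by omega)) (hne (by omega) (by omega) (by omega))
      (hne (by omega) (by omega) (by omega))] at h1
    obtain ⟨c, hc⟩ := line (hne (by omega) (by omega) (by omega)) (pair j (by omega)).2 (pair j (by omega)).1 h1
    change y (j + 1) (v j) = _ at hc
    rw [hc]
    have hmem2 : (c - 1) • v j ∈ S.M (P (j + 1)) (P (j + 1 + 1)) (P (j + 1 + 2)) := by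
      have e : (c - 1) • v j = (y (j + 1) (v j) - v j) - c • v (j + 1) := by rw [hc]; module
      rw [e]
      exact sub_mem (S.sub_mem_M _ _ _ _) (Submodule.smul_mem _ _ (hM (j + 1) (by omega)).1)
    have hc1 : c = 1 := by
      by_contra hc1
      refine hN.notMem (a := P j) ⟨hd, ⟨hd.1, ?_, ?_⟩, ?_⟩ (hmem j (by omega)).1 (hmem j (by omega)).2
        ((Submodule.smul_mem_iff _ (sub_ne_zero.2 hc1)).1 hmem2)
      all_goals exact hne (by omega) (by omega) (by omega)
    rw [hc1, one_smul]
  have F3 : ∀ j, j + 3 < r → y j (v (j + 2)) = v j + v (j + 1) + v (j + 2) := by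
    intro j hj
    have hd := d3 j (by omega)
    have h1 := L_mem_Ln hd (hmem (j + 2) (by omega)).1
    rw [cyc_thd hd, cyc_off (hne (by omega) (by omega) (by omega)) (hne (by omega) (by omega) (by omega))
      (hne (by omega) (by omega) (by omega))] at h1
    set w := v j + v (j + 1) + v (j + 2) with hw
    have hwL : w ∈ S.Ln (P j) (P (j + 2 + 1)) := by
      have hd' := d3 (j + 1) (by omega)
      have h2 := L_mem_Ln hd' (pair j (by omega)).2
      rw [cyc_off (hne (by omega) (by omega) (by omega)) (hne (by omega) (by omega) (by omega))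
        (hne (by omega) (by omega) (by omega)), cyc_snd hd'] at h2
      change y (j + 1) (v j + v (j + 1)) ∈ _ at h2
      rw [map_add, F2 j hj, ← hsucc] at h2
      exact h2
    have hvM : v (j + 2) ∉ S.M (P j) (P (j + 1)) (P (j + 2)) := by
      obtain ⟨hv1, hv2⟩ := hmem (j + 2) (by omega)
      rw [← S.M_rot hd, ← S.M_rot hd.rot]
      refine hN.notMem (a := P (j + 2 + 1)) ⟨hd.rot.rot, ⟨hd.2.2.symm, ?_, ?_⟩, ?_⟩ (by rw [Ln_symm]; exact hv1) hv2
      all_goals exact hne (by omega) (by omega) (by omega)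
    have hw0 : w ≠ 0 := fun e => hvM (by
      rw [hw] at e
      rw [eq_neg_of_add_eq_zero_right e]
      exact neg_mem (add_mem (hM j (by omega)).1 (hM j (by omega)).2))
    obtain ⟨c, hc⟩ := line (hne (by omega) (by omega) (by omega)) hwL hw0 h1
    change y j (v (j + 2)) = _ at hc
    rw [hc]
    by_contra hne1
    have hc1 : c ≠ 1 := fun e => hne1 (by rw [e, one_smul])
    refine hvM ((Submodule.smul_mem_iff _ (sub_ne_zero.2 hc1)).1 ?_)
    have e : (c - 1) • v (j + 2) = (y j (v (j + 2)) - v (j + 2)) - c • v j - c • v (j + 1) := by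
      rw [hc, hw]; module
    rw [e]
    exact sub_mem (sub_mem (S.sub_mem_M _ _ _ _) (Submodule.smul_mem _ _ (hM j (by omega)).1))
      (Submodule.smul_mem _ _ (hM j (by omega)).2)
  have F4 : ∀ i j, i + 2 < r → j + 1 < r → (j + 1 < i ∨ i + 2 < j) → y i (v j) = v j := by
    intro i j hi hj hij
    obtain ⟨c, hc⟩ := exists_off {P i, P (i + 1), P (i + 2), P j, P (j + 1)} (by
      have := Finset.card_le_five (a := P i) (b := P (i + 1)) (c := P (i + 2)) (d := P j) (e := P (j + 1)); omega)
    simp only [Finset.mem_insert, Finset.mem_singleton, not_or] at hc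
    have hd : D3 (P j) (P (j + 1)) c :=
      ⟨hne (by omega) (by omega) (by omega), Ne.symm hc.2.2.2.2, Ne.symm hc.2.2.2.1⟩
    refine hN.fix _ _ _ _ _ _ (d3 i hi) hd ?_ _ (S.mem_Ln.1 (hmem j hj).1 _ hd)
    simp only [List.mem_cons, List.not_mem_nil, or_false, forall_eq_or_imp, forall_eq]
    refine ⟨⟨hne ?_ ?_ ?_, hne ?_ ?_ ?_, hne ?_ ?_ ?_⟩, ⟨hne ?_ ?_ ?_, hne ?_ ?_ ?_, hne ?_ ?_ ?_⟩,
      hc.1, hc.2.1, hc.2.2.1⟩ <;> omega
  -- independence
  set N := r - 1 - (if p ∣ r then 1 else 0) with hNdef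
  have hNr : N + 1 ≤ r := by omega
  have hli : LinearIndependent k (fun i : Fin N => v i) := by
    rw [Fintype.linearIndependent_iff]
    intro g hg
    let c : ℕ → k := fun i => if h : i < N then g ⟨i, h⟩ else 0
    have hc0 : ∀ i, N ≤ i → c i = 0 := fun i hi => dif_neg (by omega)
    have hsum : ∑ i ∈ Finset.range (r - 1), c i • v i = 0 := by
      rw [← hg, ← Finset.sum_subset (s₁ := Finset.range N) (Finset.range_mono (Nat.sub_le _ _))
        (fun i _ hi => by rw [hc0 i (by simpa using hi), zero_smul]), Finset.sum_range]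
      exact Finset.sum_congr rfl fun i _ => by simp [c]
    have rec2 : ∀ j, j + 2 < r → c j - 2 * c (j + 1) + c (j + 2) = 0 ∧
        (j = 0 → -c 0 - c 1 + c 2 = 0) := by
      intro j hj
      let f : ℕ → V := fun i => (if i + 1 = j then v j else 0) + (if i = j then v (j + 1) - v j else 0) +
        (if i = j + 1 then -v j - (2 : k) • v (j + 1) else 0) + (if i = j + 2 then v j + v (j + 1) else 0)
      have hf : ∀ i ∈ Finset.range (r - 1), y j (v i) - v i = f i := by
        intro i hi
        rw [Finset.mem_range] at hi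
        simp only [f]
        by_cases e1 : i + 1 = j
        · subst e1
          rw [if_pos rfl, if_neg (by omega), if_neg (by omega), if_neg (by omega), F2 i (by omega)]
          abel
        rw [if_neg e1]
        by_cases e2 : i = j
        · subst e2
          rw [if_pos rfl, if_neg (by omega), if_neg (by omega), ← hsucc]
          abel
        rw [if_neg e2]
        by_cases e3 : i = j + 1
        · subst e3
          rw [if_pos rfl, if_neg (by omega), F1 j hj, two_smul]
          abel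
        rw [if_neg e3]
        by_cases e4 : i = j + 2
        · subst e4
          rw [if_pos rfl, F3 j (by omega)]
          abel
        rw [if_neg e4, F4 j i hj (by omega) (by omega)]
        abel
      have h := congrArg (fun w => y j w - w) hsum
      simp only [map_sum, map_zero, map_smul, sub_zero, ← Finset.sum_sub_distrib, ← smul_sub] at h
      rw [Finset.sum_congr rfl fun i hi => by rw [hf i hi]] at h
      simp only [f, smul_add, smul_ite, smul_zero, Finset.sum_add_distrib, Finset.sum_ite_eq', Finset.mem_range] at h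
      have hA : ∃ A : k, (∑ i ∈ Finset.range (r - 1), if i + 1 = j then c i • v j else 0) = A • v j ∧
          (j = 0 → A = 0) := by
        refine ⟨∑ i ∈ Finset.range (r - 1), if i + 1 = j then c i else 0, ?_, fun h0 => ?_⟩
        · rw [Finset.sum_smul]
          exact Finset.sum_congr rfl fun i _ => by split_ifs <;> simp
        · exact Finset.sum_eq_zero fun i _ => if_neg (by omega)
      obtain ⟨A, hA, hA0⟩ := hA
      rw [hA, if_pos (show j < r - 1 by omega), if_pos (show j + 1 < r - 1 by omega)] at h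
      have h4 : (if j + 2 < r - 1 then c (j + 2) • v j + c (j + 2) • v (j + 1) else 0) =
          c (j + 2) • v j + c (j + 2) • v (j + 1) := by
        split_ifs with hh
        · rfl
        · rw [hc0 (j + 2) (by omega), zero_smul, zero_smul, add_zero]
      try simp only [← smul_add] at h h4
      rw [h4] at h
      have := hind j hj (A - c j - c (j + 1) + c (j + 2)) (c j - 2 * c (j + 1) + c (j + 2)) (by
        rw [← h]; module)
      refine ⟨this.2, fun h0 => ?_⟩
      subst h0
      have h2 := this.1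
      rw [hA0 rfl] at h2
      linear_combination h2
    have hform : ∀ i, i < r → c i = ((i : k) + 1) * c 0 := by
      intro i
      induction i using Nat.strong_induction_on with
      | _ i ih =>
        intro hi
        obtain ⟨h1, h2⟩ := rec2 0 (by omega)
        have h2 := h2 rfl
        rcases i with - | - | i
        · push_cast; ring
        · push_cast; linear_combination h2 - h1
        · have h3 := (rec2 i (by omega)).1
          rw [ih i (by omega) (by omega), ih (i + 1) (by omega) (by omega)] at h3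
          push_cast at h3 ⊢
          linear_combination h3
    have hN1 : ((N : k) + 1) ≠ 0 := by
      intro h
      have hd := (CharP.cast_eq_zero_iff k p (N + 1)).1 (by exact_mod_cast h)
      rw [hNdef] at hd
      by_cases hpr : p ∣ r
      · rw [if_pos hpr, show r - 1 - 1 + 1 = r - 1 by omega] at hd
        have h1 := Nat.dvd_sub hpr hd
        rw [show r - (r - 1) = 1 by omega, Nat.dvd_one] at h1
        exact hpp.one_lt.ne' h1
      · rw [if_neg hpr, show r - 1 - 0 + 1 = r by omega] at hd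
        exact hpr hd
    have hc00 : c 0 = 0 := by
      have := hform N (by omega)
      rw [hc0 N le_rfl] at this
      exact (mul_eq_zero.1 this.symm).resolve_left hN1
    intro i
    have := hform i (by omega)
    rw [hc00, mul_zero] at this
    simpa [c] using this
  have := hli.fintype_card_le_finrank
  rwa [Fintype.card_fin] at this

end IsProj

end CfsgLib.AltRep
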