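import Cfsg.Agent.Lib.AltRep.Canonical

/-!
# The spaces `(L - 1) V`
-/

set_option autoImplicit false
set_option linter.unusedSectionVars false

namespace CfsgLib.AltRep

open Equiv Equiv.Perm Module

variable {r : ℕ} {k V H : Type*} [Field k] [IsAlgClosed k] [AddCommGroup V] [Module k V] [Group H]

namespace IsProj

variable {ρ : H →* Module.End k V} {π : H →* alternatingGroup (Fin r)} (S : IsProj ρ π)

/-- The range of `L - 1`. -/
noncomputable def M (a b c : Fin r) : Submodule k V := LinearMap.range (S.L a b c - 1)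

theorem mem_M {a b c : Fin r} {v : V} : v ∈ S.M a b c ↔ ∃ w, S.L a b c w - w = v := by
  simp [M, LinearMap.mem_range]

theorem sub_mem_M (a b c : Fin r) (v : V) : S.L a b c v - v ∈ S.M a b c := S.mem_M.2 ⟨v, rfl⟩

/-- An element carrying given points to given points. -/
theorem exists_move {n : ℕ} (hn : n + 2 ≤ r) {f f' : Fin n → Fin r} (hf : Function.Injective f)
    (hf' : Function.Injective f') (_S : IsProj ρ π) :
    ∃ g : H, ∀ i, (π g : Equiv.Perm (Fin r)) (f i) = f' i := by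
  obtain ⟨σ, hσ⟩ := exists_even_map hn hf hf'
  obtain ⟨g, rfl⟩ := _S.surj σ
  exact ⟨g, hσ⟩

/-- A lift intertwines the canonical lifts. -/
theorem rho_L (g : H) {a b c : Fin r} (h : D3 a b c) (v : V) :
    ρ g (S.L a b c v) =
      S.L ((π g : Equiv.Perm (Fin r)) a) ((π g : Equiv.Perm (Fin r)) b) ((π g : Equiv.Perm (Fin r)) c) (ρ g v) := by
  rw [← S.ad_L (π g) h, S.ad_eq rfl]
  simp only [End.mul_apply]
  rw [← End.mul_apply (ρ g⁻¹), rho_inv_mul, End.one_apply]

theorem rho_injective (g : H) : Function.Injective (ρ g) := fun x y e => by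
  have := congrArg (ρ g⁻¹) e
  rwa [← End.mul_apply, ← End.mul_apply, rho_inv_mul, End.one_apply, End.one_apply] at this

theorem rho_mem_M (g : H) {a b c : Fin r} (h : D3 a b c) {v : V} (hv : v ∈ S.M a b c) :
    ρ g v ∈ S.M ((π g : Equiv.Perm (Fin r)) a) ((π g : Equiv.Perm (Fin r)) b) ((π g : Equiv.Perm (Fin r)) c) := by
  obtain ⟨w, rfl⟩ := S.mem_M.1 hv
  rw [map_sub, S.rho_L g h]
  exact S.sub_mem_M _ _ _ _

theorem map_M (g : H) {a b c : Fin r} (h : D3 a b c) :
    (S.M a b c).map (ρ g) =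
      S.M ((π g : Equiv.Perm (Fin r)) a) ((π g : Equiv.Perm (Fin r)) b) ((π g : Equiv.Perm (Fin r)) c) := by
  refine le_antisymm (Submodule.map_le_iff_le_comap.2 fun v hv => S.rho_mem_M g h hv) fun v hv => ?_
  refine ⟨ρ g⁻¹ v, ?_, by rw [← End.mul_apply, rho_mul_inv, End.one_apply]⟩
  have := S.rho_mem_M g⁻¹ (h.map _) hv
  simpa using this

theorem finrank_M [FiniteDimensional k V] {a b c e f g : Fin r} (h : D3 a b c) (h' : D3 e f g) :
    finrank k (S.M a b c) = finrank k (S.M e f g) := by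
  have hr := S.nine
  have hf : Function.Injective ![a, b, c] := by
    intro i j; fin_cases i <;> fin_cases j <;> simp [h.1, h.2.1, h.2.2, h.1.symm, h.2.1.symm, h.2.2.symm]
  have hf' : Function.Injective ![e, f, g] := by
    intro i j; fin_cases i <;> fin_cases j <;> simp [h'.1, h'.2.1, h'.2.2, h'.1.symm, h'.2.1.symm, h'.2.2.symm]
  obtain ⟨x, hx⟩ := S.exists_move (n := 3) (by omega) hf hf'
  have e0 := hx 0; have e1 := hx 1; have e2 := hx 2
  simp only [Fin.isValue, Matrix.cons_val] at e0 e1 e2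
  rw [← e0, ← e1, ← e2, ← S.map_M x h]
  exact (Submodule.equivMapOfInjective _ (rho_injective x) _).finrank_eq

/-- A lift moves the space of one triple to that of the rotated triple. -/
theorem L_mem_M {p q s a b c : Fin r} (h : D3 p q s) (h' : D3 a b c) {v : V} (hv : v ∈ S.M a b c) :
    S.L p q s v ∈ S.M (cyc p q s a) (cyc p q s b) (cyc p q s c) := by
  obtain ⟨w, rfl⟩ := S.mem_M.1 hv
  rw [map_sub]
  refine S.mem_M.2 ⟨S.L p q s w, ?_⟩
  rw [← S.conj_L h h']
  simp only [End.mul_apply]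
  congr 2
  rw [← End.mul_apply (S.L p q s) (S.L p q s), ← End.mul_apply _ (S.L p q s) w, S.L_cube, End.one_apply]

theorem L_mem_M_self {a b c : Fin r} {v : V} (hv : v ∈ S.M a b c) : S.L a b c v ∈ S.M a b c := by
  obtain ⟨w, rfl⟩ := S.mem_M.1 hv
  rw [map_sub]
  exact S.sub_mem_M _ _ _ _

theorem M_rot {a b c : Fin r} (h : D3 a b c) : S.M b c a = S.M a b c := by rw [M, M, S.L_rot h]

theorem M_flip_le {a b c : Fin r} (h : D3 a b c) : S.M b a c ≤ S.M a b c := by
  intro v hv
  obtain ⟨w, rfl⟩ := S.mem_M.1 hv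
  rw [S.L_flip h, End.mul_apply]
  have e : S.L a b c (S.L a b c w) - w = (S.L a b c (S.L a b c w) - S.L a b c w) + (S.L a b c w - w) := by abel
  rw [e]
  exact add_mem (S.sub_mem_M _ _ _ _) (S.sub_mem_M _ _ _ _)

theorem M_flip {a b c : Fin r} (h : D3 a b c) : S.M b a c = S.M a b c :=
  le_antisymm (S.M_flip_le h) (S.M_flip_le h.flip)

/-- `1 + L + L²` kills the range of `L - 1`. -/
theorem norm_M {a b c : Fin r} {v : V} (hv : v ∈ S.M a b c) :
    S.L a b c (S.L a b c v) + S.L a b c v + v = 0 := by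
  obtain ⟨w, rfl⟩ := S.mem_M.1 hv
  have h3 : S.L a b c (S.L a b c (S.L a b c w)) = w := by
    rw [← End.mul_apply, ← End.mul_apply, S.L_cube, End.one_apply]
  simp only [map_sub, h3]
  abel

theorem M_ne_bot {a b c : Fin r} (h : D3 a b c) : S.M a b c ≠ ⊥ := by
  rw [M, Ne, LinearMap.range_eq_bot, sub_eq_zero]
  exact S.L_ne_one h

theorem M_le_iff {a b c : Fin r} {W : Submodule k V} :
    S.M a b c ≤ W ↔ ∀ v, S.L a b c v - v ∈ W :=
  ⟨fun h v => h (S.sub_mem_M a b c v), fun h v hv => by obtain ⟨w, rfl⟩ := S.mem_M.1 hv; exact h w⟩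

/-- Invariance under the triples with at most one point in `B` is invariance. -/
theorem eq_bot_or_top_of (W : Submodule k V) (B : Finset (Fin r)) (hB : B.card + 3 ≤ r)
    (h0 : ∀ a b c, D3 a b c → b ∉ B → c ∉ B → ∀ w ∈ W, S.L a b c w ∈ W) : W = ⊥ ∨ W = ⊤ := by
  refine S.eq_bot_or_top W (triples_all (fun a b c => ∀ w ∈ W, S.L a b c w ∈ W) B hB ?_ ?_ h0)
  · intro a b c h hP
    rwa [S.L_rot h]
  · intro a b c h hP e f g h' hP' w hw
    rw [← S.conj_L h h', End.mul_apply, End.mul_apply, End.mul_apply]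
    exact hP _ (hP' _ (hP _ (hP w hw)))

/-- A vector fixed by the triples with at most one point in `B` vanishes. -/
theorem eq_zero_of_fixed_of (v : V) (B : Finset (Fin r)) (hB : B.card + 3 ≤ r)
    (h0 : ∀ a b c, D3 a b c → b ∉ B → c ∉ B → S.L a b c v = v) : v = 0 := by
  refine S.eq_zero_of_fixed v (triples_all (fun a b c => S.L a b c v = v) B hB ?_ ?_ h0)
  · intro a b c h hP
    rwa [S.L_rot h]
  · intro a b c h hP e f g h' hP'
    rw [← S.conj_L h h', End.mul_apply, End.mul_apply, End.mul_apply, hP, hP, hP', hP]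

end IsProj

end CfsgLib.AltRep
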