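import Cfsg.Agent.Lib.AltRep.Chain

/-!
# The spans of the displacement spaces of the triples in a set of points
-/

set_option autoImplicit false
set_option linter.unusedSectionVars false

namespace CfsgLib.AltRep

open Equiv Equiv.Perm Module

variable {r : ℕ} {k V H : Type*} [Field k] [IsAlgClosed k] [AddCommGroup V] [Module k V] [Group H]

namespace IsProj

variable {ρ : H →* Module.End k V} {π : H →* alternatingGroup (Fin r)} (S : IsProj ρ π)

/-- The span of the spaces of the triples in `T`. -/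
noncomputable def span3 (T : Finset (Fin r)) : Submodule k V :=
  ⨆ (a) (b) (c) (_ : D3 a b c ∧ a ∈ T ∧ b ∈ T ∧ c ∈ T), S.M a b c

theorem M_le_span3 {T : Finset (Fin r)} {a b c : Fin r} (h : D3 a b c) (ha : a ∈ T) (hb : b ∈ T) (hc : c ∈ T) :
    S.M a b c ≤ S.span3 T :=
  le_iSup_of_le a (le_iSup_of_le b (le_iSup_of_le c (le_iSup_of_le ⟨h, ha, hb, hc⟩ le_rfl)))

theorem span3_le {T : Finset (Fin r)} {W : Submodule k V}
    (h : ∀ a b c, D3 a b c → a ∈ T → b ∈ T → c ∈ T → S.M a b c ≤ W) : S.span3 T ≤ W :=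
  iSup_le fun a => iSup_le fun b => iSup_le fun c => iSup_le fun hh => h a b c hh.1 hh.2.1 hh.2.2.1 hh.2.2.2

theorem span3_mono {T T' : Finset (Fin r)} (h : T ⊆ T') : S.span3 T ≤ S.span3 T' :=
  S.span3_le fun _ _ _ hd ha hb hc => S.M_le_span3 hd (h ha) (h hb) (h hc)

variable {S} [FiniteDimensional k V]
variable (hfix : ∀ a b c e f g, D3 a b c → D3 e f g → (∀ x ∈ [e, f, g], x ≠ a ∧ x ≠ b ∧ x ≠ c) →
    ∀ v ∈ S.M e f g, S.L a b c v = v)

include hfix in
theorem fix_span3 {T : Finset (Fin r)} {a b c : Fin r} (h : D3 a b c) (ha : a ∉ T) (hb : b ∉ T) (hc : c ∉ T) :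
    ∀ v ∈ S.span3 T, S.L a b c v = v := by
  intro v hv
  have hle : S.span3 T ≤ LinearMap.ker (S.L a b c - 1) := S.span3_le fun e f g hd he hf hg w hw => by
    rw [LinearMap.mem_ker, LinearMap.sub_apply, End.one_apply, sub_eq_zero]
    refine hfix a b c e f g h hd ?_ w hw
    simp only [List.mem_cons, List.not_mem_nil, or_false, forall_eq_or_imp, forall_eq]
    refine ⟨⟨?_, ?_, ?_⟩, ⟨?_, ?_, ?_⟩, ⟨?_, ?_, ?_⟩⟩ <;> rintro rfl <;> contradiction
  simpa [sub_eq_zero] using hle hv

include hfix in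
theorem span3_lt {T : Finset (Fin r)} (h3 : 3 ≤ T.card) (hT : T.card + 4 ≤ r) {j : Fin r} (hj : j ∉ T) :
    finrank k (S.span3 T) < finrank k (S.span3 (insert j T)) := by
  refine Submodule.finrank_lt_finrank_of_lt (lt_of_le_not_ge (S.span3_mono (Finset.subset_insert j T)) fun hle => ?_)
  set W := S.span3 T with hW
  have h2 : ∀ e x y, D3 e x y → x ∈ T → y ∈ T → S.M e x y ≤ W := by
    intro e x y hd hx hy
    by_cases he : e ∈ T
    · exact S.M_le_span3 hd he hx hy
    by_cases hej : e = j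
    · subst hej
      exact (S.M_le_span3 hd (Finset.mem_insert_self _ _) (Finset.mem_insert_of_mem hx)
        (Finset.mem_insert_of_mem hy)).trans hle
    obtain ⟨f, hf⟩ := exists_off (insert e (insert j T)) (by
      rw [Finset.card_insert_of_notMem (by simp [hej, he]), Finset.card_insert_of_notMem hj]; omega)
    simp only [Finset.mem_insert, not_or] at hf
    have hd1 : D3 j e f := ⟨Ne.symm hej, Ne.symm hf.1, Ne.symm hf.2.1⟩
    have hd2 : D3 j x y := ⟨fun h => hj (h ▸ hx), hd.2.1, fun h => hj (h ▸ hy)⟩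
    have hjxy : S.M j x y ≤ W :=
      (S.M_le_span3 hd2 (Finset.mem_insert_self _ _) (Finset.mem_insert_of_mem hx)
        (Finset.mem_insert_of_mem hy)).trans hle
    have hinto : S.M j x y ≤ S.M e x y := by
      intro v hv
      have := S.L_mem_M hd1 hd2 hv
      rwa [fix_span3 hfix hd1 hj he hf.2.2 v (hjxy hv), cyc_fst hd1,
        cyc_off (fun h : x = j => hj (h ▸ hx)) (fun h : x = e => he (h ▸ hx)) (fun h : x = f => hf.2.2 (h ▸ hx)),
        cyc_off (fun h : y = j => hj (h ▸ hy)) (fun h : y = e => he (h ▸ hy)) (fun h : y = f => hf.2.2 (h ▸ hy))] at this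
    rw [← Submodule.eq_of_le_of_finrank_eq hinto (S.finrank_M hd2 hd)]
    exact hjxy
  obtain ⟨a, b, c, hd, ha, hb, hc⟩ : ∃ a b c, D3 a b c ∧ a ∈ T ∧ b ∈ T ∧ c ∈ T := by
    obtain ⟨a, b, c, ha, hb, hc, hab, hac, hbc⟩ := Finset.two_lt_card_iff.1 (show 2 < T.card by omega)
    exact ⟨a, b, c, ⟨hab, hbc, hac⟩, ha, hb, hc⟩
  rcases S.eq_bot_or_top_of W Tᶜ (by rw [Finset.card_compl, Fintype.card_fin]; omega) (fun e x y hd hx hy w hw => by
    rw [Finset.mem_compl, not_not] at hx hy
    simpa using add_mem (h2 e x y hd hx hy (S.sub_mem_M e x y w)) hw) with h0 | h0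
  · exact S.M_ne_bot hd (le_bot_iff.1 ((S.M_le_span3 hd ha hb hc).trans h0.le))
  · obtain ⟨e, f, he, hf, hef⟩ := exists_two_off T (by omega)
    obtain ⟨g, hg⟩ := exists_off (insert e (insert f T)) (by
      rw [Finset.card_insert_of_notMem (by simp [hef, he]), Finset.card_insert_of_notMem hf]; omega)
    simp only [Finset.mem_insert, not_or] at hg
    have hd' : D3 e f g := ⟨hef, Ne.symm hg.2.1, Ne.symm hg.1⟩
    exact S.L_ne_one hd' (LinearMap.ext fun v => fix_span3 hfix hd' he hf hg.2.2 v (by rw [show S.span3 T = ⊤ from h0]; exact Submodule.mem_top))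

include hfix in
/-- Two overlapping triples span little when the dimension is small. -/
theorem finrank_two_triples
    (hindep : ∀ a b c, D3 a b c → ∀ v ∈ S.M a b c, S.L a b c v = v → v = 0)
    (htwo : ∀ a b c, D3 a b c → finrank k (S.M a b c) = 2) (hn : finrank k V + 2 ≤ r)
    {a b c d : Fin r} (h : D4 a b c d) : finrank k (S.M a b c ⊔ S.M a b d : Submodule k V) ≤ 3 := by
  have hr := S.nine
  obtain ⟨h1, h2, hcd⟩ := h
  set T₀ : Finset (Fin r) := {a, b, c, d} with hT₀
  have hT₀c : T₀.card = 4 := by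
    rw [hT₀, Finset.card_insert_of_notMem (by simp [h1.1, h1.2.2, h2.2.2]),
      Finset.card_insert_of_notMem (by simp [h1.2.1, h2.2.1]), Finset.card_pair hcd]
  have grow : ∀ m, m + 7 ≤ r → ∃ T, T₀ ⊆ T ∧ T.card = 4 + m ∧ finrank k (S.span3 T₀) + m ≤ finrank k (S.span3 T) := by
    intro m
    induction m with
    | zero => exact fun _ => ⟨T₀, subset_rfl, hT₀c, le_rfl⟩
    | succ m ih =>
      intro hm
      obtain ⟨T, hsub, hcard, hdim⟩ := ih (by omega)
      obtain ⟨j, hj⟩ := exists_off T (by omega)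
      refine ⟨insert j T, hsub.trans (Finset.subset_insert _ _), by rw [Finset.card_insert_of_notMem hj, hcard]; omega, ?_⟩
      have := span3_lt hfix (T := T) (by omega) (by omega) hj
      omega
  obtain ⟨T, hsub, hcard, hdim⟩ := grow (r - 7) (by omega)
  obtain ⟨e, f, he, hf, hef⟩ := exists_two_off T (by omega)
  obtain ⟨g, hg⟩ := exists_off (insert e (insert f T)) (by
    rw [Finset.card_insert_of_notMem (by simp [hef, he]), Finset.card_insert_of_notMem hf]; omega)
  simp only [Finset.mem_insert, not_or] at hg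
  have hd' : D3 e f g := ⟨hef, Ne.symm hg.2.1, Ne.symm hg.1⟩
  have hinf : S.span3 T ⊓ S.M e f g = ⊥ := by
    rw [Submodule.eq_bot_iff]
    intro v hv
    exact hindep e f g hd' v hv.2 (fix_span3 hfix hd' he hf hg.2.2 v hv.1)
  have hsum := Submodule.finrank_sup_add_finrank_inf_eq (S.span3 T) (S.M e f g)
  rw [hinf, finrank_bot, htwo _ _ _ hd'] at hsum
  have hle := Submodule.finrank_le (S.span3 T ⊔ S.M e f g)
  have hsup : finrank k (S.M a b c ⊔ S.M a b d : Submodule k V) ≤ finrank k (S.span3 T₀) :=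
    Submodule.finrank_mono (sup_le (S.M_le_span3 h1 (by simp [hT₀]) (by simp [hT₀]) (by simp [hT₀]))
      (S.M_le_span3 h2 (by simp [hT₀]) (by simp [hT₀]) (by simp [hT₀])))
  omega

end IsProj

end CfsgLib.AltRep
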