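import Cfsg.Agent.Lib.AltRep.Triples

/-!
# Canonical lifts of three-cycles in a projective representation of an alternating group
-/

set_option autoImplicit false
set_option linter.unusedSectionVars false

namespace CfsgLib.AltRep

open Equiv Equiv.Perm

variable {r : ℕ} {k V H : Type*} [Field k] [AddCommGroup V] [Module k V] [Group H]

/-- An irreducible projective representation of the alternating group of degree at least nine. -/
structure IsProj (ρ : H →* Module.End k V) (π : H →* alternatingGroup (Fin r)) : Prop where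
  nine : 9 ≤ r
  surj : Function.Surjective π
  scal : ∀ h, π h = 1 ↔ ∃ c : k, ρ h = c • 1
  irred : ∀ W : Submodule k V, (∀ h, ∀ w ∈ W, ρ h w ∈ W) → W = ⊥ ∨ W = ⊤

namespace IsProj

variable {ρ : H →* Module.End k V} {π : H →* alternatingGroup (Fin r)} (S : IsProj ρ π)

theorem rho_mul_inv (ρ : H →* Module.End k V) (h : H) : ρ h * ρ h⁻¹ = 1 := by
  rw [← map_mul, mul_inv_cancel, map_one]

theorem rho_inv_mul (ρ : H →* Module.End k V) (h : H) : ρ h⁻¹ * ρ h = 1 := by
  rw [← map_mul, inv_mul_cancel, map_one]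

theorem exists_cycA (hr : 9 ≤ r) : ∃ a b c : Fin r, D3 a b c :=
  ⟨⟨0, by omega⟩, ⟨1, by omega⟩, ⟨2, by omega⟩, by simp [Fin.ext_iff], by simp [Fin.ext_iff], by simp [Fin.ext_iff]⟩

include S in
theorem nontrivial : Nontrivial V := by
  by_contra hn
  rw [not_nontrivial_iff_subsingleton] at hn
  obtain ⟨a, b, c, h⟩ := exists_cycA S.nine
  obtain ⟨x, hx⟩ := S.surj (cycA h)
  have := (S.scal x).2 ⟨1, Subsingleton.elim _ _⟩
  exact cyc_ne_one h (congrArg Subtype.val (hx ▸ this : cycA h = 1))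

include S in
theorem smul_one_inj {c d : k} (h : c • (1 : Module.End k V) = d • 1) : c = d := by
  haveI := S.nontrivial
  exact smul_left_injective k (one_ne_zero : (1 : Module.End k V) ≠ 0) h

/-- Conjugation by a lift depends only on the element of the alternating group. -/
noncomputable def ad (σ : alternatingGroup (Fin r)) (X : Module.End k V) : Module.End k V :=
  ρ (Function.surjInv S.surj σ) * X * ρ (Function.surjInv S.surj σ)⁻¹

theorem ad_eq {h : H} {σ : alternatingGroup (Fin r)} (hh : π h = σ) (X : Module.End k V) :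
    S.ad σ X = ρ h * X * ρ h⁻¹ := by
  have e : π (h⁻¹ * Function.surjInv S.surj σ) = 1 := by
    rw [map_mul, map_inv, hh, Function.surjInv_eq S.surj σ, inv_mul_cancel]
  obtain ⟨c, hc⟩ := (S.scal _).1 e
  set g := h⁻¹ * Function.surjInv S.surj σ
  have hinv : c • ρ g⁻¹ = (1 : Module.End k V) := by
    have := rho_mul_inv ρ g
    rwa [hc, smul_mul_assoc, one_mul] at this
  rw [ad, show Function.surjInv S.surj σ = h * g by simp [g], map_mul, hc, mul_inv_rev, map_mul,
    mul_smul_comm, mul_one]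
  calc c • ρ h * X * (ρ g⁻¹ * ρ h⁻¹) = ρ h * X * ((c • ρ g⁻¹) * ρ h⁻¹) := by
        simp only [smul_mul_assoc, mul_smul_comm, mul_assoc]
    _ = _ := by rw [hinv, one_mul]

theorem ad_one (X : Module.End k V) : S.ad 1 X = X := by
  rw [S.ad_eq (map_one π)]; simp

theorem ad_comp (σ τ : alternatingGroup (Fin r)) (X : Module.End k V) :
    S.ad (σ * τ) X = S.ad σ (S.ad τ X) := by
  obtain ⟨g, rfl⟩ := S.surj σ
  obtain ⟨h, rfl⟩ := S.surj τ
  rw [S.ad_eq (map_mul π g h), S.ad_eq rfl, S.ad_eq rfl, mul_inv_rev, map_mul, map_mul]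
  simp only [mul_assoc]

theorem ad_mul (σ : alternatingGroup (Fin r)) (X Y : Module.End k V) :
    S.ad σ (X * Y) = S.ad σ X * S.ad σ Y := by
  obtain ⟨g, rfl⟩ := S.surj σ
  simp only [S.ad_eq rfl]
  calc ρ g * (X * Y) * ρ g⁻¹ = ρ g * X * (ρ g⁻¹ * ρ g) * Y * ρ g⁻¹ := by
        rw [rho_inv_mul, mul_one]; simp only [mul_assoc]
    _ = _ := by simp only [mul_assoc]

theorem ad_smul (σ : alternatingGroup (Fin r)) (c : k) (X : Module.End k V) : S.ad σ (c • X) = c • S.ad σ X := by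
  simp only [ad, mul_smul_comm, smul_mul_assoc]

theorem ad_id (σ : alternatingGroup (Fin r)) : S.ad σ 1 = 1 := by
  rw [ad, mul_one, rho_mul_inv]

theorem ad_scalar (σ : alternatingGroup (Fin r)) (c : k) : S.ad σ (c • 1) = c • 1 := by
  rw [S.ad_smul, S.ad_id]

/-- A scalar multiple of a lift of `τ`. -/
def IsMult (ρ : H →* Module.End k V) (π : H →* alternatingGroup (Fin r)) (τ : alternatingGroup (Fin r))
    (X : Module.End k V) : Prop := ∃ h c, π h = τ ∧ X = (c : k) • ρ h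

theorem ad_isMult (σ : alternatingGroup (Fin r)) {τ : alternatingGroup (Fin r)} {X : Module.End k V}
    (hX : IsMult ρ π τ X) : IsMult ρ π (σ * τ * σ⁻¹) (S.ad σ X) := by
  obtain ⟨g, rfl⟩ := S.surj σ
  obtain ⟨h, c, rfl, rfl⟩ := hX
  exact ⟨g * h * g⁻¹, c, by simp, by rw [S.ad_smul, S.ad_eq rfl, map_mul, map_mul]⟩

theorem isMult_mul {τ τ' : alternatingGroup (Fin r)} {X Y : Module.End k V}
    (hX : IsMult ρ π τ X) (hY : IsMult ρ π τ' Y) : IsMult ρ π (τ * τ') (X * Y) := by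
  obtain ⟨g, c, rfl, rfl⟩ := hX
  obtain ⟨h, d, rfl, rfl⟩ := hY
  exact ⟨g * h, c * d, map_mul π g h, by rw [smul_mul_smul_comm, map_mul]⟩

include S in
theorem isMult_smul {τ : alternatingGroup (Fin r)} {X Y : Module.End k V} (hX : IsMult ρ π τ X)
    (hY : IsMult ρ π τ Y) (hX0 : X ≠ 0) : ∃ c : k, Y = c • X := by
  obtain ⟨g, c, rfl, rfl⟩ := hX
  obtain ⟨h, d, hh, rfl⟩ := hY
  obtain ⟨e, he⟩ := (S.scal (h * g⁻¹)).1 (by simp [hh])
  have : ρ h = e • ρ g := by
    calc ρ h = ρ (h * g⁻¹) * ρ g := by rw [← map_mul, inv_mul_cancel_right]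
      _ = _ := by rw [he, smul_mul_assoc, one_mul]
  have hc : c ≠ 0 := fun h => hX0 (by rw [h, zero_smul])
  exact ⟨d * e / c, by rw [this, smul_smul, smul_smul]; congr 1; field_simp⟩

include S in
theorem smul_one_eq {c : k} {X : Module.End k V} (hX : X * X * X = 1) (h : c • X = X) : c = 1 := by
  refine S.smul_one_inj ?_
  calc c • (1 : Module.End k V) = (c • X) * X * X := by rw [smul_mul_assoc, smul_mul_assoc, hX]
    _ = _ := by rw [h, hX, one_smul]

include S in
theorem ne_zero_of_cube {X : Module.End k V} (hX : X * X * X = 1) : X ≠ 0 := fun h => by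
  haveI := S.nontrivial
  rw [h, mul_zero] at hX
  exact zero_ne_one hX

theorem inverter_exists (hr : 9 ≤ r) {a b c : Fin r} (h : D3 a b c) :
    ∃ σ : alternatingGroup (Fin r), (σ : Equiv.Perm (Fin r)) * cyc a b c * (σ : Equiv.Perm (Fin r))⁻¹ = (cyc a b c)⁻¹ := by
  obtain ⟨e, f, he, hf, hef⟩ := exists_two_off {a, b, c} (by
    have := Finset.card_le_three (a := a) (b := b) (c := c); omega)
  simp only [Finset.mem_insert, Finset.mem_singleton, not_or] at he hf
  refine ⟨⟨swap a b * swap e f, mem_alternatingGroup.2 (by rw [map_mul, sign_swap h.1, sign_swap hef]; rfl)⟩, ?_⟩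
  rw [cyc_conj, ← cyc_inv h]
  simp only [Perm.mul_apply, swap_apply_of_ne_of_ne (Ne.symm he.1) (Ne.symm hf.1),
    swap_apply_of_ne_of_ne (Ne.symm he.2.1) (Ne.symm hf.2.1), swap_apply_of_ne_of_ne (Ne.symm he.2.2) (Ne.symm hf.2.2),
    swap_apply_left, swap_apply_right, swap_apply_of_ne_of_ne h.2.2.symm h.2.1.symm]

/-- Elements commuting with a three-cycle fix its lift. -/
theorem ad_of_commute {a b c : Fin r} (h : D3 a b c) {X : Module.End k V} (hX : IsMult ρ π (cycA h) X)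
    (hX3 : X * X * X = 1) {z : alternatingGroup (Fin r)}
    (hz : (z : Equiv.Perm (Fin r)) * cyc a b c = cyc a b c * (z : Equiv.Perm (Fin r))) : S.ad z X = X := by
  have hr := S.nine
  have hX0 := S.ne_zero_of_cube hX3
  have scalar : ∀ z : alternatingGroup (Fin r), (z : Equiv.Perm (Fin r)) * cyc a b c = cyc a b c * (z : Equiv.Perm (Fin r)) →
      ∃ μ : k, μ ^ 3 = 1 ∧ S.ad z X = μ • X := by
    intro z hz
    have hm := S.ad_isMult z hX
    rw [show z * cycA h * z⁻¹ = cycA h from Subtype.ext (by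
      show (z : Equiv.Perm (Fin r)) * cyc a b c * (z : Equiv.Perm (Fin r))⁻¹ = cyc a b c
      rw [hz, mul_inv_cancel_right])] at hm
    obtain ⟨μ, hμ⟩ := S.isMult_smul hX hm hX0
    refine ⟨μ, S.smul_one_inj (d := 1) ?_, hμ⟩
    have : S.ad z (X * X * X) = 1 := by rw [hX3, S.ad_id]
    rw [S.ad_mul, S.ad_mul, hμ, smul_mul_smul_comm, smul_mul_smul_comm, hX3, ← pow_three'] at this
    rw [this, one_smul]
  let K : Subgroup (alternatingGroup (Fin r)) :=
    { carrier := {z | S.ad z X = X}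
      one_mem' := S.ad_one X
      mul_mem' := fun {u v} (hu : S.ad u X = X) (hv : S.ad v X = X) => by
        show S.ad (u * v) X = X
        rw [S.ad_comp, hv, hu]
      inv_mem' := fun {u} (hu : S.ad u X = X) => by
        show S.ad u⁻¹ X = X
        conv_lhs => rw [← hu]
        rw [← S.ad_comp, inv_mul_cancel, S.ad_one] }
  suffices hzK : z ∈ K from hzK
  have hX' : cycA h ∈ K := by
    obtain ⟨g, d, hg, rfl⟩ := hX
    show S.ad (cycA h) _ = _
    rw [S.ad_smul, S.ad_eq hg, mul_assoc, rho_mul_inv, mul_one]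
  have hdis : ∀ e f g, D3 e f g → (∀ x ∈ ({e, f, g} : Finset (Fin r)), x ≠ a ∧ x ≠ b ∧ x ≠ c) →
      ∀ he : cyc e f g ∈ alternatingGroup (Fin r), (⟨cyc e f g, he⟩ : alternatingGroup (Fin r)) ∈ K := by
    intro e f g hefg hoff he
    set y : alternatingGroup (Fin r) := ⟨cyc e f g, he⟩
    simp only [Finset.mem_insert, Finset.mem_singleton, forall_eq_or_imp, forall_eq] at hoff
    obtain ⟨⟨hea, heb, hec⟩, ⟨hfa, hfb, hfc⟩, ⟨hga, hgb, hgc⟩⟩ := hoff
    have hy : (y : Equiv.Perm (Fin r)) * cyc a b c = cyc a b c * (y : Equiv.Perm (Fin r)) := by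
      refine mul_inv_eq_iff_eq_mul.1 ?_
      show cyc e f g * cyc a b c * (cyc e f g)⁻¹ = cyc a b c
      rw [cyc_conj, cyc_off (Ne.symm hea) (Ne.symm hfa) (Ne.symm hga),
        cyc_off (Ne.symm heb) (Ne.symm hfb) (Ne.symm hgb), cyc_off (Ne.symm hec) (Ne.symm hfc) (Ne.symm hgc)]
    obtain ⟨μ, hμ3, hμ⟩ := scalar y hy
    obtain ⟨u, v, hu, hv, huv⟩ := exists_two_off ({a, b, c} ∪ {e, f, g}) (by
      have := Finset.card_union_le ({a, b, c} : Finset (Fin r)) {e, f, g}
      have := Finset.card_le_three (a := a) (b := b) (c := c)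
      have := Finset.card_le_three (a := e) (b := f) (c := g)
      omega)
    simp only [Finset.mem_union, Finset.mem_insert, Finset.mem_singleton, not_or] at hu hv
    set σ : alternatingGroup (Fin r) := ⟨swap e f * swap u v,
      mem_alternatingGroup.2 (by rw [map_mul, sign_swap hefg.1, sign_swap huv]; rfl)⟩ with hσ
    have hσt : (σ : Equiv.Perm (Fin r)) * cyc a b c = cyc a b c * (σ : Equiv.Perm (Fin r)) := by
      refine mul_inv_eq_iff_eq_mul.1 ?_
      rw [cyc_conj]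
      simp only [hσ, Perm.mul_apply, swap_apply_of_ne_of_ne (Ne.symm hu.1.1) (Ne.symm hv.1.1),
        swap_apply_of_ne_of_ne (Ne.symm hu.1.2.1) (Ne.symm hv.1.2.1),
        swap_apply_of_ne_of_ne (Ne.symm hu.1.2.2) (Ne.symm hv.1.2.2),
        swap_apply_of_ne_of_ne (Ne.symm hea) (Ne.symm hfa), swap_apply_of_ne_of_ne (Ne.symm heb) (Ne.symm hfb),
        swap_apply_of_ne_of_ne (Ne.symm hec) (Ne.symm hfc)]
    have hσy : σ * y * σ⁻¹ = y⁻¹ := Subtype.ext (by
      show (σ : Equiv.Perm (Fin r)) * cyc e f g * (σ : Equiv.Perm (Fin r))⁻¹ = (cyc e f g)⁻¹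
      rw [cyc_conj, ← cyc_inv hefg]
      simp only [hσ, Perm.mul_apply, swap_apply_of_ne_of_ne (Ne.symm hu.2.1) (Ne.symm hv.2.1),
        swap_apply_of_ne_of_ne (Ne.symm hu.2.2.1) (Ne.symm hv.2.2.1),
        swap_apply_of_ne_of_ne (Ne.symm hu.2.2.2) (Ne.symm hv.2.2.2),
        swap_apply_left, swap_apply_right, swap_apply_of_ne_of_ne hefg.2.2.symm hefg.2.1.symm])
    obtain ⟨ν, hν3, hν⟩ := scalar σ hσt
    have hμ0 : μ ≠ 0 := fun e => by rw [e] at hμ3; simp at hμ3
    have hν0 : ν ≠ 0 := fun e => by rw [e] at hν3; simp at hν3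
    have hνi : S.ad σ⁻¹ X = ν⁻¹ • X := by
      have := congrArg (S.ad σ⁻¹) hν
      rw [← S.ad_comp, inv_mul_cancel, S.ad_one, S.ad_smul] at this
      rw [eq_comm, inv_smul_eq_iff₀ hν0]
      exact this
    have hyi : S.ad y⁻¹ X = μ⁻¹ • X := by
      have := congrArg (S.ad y⁻¹) hμ
      rw [← S.ad_comp, inv_mul_cancel, S.ad_one, S.ad_smul] at this
      rw [eq_comm, inv_smul_eq_iff₀ hμ0]
      exact this
    have h2 : S.ad y⁻¹ X = μ • X := by
      rw [← hσy, S.ad_comp, S.ad_comp, hνi, S.ad_smul, S.ad_smul, hμ, S.ad_smul, hν, smul_smul, smul_smul]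
      congr 1
      field_simp
    show S.ad y X = X
    have he2 : μ⁻¹ = μ := by
      by_contra hne
      exact hne (sub_eq_zero.1 ((smul_eq_zero.1 (by rw [sub_smul, ← hyi, h2, sub_self] :
        (μ⁻¹ - μ) • X = 0)).resolve_right hX0))
    have : μ = 1 := by
      calc μ = μ ^ 3 * μ⁻¹ * μ⁻¹ := by field_simp
        _ = μ * μ := by rw [hμ3, one_mul, he2]
        _ = μ * μ⁻¹ := by rw [he2]
        _ = 1 := mul_inv_cancel₀ hμ0
    rw [hμ, this, one_smul]
  have ht : ((cycA h : alternatingGroup (Fin r)) : Equiv.Perm (Fin r)) = cyc a b c := rfl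
  have fixed : ∀ τ : alternatingGroup (Fin r), (τ : Equiv.Perm (Fin r)) a = a → (τ : Equiv.Perm (Fin r)) b = b →
      (τ : Equiv.Perm (Fin r)) c = c → τ ∈ K := by
    intro τ ha hb hc
    let p : Fin r → Prop := fun x => x ∉ ({a, b, c} : Finset (Fin r))
    have hmove : ∀ x, (τ : Equiv.Perm (Fin r)) x ≠ x → p x := by
      intro x hx
      simp only [p, Finset.mem_insert, Finset.mem_singleton, not_or]
      exact ⟨fun e => hx (e ▸ ha), fun e => hx (e ▸ hb), fun e => hx (e ▸ hc)⟩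
    have hp : ∀ x, p ((τ : Equiv.Perm (Fin r)) x) ↔ p x := by
      intro x
      by_cases hx : (τ : Equiv.Perm (Fin r)) x = x
      · rw [hx]
      · exact iff_of_true (hmove _ fun e => hx ((τ : Equiv.Perm (Fin r)).injective e)) (hmove x hx)
    set w := (τ : Equiv.Perm (Fin r)).subtypePerm hp with hw
    have hτw : Equiv.Perm.ofSubtype w = (τ : Equiv.Perm (Fin r)) := ofSubtype_subtypePerm hp hmove
    have hwA : w ∈ alternatingGroup {x // p x} := by
      rw [mem_alternatingGroup, ← sign_ofSubtype w, hτw]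
      exact mem_alternatingGroup.1 τ.2
    rw [← closure_three_cycles_eq_alternating] at hwA
    have hle : Subgroup.closure {σ : Equiv.Perm {x // p x} | IsThreeCycle σ} ≤
        (K.map (alternatingGroup (Fin r)).subtype).comap Equiv.Perm.ofSubtype := by
      rw [Subgroup.closure_le]
      intro σ hσ
      have h3 : IsThreeCycle (Equiv.Perm.ofSubtype σ) := by
        show (Equiv.Perm.ofSubtype σ).cycleType = {3}
        rw [cycleType_ofSubtype]; exact hσ
      obtain ⟨e, f, g, hefg, he⟩ := exists_cyc h3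
      have hoff : ∀ x ∈ ({e, f, g} : Finset (Fin r)), x ≠ a ∧ x ≠ b ∧ x ≠ c := by
        intro x hx
        have hmx : Equiv.Perm.ofSubtype σ x ≠ x := by
          rw [he]
          simp only [Finset.mem_insert, Finset.mem_singleton] at hx
          rcases hx with rfl | rfl | rfl
          · rw [cyc_fst hefg]; exact hefg.1.symm
          · rw [cyc_snd hefg]; exact hefg.2.1.symm
          · rw [cyc_thd hefg]; exact hefg.2.2
        have hpx : p x := by
          by_contra hnp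
          exact hmx (ofSubtype_apply_of_not_mem σ fun hp' => hp' hnp)
        simpa [p] using hpx
      exact ⟨⟨cyc e f g, cyc_mem hefg⟩, hdis e f g hefg hoff _, he.symm⟩
    obtain ⟨τ', hτ', he⟩ := hle hwA
    rwa [show τ = τ' from Subtype.ext (hτw ▸ he.symm)]
  have hmove : (z : Equiv.Perm (Fin r)) a = a ∨ (z : Equiv.Perm (Fin r)) a = b ∨ (z : Equiv.Perm (Fin r)) a = c := by
    by_contra! hne
    have := congrArg (fun σ : Equiv.Perm (Fin r) => σ a) hz
    simp only [Perm.mul_apply] at this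
    rw [cyc_fst h, cyc_off hne.1 hne.2.1 hne.2.2] at this
    exact h.1 ((z : Equiv.Perm (Fin r)).injective this).symm
  have fix3 : ∀ τ : alternatingGroup (Fin r), (τ : Equiv.Perm (Fin r)) * cyc a b c = cyc a b c * (τ : Equiv.Perm (Fin r)) →
      (τ : Equiv.Perm (Fin r)) a = a → τ ∈ K := by
    intro τ hτ ha
    have hb : (τ : Equiv.Perm (Fin r)) b = b := by
      have := congrArg (fun σ : Equiv.Perm (Fin r) => σ a) hτ
      simp only [Perm.mul_apply] at this
      rwa [cyc_fst h, ha, cyc_fst h] at this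
    refine fixed τ ha hb ?_
    have := congrArg (fun σ : Equiv.Perm (Fin r) => σ b) hτ
    simp only [Perm.mul_apply] at this
    rwa [cyc_snd h, hb, cyc_snd h] at this
  rcases hmove with e | e | e
  · exact fix3 z hz e
  · have hc' : ((cycA h)⁻¹ * z : alternatingGroup (Fin r)) ∈ K := by
      refine fix3 _ ?_ ?_
      · show (cyc a b c)⁻¹ * (z : Equiv.Perm (Fin r)) * cyc a b c = cyc a b c * ((cyc a b c)⁻¹ * (z : Equiv.Perm (Fin r)))
        rw [mul_assoc, hz]; group
      · show (cyc a b c)⁻¹ ((z : Equiv.Perm (Fin r)) a) = a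
        rw [e, Perm.inv_eq_iff_eq, cyc_fst h]
    simpa using K.mul_mem hX' hc'
  · have hc' : (cycA h * z : alternatingGroup (Fin r)) ∈ K := by
      refine fix3 _ ?_ ?_
      · show cyc a b c * (z : Equiv.Perm (Fin r)) * cyc a b c = cyc a b c * (cyc a b c * (z : Equiv.Perm (Fin r)))
        rw [mul_assoc, hz]
      · show cyc a b c ((z : Equiv.Perm (Fin r)) a) = a
        rw [e, cyc_thd h]
    simpa using K.mul_mem (K.inv_mem hX') hc'

/-- The defining property of the canonical lift. -/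
def IsLift {a b c : Fin r} (h : D3 a b c) (X : Module.End k V) : Prop :=
  IsMult ρ π (cycA h) X ∧ X * X * X = 1 ∧ ∀ σ : alternatingGroup (Fin r),
    (σ : Equiv.Perm (Fin r)) * cyc a b c * (σ : Equiv.Perm (Fin r))⁻¹ = (cyc a b c)⁻¹ → S.ad σ X = X * X

theorem lift_exists [IsAlgClosed k] {a b c : Fin r} (h : D3 a b c) : ∃ X, S.IsLift h X := by
  obtain ⟨σ₀, hσ₀⟩ := inverter_exists S.nine h
  obtain ⟨g, hg⟩ := S.surj (cycA h)
  have hm : IsMult ρ π (cycA h) (ρ g) := ⟨g, 1, hg, (one_smul k _).symm⟩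
  have hinv : σ₀ * cycA h * σ₀⁻¹ = (cycA h)⁻¹ := Subtype.ext hσ₀
  have hi : IsMult ρ π (cycA h)⁻¹ (ρ g⁻¹) := ⟨g⁻¹, 1, by rw [map_inv, hg], (one_smul k _).symm⟩
  have hne : ρ g⁻¹ ≠ 0 := fun e => by
    haveI := S.nontrivial
    have := rho_mul_inv ρ g
    rw [e, mul_zero] at this
    exact zero_ne_one this
  obtain ⟨α, hα⟩ := S.isMult_smul hi (hinv ▸ S.ad_isMult σ₀ hm) hne
  obtain ⟨s, hs⟩ : ∃ s, IsMult ρ π ((cycA h) * (cycA h) * (cycA h)) (ρ g * ρ g * ρ g) ∧ ρ g * ρ g * ρ g = (s : k) • 1 := by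
    have h3 : cycA h * cycA h * cycA h = 1 := Subtype.ext (by
      show cyc a b c * cyc a b c * cyc a b c = 1
      have := pow_orderOf_eq_one (cyc a b c)
      rwa [(cyc_isThreeCycle h).orderOf, pow_three'] at this)
    obtain ⟨s, hs⟩ := (S.scal (g * g * g)).1 (by rw [map_mul, map_mul, hg, h3])
    exact ⟨s, isMult_mul (isMult_mul hm hm) hm, by rw [← hs, map_mul, map_mul]⟩
  have hα0 : α ≠ 0 := fun e => by
    rw [e, zero_smul] at hα
    have := congrArg (S.ad σ₀⁻¹) hα
    rw [← S.ad_comp, inv_mul_cancel, S.ad_one] at this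
    rw [show S.ad σ₀⁻¹ 0 = 0 by simp [ad]] at this
    have hz := rho_mul_inv ρ g
    rw [this, zero_mul] at hz
    haveI := S.nontrivial
    exact zero_ne_one hz
  obtain ⟨c₀, hc₀⟩ := IsAlgClosed.exists_eq_mul_self α⁻¹
  have hc2 : c₀ * c₀ * α = 1 := by rw [← hc₀, inv_mul_cancel₀ hα0]
  -- `c₀ • ρ g` is inverted, so its cube is a sign
  set Y := c₀ • ρ g with hY
  set β := c₀ * c₀ * c₀ * s with hβ
  have hY3 : Y * Y * Y = β • 1 := by
    rw [hY, smul_mul_smul_comm, smul_mul_smul_comm, hs.2, smul_smul]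
  have hYi : (c₀⁻¹ • ρ g⁻¹) * Y = 1 := by
    rw [hY, smul_mul_smul_comm, rho_inv_mul, inv_mul_cancel₀, one_smul]
    rintro rfl; simp at hc2
  have hYad : S.ad σ₀ Y = c₀⁻¹ • ρ g⁻¹ := by
    rw [hY, S.ad_smul, hα, smul_smul]
    congr 1
    exact eq_inv_of_mul_eq_one_left (by linear_combination hc2)
  have hβ2 : β * β = 1 := by
    refine S.smul_one_inj (d := 1) ?_
    have e := congrArg (S.ad σ₀) hY3
    rw [S.ad_mul, S.ad_mul, hYad, S.ad_scalar] at e
    set Z := c₀⁻¹ • ρ g⁻¹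
    calc (β * β) • (1 : Module.End k V) = (β • 1) * (β • 1) := by rw [smul_mul_smul_comm, one_mul]
      _ = Z * Z * (Z * Y) * Y * Y := by nth_rewrite 1 [← e]; rw [← hY3]; simp only [mul_assoc]
      _ = (1 : k) • 1 := by
        rw [hYi, mul_one, mul_assoc Z Z, hYi, mul_one, hYi, one_smul]
  refine ⟨β • Y, ⟨g, β * c₀, hg, by rw [hY, smul_smul]⟩, ?_, ?_⟩
  · rw [smul_mul_smul_comm, smul_mul_smul_comm, hY3, smul_smul, show β * β * β * β = (β * β) * (β * β) by ring,
      hβ2, one_mul, one_smul]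
  · intro σ hσ
    have hX3 : (β • Y) * (β • Y) * (β • Y) = 1 := by
      rw [smul_mul_smul_comm, smul_mul_smul_comm, hY3, smul_smul, show β * β * β * β = (β * β) * (β * β) by ring,
        hβ2, one_mul, one_smul]
    have hcomm : ((σ₀⁻¹ * σ : alternatingGroup (Fin r)) : Equiv.Perm (Fin r)) * cyc a b c =
        cyc a b c * ((σ₀⁻¹ * σ : alternatingGroup (Fin r)) : Equiv.Perm (Fin r)) := by
      refine mul_inv_eq_iff_eq_mul.1 ?_
      show ((σ₀ : Equiv.Perm (Fin r))⁻¹ * σ) * cyc a b c * ((σ₀ : Equiv.Perm (Fin r))⁻¹ * σ)⁻¹ = cyc a b c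
      calc _ = (σ₀ : Equiv.Perm (Fin r))⁻¹ * ((σ : Equiv.Perm (Fin r)) * cyc a b c * (σ : Equiv.Perm (Fin r))⁻¹) * σ₀ := by group
        _ = _ := by rw [hσ, ← hσ₀]; group
    have hc := S.ad_of_commute h (X := β • Y) ⟨g, β * c₀, hg, by rw [hY, smul_smul]⟩ hX3 hcomm
    rw [show σ = σ₀ * (σ₀⁻¹ * σ) by simp, S.ad_comp, hc, S.ad_smul, hYad]
    have hb : β * β * β = β := by rw [hβ2, one_mul]
    calc β • (c₀⁻¹ • ρ g⁻¹) = (β • (c₀⁻¹ • ρ g⁻¹)) * ((β • Y) * (β • Y) * (β • Y)) := by rw [hX3, mul_one]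
      _ = _ := by
        rw [← mul_assoc, ← mul_assoc, smul_mul_smul_comm β (c₀⁻¹ • ρ g⁻¹) β Y, hYi, hβ2, one_smul, one_mul]

end IsProj

end CfsgLib.AltRep
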