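import Cfsg.Agent.Lib.AltRep.Growth

/-!
# The operators belonging to four points
-/

set_option autoImplicit false
set_option linter.unusedSectionVars false

namespace CfsgLib.AltRep

open Equiv Equiv.Perm Module

variable {r : ℕ} {k V H : Type*} [Field k] [IsAlgClosed k] [AddCommGroup V] [Module k V] [Group H]

theorem D4.swap_last {a b c d : Fin r} (h : D4 a b c d) : D4 a b d c := ⟨h.2.1, h.1, h.2.2.symm⟩

/-- Pairs of anticommuting operators with square `-1`, commuting with one another, double the dimension. -/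
theorem two_pow_dvd_finrank [FiniteDimensional k V] (h2 : (2 : k) ≠ 0) :
    ∀ (l : ℕ) (u v : Fin l → Module.End k V), (∀ i, u i * u i = -1) → (∀ i, u i * v i = -(v i * u i)) →
      (∀ i, Function.Injective (v i)) → (∀ i j, i ≠ j → u i * u j = u j * u i ∧ u i * v j = v j * u i) →
      ∀ W : Submodule k V, (∀ i, ∀ w ∈ W, u i w ∈ W ∧ v i w ∈ W) → 2 ^ l ∣ finrank k W := by
  intro l
  induction l with
  | zero => intro u v _ _ _ _ W _; simp
  | succ l ih =>
    intro u v hu huv hv hc W hW
    obtain ⟨ι, hι⟩ := IsAlgClosed.exists_eq_mul_self (-1 : k)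
    have hι0 : ι ≠ 0 := fun e => by rw [e, mul_zero] at hι; exact neg_ne_zero.2 one_ne_zero hι
    let U : k → Submodule k V := fun c => W ⊓ LinearMap.ker (u 0 - c • (1 : Module.End k V))
    have hU : ∀ c w, w ∈ U c ↔ w ∈ W ∧ u 0 w = c • w := fun c w => by simp [U, sub_eq_zero]
    have hmove : ∀ c, ∀ w ∈ U c, v 0 w ∈ U (-c) := by
      intro c w hw
      obtain ⟨h1, h2'⟩ := (hU c w).1 hw
      refine (hU _ _).2 ⟨(hW 0 w h1).2, ?_⟩
      have e := LinearMap.congr_fun (huv 0) w
      rw [End.mul_apply, LinearMap.neg_apply, End.mul_apply, h2', map_smul] at e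
      rw [e, neg_smul]
    have heq : finrank k (U ι) = finrank k (U (-ι)) := by
      refine le_antisymm ?_ ?_
      · exact LinearMap.finrank_le_finrank_of_injective (f := (v 0).restrict fun w hw => hmove ι w hw)
          fun a b h => Subtype.ext (hv 0 (congrArg Subtype.val h))
      · refine LinearMap.finrank_le_finrank_of_injective (f := (v 0).restrict (q := U ι) fun w hw => ?_)
          fun a b h => Subtype.ext (hv 0 (congrArg Subtype.val h))
        have := hmove (-ι) w hw
        rwa [neg_neg] at this
    have hsup : U ι ⊔ U (-ι) = W := by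
      refine le_antisymm (sup_le inf_le_left inf_le_left) fun w hw => ?_
      have huu : u 0 (u 0 w) = -w := LinearMap.congr_fun (hu 0) w
      rw [Submodule.mem_sup]
      refine ⟨(2 * ι)⁻¹ • (ι • w + u 0 w), (hU _ _).2 ⟨?_, ?_⟩, (2 * ι)⁻¹ • (ι • w - u 0 w), (hU _ _).2 ⟨?_, ?_⟩, ?_⟩
      · exact Submodule.smul_mem _ _ (add_mem (Submodule.smul_mem _ _ hw) (hW 0 w hw).1)
      · rw [map_smul, map_add, map_smul, huu, smul_comm ι]
        congr 1
        rw [smul_add, smul_smul, ← hι, neg_one_smul]; abel
      · exact Submodule.smul_mem _ _ (sub_mem (Submodule.smul_mem _ _ hw) (hW 0 w hw).1)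
      · rw [map_smul, map_sub, map_smul, huu, smul_comm (-ι)]
        congr 1
        rw [smul_sub, smul_smul, neg_mul, ← hι, neg_neg, one_smul, neg_smul]; abel
      · rw [← smul_add, show ι • w + u 0 w + (ι • w - u 0 w) = (2 * ι) • w by module, smul_smul,
          inv_mul_cancel₀ (mul_ne_zero h2 hι0), one_smul]
    have hinf : U ι ⊓ U (-ι) = ⊥ := by
      rw [Submodule.eq_bot_iff]
      intro w hw
      have e1 := ((hU _ _).1 hw.1).2
      have e2 := ((hU _ _).1 hw.2).2
      rw [e1] at e2
      exact (smul_eq_zero.1 (show (2 * ι) • w = 0 by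
        rw [show 2 * ι = ι - -ι by ring, sub_smul, e2, sub_self])).resolve_left (mul_ne_zero h2 hι0)
    have hs := Submodule.finrank_sup_add_finrank_inf_eq (U ι) (U (-ι))
    rw [hsup, hinf, finrank_bot, ← heq, add_zero] at hs
    have := ih (u ∘ Fin.succ) (v ∘ Fin.succ) (fun i => hu _) (fun i => huv _) (fun i => hv _)
      (fun i j h => hc _ _ fun e => h (Fin.succ_injective _ e)) (U ι) fun i w hw => by
        obtain ⟨h1, h2'⟩ := (hU ι w).1 hw
        obtain ⟨cu, cv⟩ := hc 0 i.succ (Fin.succ_ne_zero i).symm
        refine ⟨(hU _ _).2 ⟨(hW _ w h1).1, ?_⟩, (hU _ _).2 ⟨(hW _ w h1).2, ?_⟩⟩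
        · show u 0 (u i.succ w) = _
          rw [← End.mul_apply, cu, End.mul_apply, h2', map_smul]
          rfl
        · show u 0 (v i.succ w) = _
          rw [← End.mul_apply, cv, End.mul_apply, h2', map_smul]
          rfl
    rw [hs, pow_succ]
    obtain ⟨q, hq⟩ := this
    exact ⟨q, by rw [hq]; ring⟩

namespace IsProj

variable {ρ : H →* Module.End k V} {π : H →* alternatingGroup (Fin r)} (S : IsProj ρ π)

/-- The product of the lifts of `(a b c)` and `(a b d)`. -/
noncomputable def U (a b c d : Fin r) : Module.End k V := S.L a b c * S.L a b d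

theorem commute_U {x : Module.End k V} {a b c d : Fin r} (h1 : x * S.L a b c = S.L a b c * x)
    (h2 : x * S.L a b d = S.L a b d * x) : x * S.U a b c d = S.U a b c d * x := by
  rw [U, ← mul_assoc, h1, mul_assoc, h2, mul_assoc]

theorem U_inj (a b c d : Fin r) : Function.Injective (S.U a b c d) := by
  have hL : ∀ x y z, Function.Injective (S.L x y z) := fun x y z v w e => by
    have := congrArg (fun t => S.L x y z (S.L x y z t)) e
    simp only [← End.mul_apply] at this
    rwa [show S.L x y z * (S.L x y z * S.L x y z) = 1 by rw [← mul_assoc, S.L_cube], End.one_apply,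
      End.one_apply] at this
  exact (hL a b c).comp (hL a b d)

/-- The image of `U`. -/
theorem U_isMult {a b c d : Fin r} (h : D4 a b c d) :
    IsMult ρ π (cycA h.1 * cycA h.2.1) (S.U a b c d) :=
  isMult_mul (S.L_spec h.1).1 (S.L_spec h.2.1).1

/-- A fixed vector stays fixed by the transported lift. -/
theorem fixed_transport {σ : alternatingGroup (Fin r)} {X : Module.End k V} (hX : IsMult ρ π σ X) {v : V}
    (hv : X v = v) {a b c : Fin r} (h : D3 a b c) (hL : S.L a b c v = v) :
    S.L ((σ : Equiv.Perm (Fin r)) a) ((σ : Equiv.Perm (Fin r)) b) ((σ : Equiv.Perm (Fin r)) c) v = v := by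
  obtain ⟨g, e, rfl, rfl⟩ := hX
  calc _ = S.L _ _ _ ((e • ρ g) v) := by rw [hv]
    _ = e • ρ g (S.L a b c v) := by rw [LinearMap.smul_apply, map_smul, S.rho_L g h]
    _ = v := by rw [hL, ← LinearMap.smul_apply, hv]

variable {ε : k}
variable (hε : ε * ε = 1) (hsign : ∀ a b c d, D4 a b c d → S.U a b c d * S.U a b c d = ε • 1)

include hsign in
theorem U_sq {a b c d : Fin r} (h : D4 a b c d) : S.U a b c d * S.U a b c d = ε • 1 := hsign a b c d h

include hε hsign in
theorem U_comm {a b c d : Fin r} (h : D4 a b c d) :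
    S.U a b c d * S.U a b d c = ε • (S.U a b d c * S.U a b c d) := by
  have h1 := hsign a b c d h
  have h2 := hsign a b d c h.swap_last
  simp only [U] at h1 h2 ⊢
  set x := S.L a b c
  set y := S.L a b d
  have hx : x * x * x = 1 := S.L_cube _ _ _
  have hy : y * y * y = 1 := S.L_cube _ _ _
  have exy : x * y = ε • (y * y * (x * x)) := by
    calc x * y = (x * y) * ((x * y) * (y * y * (x * x))) := by
          rw [show x * y * (y * y * (x * x)) = x * (y * y * y) * (x * x) by simp only [mul_assoc], hy,
            mul_one, show x * (x * x) = x * x * x from (mul_assoc x x x).symm, hx, mul_one]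
      _ = _ := by rw [← mul_assoc, h1, smul_mul_assoc, one_mul]
  have eyx : y * x = ε • (x * x * (y * y)) := by
    calc y * x = (y * x) * ((y * x) * (x * x * (y * y))) := by
          rw [show y * x * (x * x * (y * y)) = y * (x * x * x) * (y * y) by simp only [mul_assoc], hx,
            mul_one, show y * (y * y) = y * y * y from (mul_assoc y y y).symm, hy, mul_one]
      _ = _ := by rw [← mul_assoc, h2, smul_mul_assoc, one_mul]
  have eyxy : y * x * y = ε • (x * x) := by
    rw [eyx, smul_mul_assoc, mul_assoc (x * x), hy, mul_one]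
  calc x * y * (y * x) = (ε * ε) • (y * y * (x * x) * (x * x * (y * y))) := by
        rw [exy, eyx, smul_mul_smul_comm]
    _ = y * y * (x * x * x) * x * (y * y) := by rw [hε, one_smul]; simp only [mul_assoc]
    _ = y * (y * x * y) * y := by rw [hx, mul_one]; simp only [mul_assoc]
    _ = ε • (y * x * (x * y)) := by rw [eyxy, mul_smul_comm, smul_mul_assoc]; simp only [mul_assoc]

theorem conj_U' (a b c d : Fin r) : S.L a b c * S.U a b d c * (S.L a b c * S.L a b c) = S.U a b c d := by
  rw [U, U]
  calc _ = S.L a b c * S.L a b d * (S.L a b c * S.L a b c * S.L a b c) := by simp only [mul_assoc]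
    _ = _ := by rw [S.L_cube, mul_one]

include hsign in
theorem conj_U {a b c d : Fin r} (h : D4 a b c d) :
    S.L a b c * S.U a b c d * (S.L a b c * S.L a b c) = ε • (S.U a b c d * S.U a b d c) := by
  have h1 := hsign a b c d h
  simp only [U] at h1 ⊢
  set x := S.L a b c
  set y := S.L a b d
  have hx : x * x * x = 1 := S.L_cube _ _ _
  have hy : y * y * y = 1 := S.L_cube _ _ _
  have exyx : x * y * x = ε • (y * y) := by
    calc x * y * x = x * y * x * (y * y * y) := by rw [hy, mul_one]
      _ = (x * y * (x * y)) * (y * y) := by simp only [mul_assoc]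
      _ = _ := by rw [h1, smul_mul_assoc, one_mul]
  calc x * (x * y) * (x * x) = x * (x * y * x) * x := by simp only [mul_assoc]
    _ = _ := by rw [exyx, mul_smul_comm, smul_mul_assoc]; simp only [mul_assoc]

end IsProj

end CfsgLib.AltRep
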