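import Cfsg.Agent.Lib.AltRep.Bound

/-!
# Alternating sections of finite linear groups: reduction to projective representations

In a minimal group mapping onto `A_r` and acting irreducibly the kernel consists of scalars, unless a
normal section of symplectic type gives a smaller linear group with the same alternating section.
-/

set_option autoImplicit false
set_option linter.unusedSectionVars false
set_option linter.style.haveILetI false

namespace CfsgLib.AltRep

open Module
open scoped commutatorElement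

universe u v w

theorem two_pow_gt_sq {e : ℕ} (h : 5 ≤ e) : e * e < 2 ^ e := by
  induction e, h using Nat.le_induction with
  | base => norm_num
  | succ e he ih => rw [pow_succ]; nlinarith

theorem card_alternating_lt {r : ℕ} (hr : 9 ≤ r) :
    (r - 2).factorial < Nat.card (alternatingGroup (Fin r)) ∧ 181440 ≤ Nat.card (alternatingGroup (Fin r)) := by
  haveI : Nontrivial (Fin r) := Fin.nontrivial_iff_two_le.2 (by omega)
  have h2 : 2 * Nat.card (alternatingGroup (Fin r)) = r.factorial := by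
    rw [Nat.card_eq_fintype_card, two_mul_card_alternatingGroup, Fintype.card_perm, Fintype.card_fin]
  obtain ⟨m, rfl⟩ := Nat.exists_eq_add_of_le hr
  have e : (9 + m).factorial = (9 + m) * ((8 + m) * (9 + m - 2).factorial) := by
    rw [show 9 + m - 2 = 7 + m by omega, show 9 + m = (8 + m) + 1 by omega, Nat.factorial_succ,
      show 8 + m = (7 + m) + 1 by omega, Nat.factorial_succ]
  refine ⟨?_, ?_⟩
  · have hpos := Nat.factorial_pos (9 + m - 2)
    have : 72 * (9 + m - 2).factorial ≤ (9 + m).factorial := by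
      rw [e, ← mul_assoc]
      exact Nat.mul_le_mul_right _ (by nlinarith)
    omega
  · have := Nat.factorial_le (show 9 ≤ 9 + m by omega)
    rw [show (9 : ℕ).factorial = 362880 by decide] at this
    omega

/-- The bound already known for linear groups of dimension less than `n` over prime fields' closures. -/
def Small (r n : ℕ) : Prop :=
  ∀ (q : ℕ) [Fact q.Prime] (e : ℕ), e < n → ∀ (G : Type v) [Group G] [Finite G] (π : G →* alternatingGroup (Fin r))
    (ρ : G →* Module.End (AlgebraicClosure (ZMod q)) (Fin e → AlgebraicClosure (ZMod q))),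
    Function.Surjective π → (∀ g, ρ g = 1 → π g = 1) → r - 2 ≤ e

/-- Conjugation on a normal elementary abelian subgroup, as matrices over `ZMod q`. -/
theorem conj_matrix_rep {Q : Type v} [Group Q] [Finite Q] (W : Subgroup Q) [W.Normal] (q : ℕ) [Fact q.Prime]
    (hc : ∀ a ∈ W, ∀ b ∈ W, a * b = b * a) (hexp : ∀ a ∈ W, a ^ q = 1) :
    ∃ (e : ℕ) (σ : Q →* Matrix (Fin e) (Fin e) (ZMod q)),
      Nat.card W = q ^ e ∧ ∀ x, σ x = 1 → ∀ w ∈ W, x * w * x⁻¹ = w := by
  letI : CommGroup W := { (inferInstance : Group W) with mul_comm := fun a b => Subtype.ext (hc a a.2 b b.2) }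
  have hz : ∀ x : Additive W, q • x = 0 := fun x => congrArg Additive.ofMul
    (show x.toMul ^ q = (1 : W) from Subtype.ext (by rw [SubmonoidClass.coe_pow]; exact hexp _ x.toMul.2))
  obtain ⟨iM⟩ : Nonempty (Module (ZMod q) (Additive W)) := ⟨AddCommGroup.zmodModule hz⟩
  haveI : Module.Finite (ZMod q) (Additive W) := Module.Finite.of_finite
  let b := Module.finBasis (ZMod q) (Additive W)
  let L : Q →* Module.End (ZMod q) (Additive W) :=
    { toFun := fun x => ((MulAut.conjNormal (H := W) x).toMonoidHom.toAdditive).toZModLinearMap q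
      map_one' := LinearMap.ext fun x => congrArg Additive.ofMul
        (Subtype.ext (show (1 : Q) * (x.toMul : Q) * 1⁻¹ = x.toMul by simp))
      map_mul' := fun g h => LinearMap.ext fun x => congrArg Additive.ofMul
        (Subtype.ext (show g * h * (x.toMul : Q) * (g * h)⁻¹ = g * (h * x.toMul * h⁻¹) * g⁻¹ by group)) }
  refine ⟨_, ((LinearMap.toMatrixAlgEquiv b).toAlgHom.toMonoidHom).comp L, ?_, fun x hx w hw => ?_⟩
  · have h := Module.natCard_eq_pow_finrank (K := ZMod q) (V := Additive W)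
    rw [Nat.card_zmod] at h
    exact (Nat.card_congr (Additive.ofMul (α := W))).trans h
  · have h : L x = 1 := (LinearMap.toMatrixAlgEquiv b).injective (hx.trans (map_one _).symm)
    exact congrArg (fun T : Module.End (ZMod q) (Additive W) => ((T (Additive.ofMul ⟨w, hw⟩)).toMul : Q)) h

set_option maxHeartbeats 1000000 in
theorem section_bound_step {r n : ℕ} (hr : 9 ≤ r) (hsmall : Small.{v} r n) {k : Type u} [Field k] [IsAlgClosed k]
    (p : ℕ) [Fact p.Prime] [CharP k p] :
    ∀ (d c : ℕ) (G : Type v) [Group G] [Finite G], Nat.card G = c →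
      ∀ (V : Type w) [AddCommGroup V] [Module k V] [FiniteDimensional k V], finrank k V = d → d ≤ n →
      ∀ (π : G →* alternatingGroup (Fin r)) (ρ : G →* Module.End k V),
        Function.Surjective π → (∀ g, ρ g = 1 → π g = 1) → r - 1 - (if p ∣ r then 1 else 0) ≤ d := by
  classical
  intro d
  induction d using Nat.strong_induction_on with | _ d ihd =>
  intro c
  induction c using Nat.strong_induction_on with | _ c ihc =>
  intro G _ _ hc V _ _ _ hd hdn π ρ hπ hker
  subst hd hc
  by_contra hcon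
  have hn : finrank k V + 2 ≤ r := by omega
  haveI hsimple : IsSimpleGroup (alternatingGroup (Fin r)) := alternatingGroup.isSimpleGroup (by simp; omega)
  have hnc : ∃ a b : alternatingGroup (Fin r), a * b ≠ b * a := by
    by_contra! hh
    have h3 := alternatingGroup.isMulCommutative_iff_card_le_three.1 (⟨⟨hh⟩⟩ : IsMulCommutative (alternatingGroup (Fin r)))
    simp only [Nat.card_eq_fintype_card, Fintype.card_fin] at h3
    omega
  -- a minimal group
  have hmin : ∀ L : Subgroup G, L.map π = ⊤ → L = ⊤ := by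
    intro L hL
    by_contra hne
    have hlt : Nat.card L < Nat.card G :=
      lt_of_le_of_ne L.card_le_card_group fun e => hne (L.eq_top_of_card_eq e)
    refine hcon (ihc _ hlt L rfl V rfl hdn (π.comp L.subtype) (ρ.comp L.subtype) (fun a => ?_) fun g hg => hker _ hg)
    obtain ⟨g, hg, rfl⟩ := (hL.ge (Subgroup.mem_top a) : a ∈ L.map π)
    exact ⟨⟨g, hg⟩, rfl⟩
  have hnormal : ∀ N : Subgroup G, N.Normal → N ≤ π.ker ∨ N = ⊤ := by
    intro N hN
    rcases IsSimpleGroup.eq_bot_or_eq_top_of_normal (N.map π) (hN.map π hπ) with h | h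
    · exact Or.inl ((Subgroup.map_eq_bot_iff _).1 h)
    · exact Or.inr (hmin N h)
  have hktop : π.ker ≠ ⊤ := by
    intro h
    obtain ⟨a, b, hab⟩ := hnc
    obtain ⟨g, rfl⟩ := hπ a
    exact hab (by rw [(MonoidHom.mem_ker).1 (h.ge (Subgroup.mem_top g)), one_mul, mul_one])
  have hperf : commutator G = ⊤ := by
    refine (hnormal _ inferInstance).resolve_left fun h => ?_
    obtain ⟨a, b, hab⟩ := hnc
    obtain ⟨x, rfl⟩ := hπ a
    obtain ⟨y, rfl⟩ := hπ b
    have := h (Subgroup.commutator_mem_commutator (Subgroup.mem_top x) (Subgroup.mem_top y))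
    rw [MonoidHom.mem_ker, map_commutatorElement, commutatorElement_eq_one_iff_mul_comm] at this
    exact hab this
  have hinv : ∀ g : G, ρ g * ρ g⁻¹ = 1 := fun g => by rw [← map_mul, mul_inv_cancel, map_one]
  have hinv' : ∀ g : G, ρ g⁻¹ * ρ g = 1 := fun g => by rw [← map_mul, inv_mul_cancel, map_one]
  haveI hV : Nontrivial V := by
    by_contra hh
    rw [not_nontrivial_iff_subsingleton] at hh
    exact hktop (eq_top_iff.2 fun g _ => hker g (Subsingleton.elim _ _))
  -- irreducibility
  have hirr : ∀ W : Submodule k V, (∀ g, ∀ v ∈ W, ρ g v ∈ W) → W = ⊥ ∨ W = ⊤ := by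
    intro W hW
    by_contra! hne
    let ρ1 : G →* Module.End k W :=
      { toFun := fun g => (ρ g).restrict (hW g)
        map_one' := by ext x; show (ρ 1) (x : V) = x; rw [map_one]; rfl
        map_mul' := fun a b => by ext x; show (ρ (a * b)) (x : V) = ρ a (ρ b x); rw [map_mul]; rfl }
    let ρ2 : G →* Module.End k (V ⧸ W) :=
      { toFun := fun g => W.mapQ W (ρ g) (hW g)
        map_one' := by ext x; simp
        map_mul' := fun a b => by ext x; simp }
    have hlt1 : finrank k W < finrank k V := Submodule.finrank_lt hne.2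
    have hlt2 : finrank k (V ⧸ W) < finrank k V := by
      have h1 := W.finrank_quotient_add_finrank
      have h2 : 0 < finrank k W := Nat.pos_of_ne_zero fun h => hne.1 (Submodule.finrank_eq_zero.1 h)
      omega
    have k1 : ρ1.ker = ⊤ := by
      refine (hnormal _ inferInstance).resolve_left fun h => ?_
      have := ihd _ hlt1 _ G rfl W rfl (by omega) π ρ1 hπ (fun g hg => h hg)
      omega
    have k2 : ρ2.ker = ⊤ := by
      refine (hnormal _ inferInstance).resolve_left fun h => ?_
      have := ihd _ hlt2 _ G rfl (V ⧸ W) rfl (by omega) π ρ2 hπ (fun g hg => h hg)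
      omega
    have hA : ∀ g, ∀ v ∈ W, ρ g v = v := fun g v hv =>
      congrArg Subtype.val (LinearMap.congr_fun (MonoidHom.mem_ker.1 (k1.ge (Subgroup.mem_top g))) ⟨v, hv⟩)
    have hB : ∀ g v, ρ g v - v ∈ W := fun g v =>
      (Submodule.Quotient.eq W).1 (LinearMap.congr_fun (MonoidHom.mem_ker.1 (k2.ge (Subgroup.mem_top g))) (W.mkQ v))
    have hc : ∀ g h, ρ g * ρ h = ρ h * ρ g := by
      intro g h
      refine LinearMap.ext fun v => ?_
      have e1 := hA g _ (hB h v)
      have e2 := hA h _ (hB g v)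
      rw [map_sub] at e1 e2
      rw [End.mul_apply, End.mul_apply]
      linear_combination (norm := abel) e1 - e2
    refine hktop (eq_top_iff.2 fun g _ => ?_)
    have hle : commutator G ≤ π.ker := by
      rw [commutator_def, Subgroup.commutator_le]
      intro a _ b _
      refine hker _ ?_
      rw [commutatorElement_def, map_mul, map_mul, map_mul, hc a b, mul_assoc (ρ b), hinv, mul_one, hinv]
    exact hle (hperf.ge (Subgroup.mem_top g))
  -- scalars
  let Z₀ : Subgroup G :=
    { carrier := {g | ∃ c : k, ρ g = c • 1}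
      one_mem' := ⟨1, by rw [map_one, one_smul]⟩
      mul_mem' := fun {a b} ⟨c, hc⟩ ⟨c', hc'⟩ => ⟨c * c', by rw [map_mul, hc, hc', smul_mul_smul_comm, one_mul]⟩
      inv_mem' := fun {a} ⟨c, hc⟩ => ⟨c⁻¹, by
        have h := hinv a
        rw [hc, smul_mul_assoc, one_mul] at h
        have hc0 : c ≠ 0 := fun e => by rw [e, zero_smul] at h; exact zero_ne_one h
        calc ρ a⁻¹ = c⁻¹ • (c • ρ a⁻¹) := by rw [smul_smul, inv_mul_cancel₀ hc0, one_smul]
          _ = _ := by rw [h]⟩ }
  haveI hZn : Z₀.Normal := ⟨fun a ⟨c, hc⟩ g => ⟨c, by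
    rw [map_mul, map_mul, hc, mul_smul_comm, mul_one, smul_mul_assoc, hinv]⟩⟩
  have hZle : Z₀ ≤ π.ker := by
    refine (hnormal _ hZn).resolve_right fun h => hktop (eq_top_iff.2 fun g _ => ?_)
    have hle : commutator G ≤ π.ker := by
      rw [commutator_def, Subgroup.commutator_le]
      intro a _ b _
      obtain ⟨c, hc⟩ := h.ge (Subgroup.mem_top a)
      refine hker _ ?_
      rw [commutatorElement_def, map_mul, map_mul, map_mul, hc, smul_mul_assoc, one_mul, ← mul_one (ρ b),
        ← mul_smul_comm, ← hc, mul_assoc (ρ b), hinv, mul_one, hinv]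
    exact hle (hperf.ge (Subgroup.mem_top g))
  -- abelian normal subgroups are scalar
  have habel : ∀ N : Subgroup G, N.Normal → (∀ a ∈ N, ∀ b ∈ N, ρ a * ρ b = ρ b * ρ a) → N ≤ Z₀ := by
    intro N hN hcomm
    haveI := Fintype.ofFinite N
    let Wt : (N → k) → Submodule k V := fun χ => ⨅ a : N, LinearMap.ker (ρ a - χ a • (1 : Module.End k V))
    have hWt : ∀ χ v, v ∈ Wt χ ↔ ∀ a : N, ρ a v = χ a • v := fun χ v => by
      simp [Wt, Submodule.mem_iInf, sub_eq_zero]
    let X := {χ : N → k // Wt χ ≠ ⊥}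
    choose v hv hv0 using fun χ : X => (Submodule.ne_bot_iff _).1 χ.2
    have hli : LinearIndependent k v := linearIndependent_of_weights (fun a : N => ρ a) (fun χ : X => χ.1) v
      Subtype.val_injective hv0 fun χ a => (hWt _ _).1 (hv χ) a
    haveI : Finite X := hli.finite
    haveI := Fintype.ofFinite X
    have hX : Fintype.card X ≤ finrank k V := hli.fintype_card_le_finrank
    have hmove : ∀ (g : G) (χ : N → k), ∀ u ∈ Wt χ,
        ρ g u ∈ Wt fun a => χ ⟨g⁻¹ * a * g⁻¹⁻¹, hN.conj_mem a a.2 g⁻¹⟩ := by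
      intro g χ u hu
      refine (hWt _ _).2 fun a => ?_
      have e := (hWt _ _).1 hu ⟨g⁻¹ * a * g⁻¹⁻¹, hN.conj_mem a a.2 g⁻¹⟩
      rw [← End.mul_apply, ← map_mul]
      have : (a : G) * g = g * (g⁻¹ * a * g⁻¹⁻¹) := by group
      rw [this, map_mul, End.mul_apply, e, map_smul]
    let act : G → X → X := fun g χ => ⟨fun a => χ.1 ⟨g⁻¹ * a * g⁻¹⁻¹, hN.conj_mem a a.2 g⁻¹⟩, fun h => by
      have := hmove g χ.1 _ (hv χ)
      rw [h, Submodule.mem_bot] at this
      refine hv0 χ ?_
      have e := congrArg (ρ g⁻¹) this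
      rwa [← End.mul_apply, hinv', End.one_apply, map_zero] at e⟩
    letI : MulAction G X :=
      { smul := act
        one_smul := fun χ => Subtype.ext (funext fun a => by
          show χ.1 _ = _
          exact congrArg χ.1 (Subtype.ext (by show (1 : G)⁻¹ * (a : G) * 1⁻¹⁻¹ = a; group)))
        mul_smul := fun g h χ => Subtype.ext (funext fun a => by
          show χ.1 _ = χ.1 _
          exact congrArg χ.1 (Subtype.ext (by show (g * h)⁻¹ * (a : G) * (g * h)⁻¹⁻¹ = h⁻¹ * (g⁻¹ * a * g⁻¹⁻¹) * h⁻¹⁻¹; group))) }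
    let φ : G →* Equiv.Perm X := MulAction.toPermHom G X
    rcases hnormal φ.ker inferInstance with hle | htop
    · exfalso
      have h1 : Nat.card (alternatingGroup (Fin r)) ∣ φ.ker.index := by
        rw [show Nat.card (alternatingGroup (Fin r)) = π.ker.index by
          rw [Subgroup.index_ker, MonoidHom.range_eq_top.2 hπ, Subgroup.card_top]]
        exact Subgroup.index_dvd_of_le hle
      have h2 : φ.ker.index ≤ (r - 2).factorial := by
        rw [Subgroup.index_ker]
        refine (Subgroup.card_le_card_group _).trans ?_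
        rw [Nat.card_eq_fintype_card, Fintype.card_perm]
        exact Nat.factorial_le (by omega)
      have h3 := Nat.le_of_dvd (Nat.pos_of_ne_zero Subgroup.index_ne_zero_of_finite) h1
      have := (card_alternating_lt hr).1
      omega
    · intro a ha
      obtain ⟨u, -, hu0, hu⟩ := exists_joint_eigen (fun a : N => ρ a) (fun i j => hcomm i i.2 j j.2) Finset.univ ⊤
        top_ne_bot (fun _ _ _ _ => Submodule.mem_top)
      choose χ hχ using fun a : N => hu a (Finset.mem_univ a)
      have huW : u ∈ Wt χ := (hWt _ _).2 hχ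
      have hne : Wt χ ≠ ⊥ := fun h => hu0 (by rwa [h, Submodule.mem_bot] at huW)
      rcases hirr (Wt χ) (fun g w hw => by
        have e : g • (⟨χ, hne⟩ : X) = ⟨χ, hne⟩ := by
          have := MonoidHom.mem_ker.1 (htop.ge (Subgroup.mem_top g))
          exact congrFun (congrArg DFunLike.coe this) _
        have := hmove g χ w hw
        rwa [show (fun a : N => χ ⟨g⁻¹ * a * g⁻¹⁻¹, hN.conj_mem a a.2 g⁻¹⟩) = χ from congrArg Subtype.val e] at this)
        with h | h
      · exact absurd h hne
      · exact ⟨χ ⟨a, ha⟩, LinearMap.ext fun w => (hWt _ w).1 (h ▸ Submodule.mem_top) ⟨a, ha⟩⟩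
  by_cases hKZ : π.ker ≤ Z₀
  · exact hcon ((⟨hr, hπ, fun g => ⟨fun h => hKZ h, fun h => hZle h⟩, hirr⟩ : IsProj ρ π).degree_bound p)
  -- a symplectic-type section
  have hfrat : π.ker ≤ frattini G := by
    refine le_iInf₂ fun M hM => ?_
    by_contra hle
    have h : M ⊔ π.ker = ⊤ := hM.2 _ (lt_of_le_of_ne le_sup_left fun e => hle (e ▸ le_sup_right))
    refine hM.1 (hmin M ?_)
    have hk : π.ker.map π = ⊥ := (Subgroup.map_eq_bot_iff _).2 le_rfl
    have hm := congrArg (Subgroup.map π) h
    rwa [Subgroup.map_sup, hk, sup_bot_eq, Subgroup.map_top_of_surjective π hπ] at hm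
  haveI : Group.IsNilpotent (frattini G) := frattini_nilpotent
  haveI hKnil : Group.IsNilpotent π.ker :=
    Subgroup.isNilpotent_of_ker_le_center (Subgroup.inclusion hfrat) (by
      rw [MonoidHom.ker_eq_bot_iff _ |>.2 (Subgroup.inclusion_injective hfrat)]; exact bot_le)
  let mk := QuotientGroup.mk' Z₀
  set Kb := π.ker.map mk with hKb
  haveI hKbn : Kb.Normal := (MonoidHom.normal_ker π).map mk (QuotientGroup.mk'_surjective _)
  haveI : Group.IsNilpotent Kb := Group.nilpotent_of_surjective (MonoidHom.subgroupMap mk π.ker)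
    (MonoidHom.subgroupMap_surjective mk π.ker)
  haveI : Nontrivial Kb := by
    rw [Subgroup.nontrivial_iff_ne_bot, hKb, Ne, Subgroup.map_eq_bot_iff, QuotientGroup.ker_mk']
    exact hKZ
  haveI : Nontrivial (Subgroup.center Kb) := (Subgroup.nontrivial_iff_ne_bot _).2 (Group.IsNilpotent.center_ne_bot _)
  obtain ⟨x₀, hx₀⟩ := exists_ne (1 : Subgroup.center Kb)
  obtain ⟨q, hq, hqd⟩ := Nat.exists_prime_and_dvd (fun e => hx₀ (orderOf_eq_one_iff.1 e))
  haveI := Fact.mk hq
  let C := Kb ⊓ Subgroup.centralizer (Kb : Set (G ⧸ Z₀))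
  have hCc : ∀ a ∈ C, ∀ b ∈ C, a * b = b * a := fun a ha b hb =>
    (Subgroup.mem_centralizer_iff.1 hb.2 a ha.1)
  let Wb : Subgroup (G ⧸ Z₀) :=
    { carrier := {x | x ∈ C ∧ x ^ q = 1}
      one_mem' := ⟨one_mem C, one_pow q⟩
      mul_mem' := fun {a b} ha hb => ⟨mul_mem ha.1 hb.1, by
        rw [(show Commute a b from hCc a ha.1 b hb.1).mul_pow, ha.2, hb.2, one_mul]⟩
      inv_mem' := fun {a} ha => ⟨inv_mem ha.1, by rw [inv_pow, ha.2, inv_one]⟩ }
  haveI hWbn : Wb.Normal := ⟨fun a ha g => ⟨(inferInstance : C.Normal).conj_mem a ha.1 g, by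
    rw [conj_pow, ha.2, mul_one, mul_inv_cancel]⟩⟩
  have hWb1 : Wb ≠ ⊥ := by
    intro hbot
    set y := x₀ ^ (orderOf x₀ / q) with hy
    have hoy : orderOf y = q := orderOf_pow_orderOf_div (orderOf_pos x₀).ne' hqd
    have hmem : ((y : Kb) : G ⧸ Z₀) ∈ Wb := by
      refine ⟨⟨(y : Kb).2, Subgroup.mem_centralizer_iff.2 fun h hh => ?_⟩, ?_⟩
      · exact congrArg Subtype.val (Subgroup.mem_center_iff.1 y.2 ⟨h, hh⟩)
      · have e := pow_orderOf_eq_one y
        rw [hoy] at e
        exact congrArg (fun z : Subgroup.center Kb => ((z : Kb) : G ⧸ Z₀)) e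
    rw [hbot, Subgroup.mem_bot] at hmem
    have : y = 1 := Subtype.ext (Subtype.ext hmem)
    rw [this, orderOf_one] at hoy
    exact hq.ne_one hoy.symm
  set W₀ := Wb.comap mk with hW₀
  haveI hW₀n : W₀.Normal := hWbn.comap mk
  have hWc : ∀ a ∈ W₀, ∀ b ∈ W₀, ∃ c : k, ρ b * ρ a * ρ b⁻¹ = c • ρ a := by
    intro a ha b hb
    have e : mk (b * a * b⁻¹ * a⁻¹) = 1 := by
      rw [map_mul, map_mul, map_mul, map_inv, map_inv, hCc _ hb.1 _ ha.1]; group
    obtain ⟨c, hc⟩ := (QuotientGroup.eq_one_iff _).1 e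
    refine ⟨c, ?_⟩
    calc ρ b * ρ a * ρ b⁻¹ = ρ (b * a * b⁻¹ * a⁻¹) * ρ a := by rw [← map_mul, ← map_mul, ← map_mul, inv_mul_cancel_right]
      _ = _ := by rw [hc, smul_mul_assoc, one_mul]
  have hnab : ¬ ∀ a ∈ W₀, ∀ b ∈ W₀, ρ a * ρ b = ρ b * ρ a := by
    intro h
    refine hWb1 ((Subgroup.eq_bot_iff_forall _).2 fun x hx => ?_)
    obtain ⟨a, rfl⟩ := QuotientGroup.mk'_surjective Z₀ x
    exact (QuotientGroup.eq_one_iff a).2 (habel W₀ hW₀n h hx)
  -- distinct cosets give independent operators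
  haveI := Fintype.ofFinite Wb
  choose rep hrep using fun x : Wb => QuotientGroup.mk'_surjective Z₀ (x : G ⧸ Z₀)
  have hrepW : ∀ x : Wb, rep x ∈ W₀ := fun x => by
    show mk (rep x) ∈ Wb; rw [hrep]; exact x.2
  choose cw hcw using fun (x : Wb) (b : W₀) => hWc (rep x) (hrepW x) b b.2
  have hsq : Fintype.card Wb ≤ finrank k V * finrank k V := by
    let Op : W₀ → Module.End k (Module.End k V) := fun b =>
      (LinearMap.mulRight k (ρ (b : G)⁻¹)).comp (LinearMap.mulLeft k (ρ b))
    have hli : LinearIndependent k fun x : Wb => ρ (rep x) := by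
      refine linearIndependent_of_weights Op cw _ (fun x y hxy => ?_) (fun x h => ?_) fun x b => hcw x b
      · let Rad : Subgroup G :=
          { carrier := {a | a ∈ W₀ ∧ ∀ b ∈ W₀, ρ b * ρ a * ρ b⁻¹ = ρ a}
            one_mem' := ⟨one_mem _, fun b _ => by rw [map_one, mul_one, hinv]⟩
            mul_mem' := fun {a a'} ha ha' => ⟨mul_mem ha.1 ha'.1, fun b hb => by
              calc ρ b * ρ (a * a') * ρ b⁻¹ = (ρ b * ρ a * ρ b⁻¹) * (ρ b * ρ a' * ρ b⁻¹) := by
                    simp only [← map_mul]; congr 1; group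
                _ = _ := by rw [ha.2 b hb, ha'.2 b hb, map_mul]⟩
            inv_mem' := fun {a} ha => ⟨inv_mem ha.1, fun b hb => by
              calc ρ b * ρ a⁻¹ * ρ b⁻¹ = ρ a⁻¹ * (ρ b * ρ a * ρ b⁻¹) * (ρ b * ρ a⁻¹ * ρ b⁻¹) := by
                    rw [ha.2 b hb, hinv', one_mul]
                _ = ρ a⁻¹ := by simp only [← map_mul]; congr 1; group⟩ }
        haveI : Rad.Normal := ⟨fun a ha g => ⟨hW₀n.conj_mem a ha.1 g, fun b hb => by
          have h := ha.2 (g⁻¹ * b * g⁻¹⁻¹) (hW₀n.conj_mem b hb g⁻¹)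
          calc ρ b * ρ (g * a * g⁻¹) * ρ b⁻¹ =
                ρ g * (ρ (g⁻¹ * b * g⁻¹⁻¹) * ρ a * ρ (g⁻¹ * b * g⁻¹⁻¹)⁻¹) * ρ g⁻¹ := by
                simp only [← map_mul]; congr 1; group
            _ = _ := by rw [h, map_mul, map_mul]⟩⟩
        have hR := habel Rad inferInstance (fun a ha b hb => by
          have h := hb.2 a ha.1
          calc ρ a * ρ b = ρ a * ρ b * (ρ a⁻¹ * ρ a) := by rw [hinv', mul_one]
            _ = (ρ a * ρ b * ρ a⁻¹) * ρ a := by simp only [mul_assoc]
            _ = _ := by rw [h])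
        have hmem : (rep x)⁻¹ * rep y ∈ Rad := by
          refine ⟨mul_mem (inv_mem (hrepW x)) (hrepW y), fun b hb => ?_⟩
          have ex := hcw x ⟨b, hb⟩
          have ey := hcw y ⟨b, hb⟩
          have he : cw x ⟨b, hb⟩ = cw y ⟨b, hb⟩ := congrFun hxy _
          set c := cw x ⟨b, hb⟩ with hcdef
          have hc0 : c ≠ 0 := fun e => by
            rw [e, zero_smul] at ex
            have h := congrArg (fun T => ρ b⁻¹ * T * ρ b * ρ (rep x)⁻¹) ex
            simp only [mul_zero, zero_mul, ← map_mul] at h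
            rw [show b⁻¹ * (b * rep x * b⁻¹) * b * (rep x)⁻¹ = 1 by group, map_one] at h
            exact one_ne_zero h
          have exi : ρ b * ρ (rep x)⁻¹ * ρ b⁻¹ = c⁻¹ • ρ (rep x)⁻¹ := by
            have h : (ρ b * ρ (rep x) * ρ b⁻¹) * (ρ b * ρ (rep x)⁻¹ * ρ b⁻¹) = 1 := by
              simp only [← map_mul]
              rw [← map_one ρ]; congr 1; group
            rw [ex, smul_mul_assoc] at h
            calc ρ b * ρ (rep x)⁻¹ * ρ b⁻¹ = (ρ (rep x)⁻¹ * ρ (rep x)) * (ρ b * ρ (rep x)⁻¹ * ρ b⁻¹) := by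
                  rw [hinv', one_mul]
              _ = c⁻¹ • (ρ (rep x)⁻¹ * (c • (ρ (rep x) * (ρ b * ρ (rep x)⁻¹ * ρ b⁻¹)))) := by
                  rw [mul_smul_comm, smul_smul, inv_mul_cancel₀ hc0, one_smul, mul_assoc]
              _ = _ := by rw [h, mul_one]
          calc ρ b * ρ ((rep x)⁻¹ * rep y) * ρ b⁻¹ =
                (ρ b * ρ (rep x)⁻¹ * ρ b⁻¹) * (ρ b * ρ (rep y) * ρ b⁻¹) := by
                simp only [← map_mul]; congr 1; group
            _ = _ := by rw [exi, ey, ← he, smul_mul_smul_comm, inv_mul_cancel₀ hc0, one_smul, map_mul]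
        have e : (rep x : G ⧸ Z₀) = (rep y : G ⧸ Z₀) := QuotientGroup.eq.2 (hR hmem)
        exact Subtype.ext ((hrep x).symm.trans (e.trans (hrep y)))
      · have := hinv (rep x)
        rw [show ρ (rep x) = 0 from h, zero_mul] at this
        exact zero_ne_one this
    have := hli.fintype_card_le_finrank
    rwa [Module.finrank_linearMap] at this
  -- the action on the section
  obtain ⟨e, σb, hcardW, hσb⟩ := conj_matrix_rep Wb q (fun a ha b hb => hCc a ha.1 b hb.1) fun a ha => ha.2
  rw [Nat.card_eq_fintype_card] at hcardW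
  let σ : G →* Matrix (Fin e) (Fin e) (ZMod q) := σb.comp mk
  have hσker : ∀ g, σ g = 1 → π g = 1 := by
    refine fun g hg => ((hnormal σ.ker inferInstance).resolve_right fun htop => hnab fun a ha b hb => ?_) hg
    have hcen : ∀ g : G, ∃ c : k, ρ g * ρ a * ρ g⁻¹ = c • ρ a := by
      intro g
      have e'' : mk g * mk a * (mk g)⁻¹ = mk a :=
        hσb _ (MonoidHom.mem_ker.1 (htop.ge (Subgroup.mem_top g))) _ ha
      have hm : mk (g * a * g⁻¹ * a⁻¹) = 1 := by rw [map_mul, map_mul, map_mul, map_inv, map_inv, e'', mul_inv_cancel]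
      obtain ⟨c, hc⟩ := (QuotientGroup.eq_one_iff _).1 hm
      refine ⟨c, ?_⟩
      calc ρ g * ρ a * ρ g⁻¹ = ρ (g * a * g⁻¹ * a⁻¹) * ρ a := by rw [← map_mul, ← map_mul, ← map_mul, inv_mul_cancel_right]
        _ = _ := by rw [hc, smul_mul_assoc, one_mul]
    have hle : commutator G ≤
        { carrier := {g | ρ g * ρ a * ρ g⁻¹ = ρ a}
          one_mem' := by show ρ 1 * ρ a * ρ 1⁻¹ = ρ a; rw [inv_one, map_one, one_mul, mul_one]
          mul_mem' := fun {g h} (hg : ρ g * ρ a * ρ g⁻¹ = ρ a) (hh : ρ h * ρ a * ρ h⁻¹ = ρ a) => by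
            show ρ (g * h) * ρ a * ρ (g * h)⁻¹ = ρ a
            rw [map_mul, mul_inv_rev, map_mul]
            calc ρ g * ρ h * ρ a * (ρ h⁻¹ * ρ g⁻¹) = ρ g * (ρ h * ρ a * ρ h⁻¹) * ρ g⁻¹ := by simp only [mul_assoc]
              _ = ρ a := by rw [hh, hg]
          inv_mem' := fun {g} (hg : ρ g * ρ a * ρ g⁻¹ = ρ a) => by
            show ρ g⁻¹ * ρ a * ρ g⁻¹⁻¹ = ρ a
            conv_lhs => rw [← hg]
            simp only [← map_mul]; congr 1; group : Subgroup G } := by
      rw [commutator_def, Subgroup.commutator_le]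
      intro g _ h _
      show ρ ⁅g, h⁆ * ρ a * ρ ⁅g, h⁆⁻¹ = ρ a
      obtain ⟨c₁, h1⟩ := hcen g
      obtain ⟨c₂, h2⟩ := hcen h
      have step : ∀ x y : G, ρ (x * y) * ρ a * ρ (x * y)⁻¹ = ρ x * (ρ y * ρ a * ρ y⁻¹) * ρ x⁻¹ := fun x y => by
        rw [map_mul, mul_inv_rev, map_mul]; simp only [mul_assoc]
      have hne : ∀ {x : G} {c : k}, ρ x * ρ a * ρ x⁻¹ = c • ρ a → c ≠ 0 := by
        intro x c hx hc
        rw [hc, zero_smul] at hx
        have h := congrArg (fun T => ρ x⁻¹ * T * ρ x * ρ a⁻¹) hx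
        simp only [mul_zero, zero_mul, ← map_mul] at h
        rw [show x⁻¹ * (x * a * x⁻¹) * x * a⁻¹ = 1 by group, map_one] at h
        exact one_ne_zero h
      have i1 : ∀ {x : G} {c : k}, ρ x * ρ a * ρ x⁻¹ = c • ρ a → ρ x⁻¹ * ρ a * ρ x⁻¹⁻¹ = c⁻¹ • ρ a := by
        intro x c hx
        have h : ρ x⁻¹ * (c • ρ a) * ρ x⁻¹⁻¹ = ρ a := by
          rw [← hx]; simp only [← map_mul]; congr 1; group
        rw [mul_smul_comm, smul_mul_assoc] at h
        conv_rhs => rw [← h]
        rw [smul_smul, inv_mul_cancel₀ (hne hx), one_smul]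
      rw [commutatorElement_def, step, i1 h2, mul_smul_comm, smul_mul_assoc, step, i1 h1, mul_smul_comm, smul_mul_assoc,
        smul_smul, step, h2, mul_smul_comm, smul_mul_assoc, smul_smul, h1, smul_smul]
      rw [show c₂⁻¹ * c₁⁻¹ * c₂ * c₁ = 1 by field_simp [hne h1, hne h2], one_smul]
    have e : ρ b * ρ a * ρ b⁻¹ = ρ a := hle (hperf.ge (Subgroup.mem_top b))
    calc ρ a * ρ b = (ρ b * ρ a * ρ b⁻¹) * ρ b := by rw [e]
      _ = _ := by rw [mul_assoc, hinv', mul_one]
  have hle2 : q ^ e ≤ finrank k V * finrank k V := hcardW ▸ hsq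
  have h2e : 2 ^ e ≤ q ^ e := Nat.pow_le_pow_left hq.two_le e
  rcases Nat.lt_or_ge e n with hen | hen
  · let F := AlgebraicClosure (ZMod q)
    let τ : G →* Module.End F (Fin e → F) :=
      (Matrix.toLinAlgEquiv' (R := F) (n := Fin e)).toAlgHom.toMonoidHom.comp
        (((algebraMap (ZMod q) F).mapMatrix (m := Fin e)).toMonoidHom.comp σ)
    have hτ : ∀ g, τ g = 1 → σ g = 1 := by
      intro g hg
      refine Matrix.map_injective (f := algebraMap (ZMod q) F) (RingHom.injective _) ?_
      show (algebraMap (ZMod q) F).mapMatrix _ = (algebraMap (ZMod q) F).mapMatrix 1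
      rw [map_one]
      refine (Matrix.toLinAlgEquiv' (R := F) (n := Fin e)).injective ?_
      rw [map_one]
      exact hg
    have h := hsmall q e hen G π τ hπ fun g hg => hσker g (hτ g hg)
    have hgt := two_pow_gt_sq (e := e) (by omega)
    have hmul : finrank k V * finrank k V ≤ e * e := Nat.mul_le_mul (by omega) (by omega)
    omega
  · have hne : finrank k V ≤ e := by omega
    have h4 : e ≤ 4 := by
      by_contra h5
      have hgt := two_pow_gt_sq (e := e) (by omega)
      have hmul : finrank k V * finrank k V ≤ e * e := Nat.mul_le_mul hne hne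
      omega
    have hq16 : q ^ e ≤ 16 := hle2.trans (Nat.mul_le_mul (hne.trans h4) (hne.trans h4))
    have hcardE : Nat.card (Matrix (Fin e) (Fin e) (ZMod q)) = (q ^ e) ^ e := by
      unfold Matrix
      rw [Nat.card_fun, Nat.card_fun, Nat.card_zmod, Nat.card_fin]
    have hidx : Nat.card (alternatingGroup (Fin r)) ≤ Nat.card (Matrix (Fin e) (Fin e) (ZMod q)) := by
      haveI : Finite (Matrix (Fin e) (Fin e) (ZMod q)) := inferInstance
      refine Nat.card_le_card_of_injective (fun x => σ (Function.surjInv hπ x)) fun x y hxy => ?_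
      have hxy : σ (Function.surjInv hπ x) = σ (Function.surjInv hπ y) := hxy
      have e1 : σ ((Function.surjInv hπ x)⁻¹ * Function.surjInv hπ y) = 1 := by
        rw [map_mul, ← hxy, ← map_mul, inv_mul_cancel, map_one]
      have e2 := hσker _ e1
      rwa [map_mul, map_inv, Function.surjInv_eq hπ, Function.surjInv_eq hπ, inv_mul_eq_one] at e2
    rw [hcardE] at hidx
    have h16 : (q ^ e) ^ e ≤ 16 ^ 4 :=
      (Nat.pow_le_pow_left hq16 e).trans (Nat.pow_le_pow_right (by norm_num) h4)
    have := (card_alternating_lt hr).2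
    norm_num at h16
    omega

theorem small_all {r : ℕ} (hr : 9 ≤ r) : ∀ n, Small.{v} r n := by
  intro n
  induction n using Nat.strong_induction_on with
  | _ n ih =>
    intro q _ e he G _ _ π ρ hπ hker
    haveI : CharP (AlgebraicClosure (ZMod q)) q :=
      charP_of_injective_algebraMap (RingHom.injective (algebraMap (ZMod q) (AlgebraicClosure (ZMod q)))) q
    have := section_bound_step.{0, v, 0} hr (ih e he) q e _ G rfl (Fin e → AlgebraicClosure (ZMod q))
      (finrank_fin_fun _) le_rfl π ρ hπ hker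
    split_ifs at this <;> omega

/-- Alternating sections of linear groups. -/
theorem section_bound {r : ℕ} (hr : 9 ≤ r) {k : Type u} [Field k] [IsAlgClosed k] (p : ℕ) [Fact p.Prime] [CharP k p]
    {G : Type v} [Group G] [Finite G] {V : Type w} [AddCommGroup V] [Module k V] [FiniteDimensional k V]
    (π : G →* alternatingGroup (Fin r)) (ρ : G →* Module.End k V) (hπ : Function.Surjective π)
    (hker : ∀ g, ρ g = 1 → π g = 1) : r - 1 - (if p ∣ r then 1 else 0) ≤ finrank k V :=
  section_bound_step hr (small_all hr _) p _ _ G rfl V rfl le_rfl π ρ hπ hker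

end CfsgLib.AltRep
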