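import Cfsg.Agent.Lib.AltRep.Growth
import Cfsg.Agent.Lib.AltRep.WeightCount

/-!
# Characteristic different from three
-/

set_option autoImplicit false
set_option linter.unusedSectionVars false

namespace CfsgLib.AltRep

open Equiv Equiv.Perm Module

variable {r : ℕ} {k V H : Type*} [Field k] [IsAlgClosed k] [AddCommGroup V] [Module k V] [Group H]

namespace IsProj

variable {ρ : H →* Module.End k V} {π : H →* alternatingGroup (Fin r)} (S : IsProj ρ π)

/-- The standard disjoint triples. -/
def pt (x : Fin (r / 3) × Fin 3) : Fin r := ⟨3 * (x.1 : ℕ) + x.2, by omega⟩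

theorem pt_injective : Function.Injective (pt (r := r)) := by
  rintro ⟨i, j⟩ ⟨i', j'⟩ h
  simp only [pt, Fin.mk.injEq] at h
  have := i.2; have := j.2; have := j'.2
  ext <;> simp <;> omega

theorem d3_pt (q : Equiv.Perm (Fin (r / 3) × Fin 3)) (i : Fin (r / 3)) :
    D3 (pt (q (i, 0))) (pt (q (i, 1))) (pt (q (i, 2))) :=
  ⟨fun e => by simpa using q.injective (pt_injective e), fun e => by simpa using q.injective (pt_injective e),
    fun e => by simpa using q.injective (pt_injective e)⟩

theorem L_swap {a b c : Fin r} (h : D3 a b c) : S.L a c b = S.L a b c * S.L a b c :=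
  (S.L_rot h.flip).trans (S.L_flip h)

theorem disj_pt {i j : Fin (r / 3)} (h : i ≠ j) :
    ∀ x ∈ [pt (r := r) (j, 0), pt (j, 1), pt (j, 2)], x ≠ pt (i, 0) ∧ x ≠ pt (i, 1) ∧ x ≠ pt (i, 2) := by
  simp only [List.mem_cons, List.not_mem_nil, or_false, forall_eq_or_imp, forall_eq]
  refine ⟨⟨?_, ?_, ?_⟩, ⟨?_, ?_, ?_⟩, ⟨?_, ?_, ?_⟩⟩ <;>
    exact fun e => h (Prod.ext_iff.1 (pt_injective e)).1.symm

include S in
set_option maxHeartbeats 2000000 in
theorem bound_of_three_ne_zero [FiniteDimensional k V] (p : ℕ) [Fact p.Prime] [CharP k p] (h3 : (3 : k) ≠ 0) :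
    r - 1 - (if p ∣ r then 1 else 0) ≤ finrank k V := by
  classical
  haveI := S.nontrivial
  have hr := S.nine
  have hpp : p.Prime := Fact.out
  by_contra hcon
  have hn : finrank k V + 2 ≤ r := by omega
  set K := r / 3 with hK
  have hK3 : 3 ≤ K := by omega
  have hnK : finrank k V ≤ 3 * K := by omega
  let x : Fin K → Module.End k V := fun i => S.L (pt (i, 0)) (pt (i, 1)) (pt (i, 2))
  have hd : ∀ i : Fin K, D3 (pt (r := r) (i, 0)) (pt (i, 1)) (pt (i, 2)) := fun i => d3_pt 1 i
  have hcomm : ∀ i j, x i * x j = x j * x i := by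
    intro i j
    by_cases hij : i = j
    · rw [hij]
    · exact S.L_comm (hd i) (hd j) (disj_pt hij)
  have hx3 : ∀ i, x i * x i * x i = 1 := fun i => S.L_cube _ _ _
  -- cube roots of unity
  obtain ⟨ω, hω⟩ := IsAlgClosed.exists_root (Polynomial.C (1 : k) * Polynomial.X ^ 2 + Polynomial.C 1 * Polynomial.X +
    Polynomial.C 1) (by rw [Polynomial.degree_quadratic one_ne_zero]; decide)
  simp only [Polynomial.IsRoot, Polynomial.eval_add, Polynomial.eval_mul, Polynomial.eval_C, Polynomial.eval_pow,
    Polynomial.eval_X, one_mul] at hω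
  have hω3 : ω ^ 3 = 1 := by linear_combination (ω - 1) * hω
  have hω1 : ω ≠ 1 := fun e => h3 (by rw [e] at hω; linear_combination hω)
  have hω0 : ω ≠ 0 := fun e => by rw [e] at hω; simp at hω
  let E : ZMod 3 → k := fun a => ω ^ a.val
  have hE0 : E 0 = 1 := by simp [E]
  have hEneg : ∀ a, E (-a) = E a * E a := by
    intro a
    have ha : a = 0 ∨ a = 1 ∨ a = 2 := by revert a; decide
    rcases ha with rfl | rfl | rfl
    · simp [E]
    · show ω ^ (2 : ℕ) = ω ^ (1 : ℕ) * ω ^ (1 : ℕ); ring
    · show ω ^ (1 : ℕ) = ω ^ (2 : ℕ) * ω ^ (2 : ℕ); linear_combination -ω * hω3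
  have hEinj : Function.Injective E := by
    have key : ∀ a, E a = 1 → a = 0 := by
      intro a
      have ha : a = 0 ∨ a = 1 ∨ a = 2 := by revert a; decide
      rcases ha with rfl | rfl | rfl <;> intro h
      · rfl
      · exact absurd ((pow_one ω).symm.trans h) hω1
      · exfalso
        have h2 : ω ^ (2 : ℕ) = 1 := h
        exact hω1 (by linear_combination hω3 - ω * h2)
    intro a b h
    have hab : ω ^ ((a - b).val) = 1 := by
      have e : ∀ a b : ZMod 3, ((a - b).val + b.val) % 3 = a.val := by decide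
      have h1 : ω ^ ((a - b).val + b.val) = ω ^ a.val := by
        rw [← e a b]
        exact pow_eq_pow_mod _ hω3
      rw [pow_add, show ω ^ a.val = ω ^ b.val from h] at h1
      exact (mul_left_eq_self₀.1 h1).resolve_right (pow_ne_zero _ hω0)
    exact sub_eq_zero.1 (key _ hab)
  have hroot : ∀ c : k, c * c * c = 1 → ∃ a, c = E a := by
    intro c hc
    have e : (c - 1) * ((c - ω) * (c - ω ^ 2)) = 0 := by
      linear_combination hc + (-c ^ 2 + c) * hω + (c - 1) * hω3
    rcases mul_eq_zero.1 e with e | e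
    · exact ⟨0, by rw [hE0]; exact sub_eq_zero.1 e⟩
    rcases mul_eq_zero.1 e with e | e
    · exact ⟨1, (sub_eq_zero.1 e).trans (pow_one ω).symm⟩
    · exact ⟨2, sub_eq_zero.1 e⟩
  -- weights
  let IsW : (Fin K → ZMod 3) → Prop := fun w => ∃ v : V, v ≠ 0 ∧ ∀ i, x i v = E (w i) • v
  have exW : ∀ W : Submodule k V, W ≠ ⊥ → (∀ i, ∀ v ∈ W, x i v ∈ W) →
      ∃ w : Fin K → ZMod 3, ∃ v ∈ W, v ≠ 0 ∧ ∀ i, x i v = E (w i) • v := by
    intro W hW hinv
    obtain ⟨v, hv, hv0, he⟩ := exists_joint_eigen x hcomm Finset.univ W hW fun i _ => hinv i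
    choose c hc using fun i => he i (Finset.mem_univ i)
    have h : ∀ i, ∃ a, c i = E a := fun i => hroot _ (by
      have e := LinearMap.congr_fun (hx3 i) v
      simp only [End.mul_apply, hc, map_smul, smul_smul, End.one_apply] at e
      exact smul_left_injective k hv0 (show (c i * c i * c i) • v = (1 : k) • v by
        rw [one_smul, mul_assoc]; exact e))
    choose w hw using h
    exact ⟨w, v, hv, hv0, fun i => by rw [hc, hw]⟩
  -- transport
  have orbit : ∀ w w', IsW w →
      (Finset.univ.filter fun i => w i ≠ 0).card = (Finset.univ.filter fun i => w' i ≠ 0).card → IsW w' := by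
    rintro w w' ⟨v, hv0, hv⟩ hcard
    obtain ⟨σ, hσ⟩ : ∃ σ : Equiv.Perm (Fin K), ∀ i, w i ≠ 0 ↔ w' (σ i) ≠ 0 := by
      let e : {i // w i ≠ 0} ≃ {i // w' i ≠ 0} := Fintype.equivOfCardEq (by
        rw [Fintype.card_subtype, Fintype.card_subtype]; exact hcard)
      exact ⟨e.extendSubtype, fun i => ⟨fun h => e.extendSubtype_mem i h, fun h => by
        by_contra hh; exact e.extendSubtype_not_mem i (fun hn => hn hh) h⟩⟩
    let fl : Fin K → Equiv.Perm (Fin 3) := fun i => if w' (σ i) = w i then 1 else swap 1 2
    let q : Equiv.Perm (Fin K × Fin 3) := Equiv.prodShear σ fl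
    let T : Equiv.Perm (Fin K × Fin 3) → Prop := fun q => ∃ u : V, u ≠ 0 ∧
      ∀ i, S.L (pt (q (i, 0))) (pt (q (i, 1))) (pt (q (i, 2))) u = E (w i) • u
    have even : ∀ q : Equiv.Perm (Fin K × Fin 3), sign q = 1 → T q := by
      intro q hq
      set Q := q.extendDomain (Equiv.ofInjective pt (pt_injective (r := r))) with hQ
      obtain ⟨g, hg⟩ := S.surj ⟨Q, mem_alternatingGroup.2 ((sign_extendDomain q _).trans hq)⟩
      refine ⟨ρ g v, fun e => hv0 (rho_injective g (by rw [e, map_zero])), fun i => ?_⟩
      have hpt : ∀ z, (π g : Equiv.Perm (Fin r)) (pt z) = pt (q z) := fun z => by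
        rw [hg]
        exact Equiv.Perm.extendDomain_apply_image q (Equiv.ofInjective pt pt_injective) z
      rw [← hpt, ← hpt, ← hpt, ← S.rho_L g (hd i)]
      show ρ g (x i v) = _
      rw [hv, map_smul]
    have hTq : T q := by
      rcases Int.units_eq_one_or (sign q) with hs | hs
      · exact even q hs
      by_cases hz : ∃ i₀, w i₀ = 0
      · obtain ⟨i₀, hi₀⟩ := hz
        obtain ⟨u, hu0, hu⟩ := even (q * swap (i₀, 1) (i₀, 2)) (by
          rw [map_mul, hs, sign_swap (by simp)]; decide)
        refine ⟨u, hu0, fun i => ?_⟩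
        have hi := hu i
        simp only [Perm.mul_apply] at hi
        by_cases hii : i = i₀
        · subst hii
          rw [swap_apply_of_ne_of_ne (by simp) (by simp), swap_apply_left, swap_apply_right, hi₀, hE0, one_smul,
            S.L_swap (d3_pt q i), End.mul_apply] at hi
          rw [hi₀, hE0, one_smul]
          have e := congrArg (S.L (pt (q (i, 0))) (pt (q (i, 1))) (pt (q (i, 2)))) hi
          rw [← End.mul_apply, ← End.mul_apply, S.L_cube, End.one_apply] at e
          exact e.symm
        · rw [swap_apply_of_ne_of_ne (by simp [hii]) (by simp [hii]),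
            swap_apply_of_ne_of_ne (by simp [hii]) (by simp [hii]),
            swap_apply_of_ne_of_ne (by simp [hii]) (by simp [hii])] at hi
          exact hi
      · push_neg at hz
        obtain ⟨i₁, -, i₂, -, hne, he⟩ := Finset.exists_ne_map_eq_of_card_lt_of_maps_to
          (s := (Finset.univ : Finset (Fin K))) (t := ({0}ᶜ : Finset (ZMod 3))) (f := w) (by rw [Finset.card_compl, ZMod.card, Finset.card_singleton, Finset.card_univ, Fintype.card_fin]; omega)
          (fun i _ => by simp [hz i])
        let s' : Equiv.Perm (Fin K × Fin 3) := swap (i₁, 0) (i₂, 0) * (swap (i₁, 1) (i₂, 1) * swap (i₁, 2) (i₂, 2))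
        have hs' : ∀ i j, s' (i, j) = (swap i₁ i₂ i, j) := by
          intro i j
          rcases eq_or_ne i i₁ with rfl | h1
          · fin_cases j <;> simp [s', Perm.mul_apply, swap_apply_def, hne, hne.symm]
          rcases eq_or_ne i i₂ with rfl | h2
          · fin_cases j <;> simp [s', Perm.mul_apply, swap_apply_def, hne, hne.symm]
          · fin_cases j <;> simp [s', Perm.mul_apply, swap_apply_def, hne, hne.symm, h1, h2]
        obtain ⟨u, hu0, hu⟩ := even (q * s') (by
          rw [map_mul, hs, map_mul, map_mul, sign_swap (by simp [hne]), sign_swap (by simp [hne]),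
            sign_swap (by simp [hne])]
          decide)
        refine ⟨u, hu0, fun i => ?_⟩
        have hi := hu (swap i₁ i₂ i)
        simp only [Perm.mul_apply, hs', swap_apply_self] at hi
        rw [hi]
        congr 2
        rcases eq_or_ne i i₁ with rfl | h1
        · rw [swap_apply_left, he]
        rcases eq_or_ne i i₂ with rfl | h2
        · rw [swap_apply_right, he]
        rw [swap_apply_of_ne_of_ne h1 h2]
    obtain ⟨u, hu0, hu⟩ := hTq
    refine ⟨u, hu0, fun i => ?_⟩
    obtain ⟨i', rfl⟩ := σ.surjective i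
    have hi := hu i'
    have hq : ∀ j, q (i', j) = (σ i', fl i' j) := fun j => rfl
    rw [hq, hq, hq] at hi
    by_cases heq : w' (σ i') = w i'
    · simp only [fl, if_pos heq, Perm.one_apply] at hi
      rw [heq]; exact hi
    · have hneg : w' (σ i') = -w i' := by
        have key : ∀ a b : ZMod 3, (a ≠ 0 ↔ b ≠ 0) → b ≠ a → b = -a := by decide
        exact key _ _ (hσ i') heq
      simp only [fl, if_neg heq] at hi
      rw [swap_apply_of_ne_of_ne (by decide) (by decide), swap_apply_left, swap_apply_right,
        S.L_swap (hd (σ i'))] at hi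
      have hi' : x (σ i') (x (σ i') u) = E (w i') • u := hi
      rw [hneg, hEneg]
      have e := congrArg (x (σ i')) hi'
      rw [← End.mul_apply, ← End.mul_apply, hx3, End.one_apply, map_smul] at e
      have hc : E (w i') * E (w i') * E (w i') = 1 := by
        show ω ^ _ * ω ^ _ * ω ^ _ = 1
        rw [← pow_add, ← pow_add, show (w i').val + (w i').val + (w i').val = 3 * (w i').val by ring, pow_mul, hω3,
          one_pow]
      calc x (σ i') u = (E (w i') * E (w i') * E (w i')) • x (σ i') u := by rw [hc, one_smul]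
        _ = (E (w i') * E (w i')) • u := by rw [← smul_smul, ← e]
  -- the levels that can occur
  let supp : (Fin K → ZMod 3) → ℕ := fun w => (Finset.univ.filter fun i => w i ≠ 0).card
  have hcount : ∀ J : Finset ℕ, (∀ j ∈ J, ∃ w, IsW w ∧ supp w = j) →
      ∑ j ∈ J, K.choose j * 2 ^ j ≤ finrank k V := by
    intro J hJ
    have hall : ∀ w : Fin K → ZMod 3, supp w ∈ J → IsW w := fun w hw => by
      obtain ⟨w₀, h₀, e⟩ := hJ _ hw
      exact orbit w₀ w h₀ e
    have h := card_weights_le (κ := {w : Fin K → ZMod 3 // supp w ∈ J}) x (fun w i => E (w.1 i))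
      (fun a b e => Subtype.ext (funext fun i => hEinj (congrFun e i))) fun w => hall w.1 w.2
    rw [Fintype.card_subtype, Finset.card_eq_sum_card_fiberwise (f := supp) (t := J)
      (fun w hw => by simpa using hw)] at h
    refine le_trans (le_of_eq (Finset.sum_congr rfl fun j hj => ?_)) h
    rw [Finset.filter_filter, show K.choose j * 2 ^ j = K.choose j * (Fintype.card (ZMod 3) - 1) ^ j by simp,
      ← card_support_eq K j (ZMod 3)]
    congr 1
    ext w
    simp only [Finset.mem_filter, Finset.mem_univ, true_and, supp]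
    exact ⟨fun h => ⟨h ▸ hj, h⟩, fun h => h.2⟩
  have hle1 : ∀ w, IsW w → supp w = K ∨ supp w ≤ 1 := by
    intro w hw
    by_contra! hc
    have hle : supp w ≤ K := (Finset.card_le_univ _).trans (le_of_eq (Fintype.card_fin K))
    have := hcount {supp w} (fun j hj => ⟨w, hw, (Finset.mem_singleton.1 hj).symm⟩)
    rw [Finset.sum_singleton] at this
    have h1 := le_choose K (supp w) (by omega) (by omega)
    have h2 : 4 ≤ 2 ^ supp w := by
      calc 4 = 2 ^ 2 := rfl
        _ ≤ _ := Nat.pow_le_pow_right (by norm_num) (by omega)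
    have := Nat.mul_le_mul h1 h2
    omega
  -- eigenvalue `1` is excluded on the range of `x - 1`
  have hnorm : ∀ i v, v ∈ LinearMap.range (x i - 1) → x i (x i v) + x i v + v = 0 :=
    fun i v hv => S.norm_M hv
  have nontriv_wt : ∀ i (w : Fin K → ZMod 3) v, v ≠ 0 → v ∈ LinearMap.range (x i - 1) →
      x i v = E (w i) • v → w i ≠ 0 := by
    intro i w v hv0 hv he h0
    have := hnorm i v hv
    rw [he, h0, hE0, one_smul, he, h0, hE0, one_smul] at this
    refine hv0 ((smul_eq_zero.1 (show (3 : k) • v = 0 from ?_)).resolve_left h3)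
    rw [← this]; module
  have fix_of : ∀ i (W : Submodule k V), (∀ j, ∀ v ∈ W, x j v ∈ W) →
      (∀ w : Fin K → ZMod 3, ∀ v ∈ W, v ≠ 0 → (∀ j, x j v = E (w j) • v) → w i = 0) → ∀ v ∈ W, x i v = v := by
    intro i W hW hz v hv
    by_contra hne
    have hW' : W.map (x i - 1) ≠ ⊥ := fun e => hne (by
      have : (x i - 1) v ∈ W.map (x i - 1) := ⟨v, hv, rfl⟩
      rw [e] at this
      simpa [sub_eq_zero] using this)
    obtain ⟨w, u, hu, hu0, hw⟩ := exW _ hW' (by
      rintro j _ ⟨z, hz, rfl⟩
      refine ⟨x j z, hW j z hz, ?_⟩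
      rw [LinearMap.sub_apply, LinearMap.sub_apply, End.one_apply, End.one_apply, map_sub, ← End.mul_apply, hcomm,
        End.mul_apply])
    obtain ⟨z, hz', rfl⟩ := hu
    have hmem : (x i - 1) z ∈ W := sub_mem (hW i z hz') hz'
    exact nontriv_wt i w _ hu0 ⟨z, rfl⟩ (hw i) (hz w _ hmem hu0 hw)
  have hfull_K : ∀ w : Fin K → ZMod 3, supp w = K → ∀ i, w i ≠ 0 := by
    intro w hw i hi
    have : supp w < (Finset.univ : Finset (Fin K)).card :=
      Finset.card_lt_card (Finset.filter_ssubset.2 ⟨i, Finset.mem_univ i, fun h => h hi⟩)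
    rw [hw, Finset.card_univ, Fintype.card_fin] at this
    omega
  let i0 : Fin K := ⟨0, by omega⟩
  let i1 : Fin K := ⟨1, by omega⟩
  have h01 : i0 ≠ i1 := by simp [i0, i1, Fin.ext_iff]
  -- transport of disjoint pairs
  have pairs : ∀ (P : Module.End k V → Module.End k V → Prop),
      (∀ g : H, ∀ X Y, P X Y → ∀ X' Y', (∀ v, ρ g (X v) = X' (ρ g v)) → (∀ v, ρ g (Y v) = Y' (ρ g v)) → P X' Y') →
      P (x i0) (x i1) → ∀ a b c e f g, D3 a b c → D3 e f g → (∀ z ∈ [e, f, g], z ≠ a ∧ z ≠ b ∧ z ≠ c) →
        P (S.L a b c) (S.L e f g) := by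
    intro P hP h a b c e f g h1 h2 hd'
    simp only [List.mem_cons, List.not_mem_nil, or_false, forall_eq_or_imp, forall_eq] at hd'
    obtain ⟨⟨d1, d2, d3⟩, ⟨d4, d5, d6⟩, ⟨d7, d8, d9⟩⟩ := hd'
    have hf : Function.Injective ![pt (r := r) (i0, 0), pt (i0, 1), pt (i0, 2), pt (i1, 0), pt (i1, 1), pt (i1, 2)] := by
      intro i j
      fin_cases i <;> fin_cases j <;> simp [pt_injective.eq_iff, h01, h01.symm]
    have hf' : Function.Injective ![a, b, c, e, f, g] := by
      intro i j
      fin_cases i <;> fin_cases j <;>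
        simp [h1.1, h1.2.1, h1.2.2, h1.1.symm, h1.2.1.symm, h1.2.2.symm, h2.1, h2.2.1, h2.2.2, h2.1.symm, h2.2.1.symm,
          h2.2.2.symm, d1, d2, d3, d4, d5, d6, d7, d8, d9, d1.symm, d2.symm, d3.symm, d4.symm, d5.symm, d6.symm,
          d7.symm, d8.symm, d9.symm]
    obtain ⟨y, hy⟩ := S.exists_move (n := 6) (by omega) hf hf'
    have e0 := hy 0; have e1 := hy 1; have e2 := hy 2; have e3 := hy 3; have e4 := hy 4; have e5 := hy 5
    simp only [Fin.isValue, Matrix.cons_val] at e0 e1 e2 e3 e4 e5
    refine hP y _ _ h _ _ (fun v => ?_) fun v => ?_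
    · show ρ y (S.L _ _ _ v) = _
      rw [S.rho_L y (hd i0), e0, e1, e2]
    · show ρ y (S.L _ _ _ v) = _
      rw [S.rho_L y (hd i1), e3, e4, e5]
  by_cases hfull : ∃ w, IsW w ∧ supp w = K
  · -- all three-cycles are fixed-point-free
    obtain ⟨wf, hwf, hwfK⟩ := hfull
    have hK' : K = 3 := by
      have := hcount {K} (fun j hj => ⟨wf, hwf, hwfK.trans (Finset.mem_singleton.1 hj).symm⟩)
      rw [Finset.sum_singleton, Nat.choose_self, one_mul] at this
      by_contra hne
      have := three_mul_lt_two_pow (k := K) (by omega)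
      omega
    have hlev : ∀ w, IsW w → supp w = K ∨ supp w = 0 := by
      intro w hw
      rcases hle1 w hw with h | h
      · exact Or.inl h
      by_contra! hc
      have := hcount {1, K} (fun j hj => by
        rcases Finset.mem_insert.1 hj with rfl | hj
        · exact ⟨w, hw, by omega⟩
        · exact ⟨wf, hwf, hwfK.trans (Finset.mem_singleton.1 hj).symm⟩)
      rw [Finset.sum_insert (by simp; omega), Finset.sum_singleton, Nat.choose_one_right, Nat.choose_self, hK'] at this
      omega
    have hfixle : ∀ i j, ∀ v, x i v = v → x j v = v := by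
      intro i j v hv
      have := fix_of j (LinearMap.ker (x i - 1)) (fun l u hu => ?_) (fun w u hu hu0 hw => ?_) v
        (by simp [sub_eq_zero, hv])
      · exact this
      · rw [LinearMap.mem_ker, LinearMap.sub_apply, End.one_apply, sub_eq_zero] at hu ⊢
        rw [← End.mul_apply, hcomm, End.mul_apply, hu]
      · rcases hlev w ⟨u, hu0, hw⟩ with h | h
        · exfalso
          refine hfull_K w h i (hEinj (smul_left_injective k hu0 ?_))
          simp only [LinearMap.mem_ker, LinearMap.sub_apply, End.one_apply, sub_eq_zero] at hu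
          show E (w i) • u = E 0 • u
          rw [← hw, hu, hE0, one_smul]
        · by_contra hj
          exact absurd h (Finset.card_ne_zero.2 ⟨j, by simpa using hj⟩)
    have hfixeq : ∀ a b c e f g, D3 a b c → D3 e f g → (∀ z ∈ [e, f, g], z ≠ a ∧ z ≠ b ∧ z ≠ c) →
        ∀ v, S.L a b c v = v → S.L e f g v = v := by
      refine pairs (fun X Y => ∀ v, X v = v → Y v = v) ?_ (hfixle i0 i1)
      intro g X Y h X' Y' hX hY v hv
      have : X (ρ g⁻¹ v) = ρ g⁻¹ v := rho_injective g (by
        rw [hX, ← End.mul_apply (ρ g) (ρ g⁻¹), rho_mul_inv, End.one_apply, hv])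
      have h' := congrArg (ρ g) (h _ this)
      rwa [hY, ← End.mul_apply (ρ g) (ρ g⁻¹), rho_mul_inv, End.one_apply] at h'
    have hzero : ∀ v, x i0 v = v → v = 0 := by
      intro v hv
      have hv1 := hfixle i0 i1 v hv
      let t0 : Finset (Fin r) := {pt (i0, 0), pt (i0, 1), pt (i0, 2)}
      let t1 : Finset (Fin r) := {pt (i1, 0), pt (i1, 1), pt (i1, 2)}
      refine S.eq_zero_of_fixed_of v (t0 ∪ t1) ?_ fun a b c h hb hc => ?_
      · have h1 := Finset.card_union_le t0 t1
        have h2 : t0.card ≤ 3 := Finset.card_le_three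
        have h3' : t1.card ≤ 3 := Finset.card_le_three
        omega
      · simp only [t0, t1, Finset.mem_union, Finset.mem_insert, Finset.mem_singleton, not_or] at hb hc
        by_cases ha : a ∈ t1
        · refine hfixeq _ _ _ a b c (hd i0) h ?_ v hv
          simp only [List.mem_cons, List.not_mem_nil, or_false, forall_eq_or_imp, forall_eq]
          refine ⟨?_, hb.1, hc.1⟩
          have hdj := disj_pt (r := r) h01
          simp only [List.mem_cons, List.not_mem_nil, or_false, forall_eq_or_imp, forall_eq] at hdj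
          simp only [t1, Finset.mem_insert, Finset.mem_singleton] at ha
          rcases ha with rfl | rfl | rfl
          exacts [hdj.1, hdj.2.1, hdj.2.2]
        · refine hfixeq _ _ _ a b c (hd i1) h ?_ v hv1
          simp only [t1, Finset.mem_insert, Finset.mem_singleton, not_or] at ha
          simp only [List.mem_cons, List.not_mem_nil, or_false, forall_eq_or_imp, forall_eq]
          exact ⟨ha, hb.2, hc.2⟩
    have hfree : ∀ a b c, D3 a b c → S.L a b c * S.L a b c + S.L a b c + 1 = 0 := by
      intro a b c h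
      obtain ⟨g, hg⟩ := S.exists_move (n := 3) (f := ![pt (r := r) (i0, 0), pt (i0, 1), pt (i0, 2)]) (f' := ![a, b, c])
        (by omega) (by intro i j; fin_cases i <;> fin_cases j <;> simp [pt_injective.eq_iff])
        (by intro i j; fin_cases i <;> fin_cases j <;> simp [h.1, h.2.1, h.2.2, h.1.symm, h.2.1.symm, h.2.2.symm])
      have e0 := hg 0; have e1 := hg 1; have e2 := hg 2
      simp only [Fin.isValue, Matrix.cons_val] at e0 e1 e2
      have hz : ∀ v, S.L a b c v = v → v = 0 := by
        intro v hv
        have hX : x i0 (ρ g⁻¹ v) = ρ g⁻¹ v := rho_injective g (by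
          show ρ g (S.L _ _ _ _) = _
          rw [S.rho_L g (hd i0), e0, e1, e2, ← End.mul_apply (ρ g) (ρ g⁻¹), rho_mul_inv, End.one_apply, hv])
        have h' := congrArg (ρ g) (hzero _ hX)
        rwa [map_zero, ← End.mul_apply (ρ g) (ρ g⁻¹), rho_mul_inv, End.one_apply] at h'
      refine LinearMap.ext fun v => hz _ ?_
      have hc := LinearMap.congr_fun (S.L_cube a b c) v
      simp only [End.mul_apply, End.one_apply] at hc
      simp only [LinearMap.add_apply, End.mul_apply, End.one_apply, map_add, hc]
      abel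
    by_cases hp2 : p = 2 → r = 11
    · exact hcon (S.bound_of_fpf p hfree hp2)
    · push_neg at hp2
      obtain ⟨rfl, hne⟩ := hp2
      have := hcount {K} (fun j hj => ⟨wf, hwf, hwfK.trans (Finset.mem_singleton.1 hj).symm⟩)
      rw [Finset.sum_singleton, Nat.choose_self, hK'] at this
      split_ifs at hcon with h2r <;> omega
  · -- disjoint three-cycles act trivially on each other's spaces
    push_neg at hfull
    have hlev : ∀ w, IsW w → supp w ≤ 1 := fun w hw => (hle1 w hw).resolve_left (hfull w hw)
    have Minv : ∀ i j, ∀ v ∈ LinearMap.range (x i - 1), x j v ∈ LinearMap.range (x i - 1) := by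
      rintro i j _ ⟨z, rfl⟩
      exact ⟨x j z, by rw [LinearMap.sub_apply, LinearMap.sub_apply, End.one_apply, End.one_apply, map_sub,
        ← End.mul_apply, hcomm, End.mul_apply]⟩
    have hxfix : ∀ i j, i ≠ j → ∀ v ∈ LinearMap.range (x i - 1), x j v = v := by
      intro i j hij
      refine fix_of j _ (fun l => Minv i l) fun w u hu hu0 hw => ?_
      by_contra hj
      have hi := nontriv_wt i w u hu0 hu (hw i)
      have : 1 < supp w := Finset.one_lt_card.2 ⟨i, by simpa using hi, j, by simpa using hj, hij⟩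
      have := hlev w ⟨u, hu0, hw⟩
      omega
    have hfix : ∀ a b c e f g, D3 a b c → D3 e f g → (∀ z ∈ [e, f, g], z ≠ a ∧ z ≠ b ∧ z ≠ c) →
        ∀ v ∈ S.M e f g, S.L a b c v = v := by
      intro a b c e f g h1 h2 hd'
      refine pairs (fun X Y => ∀ v ∈ LinearMap.range (Y - 1), X v = v) ?_ (hxfix i1 i0 h01.symm) a b c e f g h1 h2 hd'
      intro y X Y h X' Y' hX hY v hv
      obtain ⟨z, rfl⟩ := hv
      obtain ⟨z', rfl⟩ : ∃ z', ρ y z' = z :=
        ⟨ρ y⁻¹ z, by rw [← End.mul_apply, rho_mul_inv, End.one_apply]⟩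
      have h' := h _ ⟨z', rfl⟩
      simp only [LinearMap.sub_apply, End.one_apply] at h' ⊢
      have h'' := congrArg (ρ y) h'
      rw [hX, map_sub, hY] at h''
      exact h''
    -- the dimension of the displacement spaces
    have hMi : ∀ i, LinearMap.range (x i - 1) = S.M (pt (i, 0)) (pt (i, 1)) (pt (i, 2)) := fun i => rfl
    have hz : ∀ a b c, D3 a b c → ∀ v ∈ S.M a b c, S.L a b c v = v → v = 0 := by
      intro a b c _ v hv hf
      have := S.norm_M hv
      rw [hf, hf] at this
      refine (smul_eq_zero.1 (show (3 : k) • v = 0 from ?_)).resolve_left h3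
      rw [← this]; module
    set d := finrank k (S.M (pt (i0, 0)) (pt (i0, 1)) (pt (i0, 2))) with hd0
    have hKd : K * d ≤ finrank k V := by
      let Φ : ((i : Fin K) → LinearMap.range (x i - 1)) →ₗ[k] V :=
        ∑ i, (LinearMap.range (x i - 1)).subtype.comp (LinearMap.proj i)
      have hΦ : Function.Injective Φ := by
        rw [← LinearMap.ker_eq_bot, LinearMap.ker_eq_bot']
        intro u hu
        funext i
        refine Subtype.ext (hz _ _ _ (hd i) _ (u i).2 ?_)
        have h0 : (x i - 1) (Φ u) = 0 := by rw [hu, map_zero]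
        simp only [Φ, LinearMap.coe_sum, Finset.sum_apply, LinearMap.comp_apply, map_sum] at h0
        rw [Finset.sum_eq_single i (fun j _ hji => ?_) (fun h => absurd (Finset.mem_univ i) h)] at h0
        · exact sub_eq_zero.1 h0
        · show x i (u j : V) - (u j : V) = 0
          rw [hxfix j i hji _ (u j).2, sub_self]
      have := LinearMap.finrank_le_finrank_of_injective hΦ
      rw [Module.finrank_pi_fintype] at this
      have hsame : ∀ i : Fin K, finrank k (LinearMap.range (x i - 1)) = d := fun i => S.finrank_M (hd i) (hd i0)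
      rw [Finset.sum_congr rfl (fun i _ => hsame i), Finset.sum_const, Finset.card_univ,
        Fintype.card_fin, smul_eq_mul] at this
      exact this
    have hd3 : d ≤ 3 := by
      by_contra hc
      have := Nat.mul_le_mul_left K (show 4 ≤ d by omega)
      omega
    have heven : ∃ a, d = a + a := by
      set M₀ := S.M (pt (i0, 0)) (pt (i0, 1)) (pt (i0, 2)) with hM₀
      set X := x i0 with hX
      let U : k → Submodule k V := fun c => M₀ ⊓ LinearMap.ker (X - c • (1 : Module.End k V))
      have hU : ∀ c v, v ∈ U c ↔ v ∈ M₀ ∧ X v = c • v := fun c v => by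
        simp [U, sub_eq_zero]
      obtain ⟨σ, hσ⟩ := inverter_exists S.nine (hd i0)
      obtain ⟨g, hg⟩ := S.surj σ
      have hswap : ∀ v, ρ g (X v) = X (X (ρ g v)) := by
        intro v
        have e : S.ad σ X = X * X := (S.L_spec (hd i0)).2.2 σ hσ
        rw [S.ad_eq hg] at e
        have e' := LinearMap.congr_fun e (ρ g v)
        rwa [End.mul_apply, End.mul_apply, End.mul_apply, ← End.mul_apply (ρ g⁻¹), rho_inv_mul, End.one_apply] at e'
      have hMg : ∀ v ∈ M₀, ρ g v ∈ M₀ := by
        intro v hv
        obtain ⟨z, rfl⟩ := hv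
        refine ⟨X (ρ g z) + ρ g z, ?_⟩
        show X (X (ρ g z) + ρ g z) - (X (ρ g z) + ρ g z) = ρ g (X z - z)
        rw [map_add, map_sub, hswap]; abel
      have move : ∀ c, c * c * c = 1 → ∀ v ∈ U c, ρ g v ∈ U (c * c) := by
        intro c hc v hv
        obtain ⟨hvM, hvc⟩ := (hU c v).1 hv
        refine (hU _ _).2 ⟨hMg v hvM, ?_⟩
        have e := hswap v
        rw [hvc, map_smul] at e
        have e2 := congrArg X e
        rw [← End.mul_apply X, ← End.mul_apply _ X, hx3, End.one_apply, map_smul] at e2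
        calc X (ρ g v) = (c * c * c) • X (ρ g v) := by rw [hc, one_smul]
          _ = (c * c) • ρ g v := by rw [mul_smul _ c, e2]
      have hω6 : ω ^ 2 * ω ^ 2 * ω ^ 2 = 1 := by linear_combination (ω ^ 3 + 1) * hω3
      have he1 : finrank k (U ω) ≤ finrank k (U (ω ^ 2)) := by
        refine LinearMap.finrank_le_finrank_of_injective (f := (ρ g).restrict (q := U (ω ^ 2)) fun v hv => ?_) ?_
        · rw [pow_two]; exact move ω (by linear_combination hω3) v hv
        · intro a b h
          exact Subtype.ext (rho_injective g (congrArg Subtype.val h))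
      have he2 : finrank k (U (ω ^ 2)) ≤ finrank k (U ω) := by
        refine LinearMap.finrank_le_finrank_of_injective (f := (ρ g).restrict (q := U ω) fun v hv => ?_) ?_
        · have := move (ω ^ 2) hω6 v hv
          rwa [show ω ^ 2 * ω ^ 2 = ω by linear_combination ω * hω3] at this
        · intro a b h
          exact Subtype.ext (rho_injective g (congrArg Subtype.val h))
      have hdiff : ω - ω ^ 2 ≠ 0 := fun h => hω1 (by
        have : ω * (1 - ω) = 0 := by linear_combination h
        exact (sub_eq_zero.1 ((mul_eq_zero.1 this).resolve_left hω0)).symm)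
      have hsup : U ω ⊔ U (ω ^ 2) = M₀ := by
        refine le_antisymm (sup_le inf_le_left inf_le_left) fun v hv => ?_
        have hn' : X (X v) + X v + v = 0 := S.norm_M hv
        have hXv : X v ∈ M₀ := S.L_mem_M_self hv
        have hXX : X (X v) = -X v - v := by linear_combination (norm := abel) hn'
        rw [Submodule.mem_sup]
        refine ⟨(ω - ω ^ 2)⁻¹ • (X v - (ω ^ 2) • v), (hU _ _).2 ⟨?_, ?_⟩,
          (ω - ω ^ 2)⁻¹ • (ω • v - X v), (hU _ _).2 ⟨?_, ?_⟩, ?_⟩
        · exact Submodule.smul_mem _ _ (sub_mem hXv (Submodule.smul_mem _ _ hv))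
        · rw [map_smul, map_sub, map_smul, hXX, smul_comm]
          congr 1
          match_scalars
          · linear_combination -hω
          · linear_combination hω3
        · exact Submodule.smul_mem _ _ (sub_mem (Submodule.smul_mem _ _ hv) hXv)
        · rw [map_smul, map_sub, map_smul, hXX, smul_comm]
          congr 1
          match_scalars
          · linear_combination hω
          · linear_combination -hω3
        · rw [← smul_add, show X v - ω ^ 2 • v + (ω • v - X v) = (ω - ω ^ 2) • v by module, smul_smul,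
            inv_mul_cancel₀ hdiff, one_smul]
      have hinf : U ω ⊓ U (ω ^ 2) = ⊥ := by
        rw [Submodule.eq_bot_iff]
        intro v hv
        have e1 := ((hU _ _).1 hv.1).2
        have e2 := ((hU _ _).1 hv.2).2
        rw [e1] at e2
        exact (smul_eq_zero.1 (show (ω - ω ^ 2) • v = 0 by rw [sub_smul, e2, sub_self])).resolve_left hdiff
      have hs := Submodule.finrank_sup_add_finrank_inf_eq (U ω) (U (ω ^ 2))
      rw [hsup, hinf, finrank_bot] at hs
      exact ⟨finrank k (U ω), by omega⟩
    have hd2 : d = 2 := by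
      obtain ⟨a, ha⟩ := heven
      have hne := S.M_ne_bot (hd i0)
      rcases Nat.eq_zero_or_pos d with h | h
      · exact absurd (Submodule.finrank_eq_zero.1 h) hne
      · omega
    have htwo : ∀ a b c, D3 a b c → finrank k (S.M a b c) = 2 := fun a b c h => by
      rw [S.finrank_M h (hd i0)]; exact hd2
    exact hcon (Natural.bound ⟨htwo, hfix, fun a b c d h => finrank_two_triples hfix hz htwo hn h⟩ p)

end IsProj

end CfsgLib.AltRep
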