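import Mathlib

/-!
# Oriented triples and the three-cycles they give
-/

set_option autoImplicit false

namespace CfsgLib.AltRep

open Equiv Equiv.Perm

variable {r : ℕ}

/-- Three distinct points. -/
abbrev D3 (a b c : Fin r) : Prop := a ≠ b ∧ b ≠ c ∧ a ≠ c

/-- The three-cycle `a ↦ b ↦ c ↦ a`. -/
def cyc (a b c : Fin r) : Equiv.Perm (Fin r) := swap a b * swap b c

theorem D3.rot {a b c : Fin r} (h : D3 a b c) : D3 b c a := ⟨h.2.1, h.2.2.symm, h.1.symm⟩

theorem D3.flip {a b c : Fin r} (h : D3 a b c) : D3 b a c := ⟨h.1.symm, h.2.2, h.2.1⟩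

theorem D3.map {a b c : Fin r} (h : D3 a b c) (σ : Equiv.Perm (Fin r)) : D3 (σ a) (σ b) (σ c) :=
  ⟨σ.injective.ne h.1, σ.injective.ne h.2.1, σ.injective.ne h.2.2⟩

theorem cyc_fst {a b c : Fin r} (h : D3 a b c) : cyc a b c a = b := by
  rw [cyc, Perm.mul_apply, swap_apply_of_ne_of_ne h.1 h.2.2, swap_apply_left]

theorem cyc_snd {a b c : Fin r} (h : D3 a b c) : cyc a b c b = c := by
  rw [cyc, Perm.mul_apply, swap_apply_left, swap_apply_of_ne_of_ne h.2.2.symm h.2.1.symm]

theorem cyc_thd {a b c : Fin r} (_h : D3 a b c) : cyc a b c c = a := by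
  rw [cyc, Perm.mul_apply, swap_apply_right, swap_apply_right]

theorem cyc_off {a b c x : Fin r} (ha : x ≠ a) (hb : x ≠ b) (hc : x ≠ c) : cyc a b c x = x := by
  rw [cyc, Perm.mul_apply, swap_apply_of_ne_of_ne hb hc, swap_apply_of_ne_of_ne ha hb]

theorem cyc_conj (σ : Equiv.Perm (Fin r)) (a b c : Fin r) :
    σ * cyc a b c * σ⁻¹ = cyc (σ a) (σ b) (σ c) := by
  rw [cyc, cyc, Equiv.swap_apply_apply, Equiv.swap_apply_apply]
  group

theorem cyc_rot {a b c : Fin r} (h : D3 a b c) : cyc b c a = cyc a b c := by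
  refine Equiv.ext fun x => ?_
  rcases eq_or_ne x a with rfl | ha
  · rw [cyc_thd h.rot, cyc_fst h]
  rcases eq_or_ne x b with rfl | hb
  · rw [cyc_fst h.rot, cyc_snd h]
  rcases eq_or_ne x c with rfl | hc
  · rw [cyc_snd h.rot, cyc_thd h]
  rw [cyc_off hb hc ha, cyc_off ha hb hc]

theorem cyc_inv {a b c : Fin r} (h : D3 a b c) : cyc b a c = (cyc a b c)⁻¹ := by
  refine eq_inv_of_mul_eq_one_left (Equiv.ext fun x => ?_)
  rw [Perm.mul_apply, Perm.one_apply]
  rcases eq_or_ne x a with rfl | ha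
  · rw [cyc_fst h, cyc_fst h.flip]
  rcases eq_or_ne x b with rfl | hb
  · rw [cyc_snd h, cyc_thd h.flip]
  rcases eq_or_ne x c with rfl | hc
  · rw [cyc_thd h, cyc_snd h.flip]
  rw [cyc_off ha hb hc, cyc_off hb ha hc]

theorem cyc_isThreeCycle {a b c : Fin r} (h : D3 a b c) : IsThreeCycle (cyc a b c) := by
  rw [cyc, swap_comm a b]
  exact isThreeCycle_swap_mul_swap_same h.1.symm h.2.1 h.2.2

theorem cyc_ne_one {a b c : Fin r} (h : D3 a b c) : cyc a b c ≠ 1 := fun e => by
  have := cyc_fst h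
  rw [e, Perm.one_apply] at this
  exact h.1 this

theorem cyc_mem {a b c : Fin r} (h : D3 a b c) : cyc a b c ∈ alternatingGroup (Fin r) :=
  (cyc_isThreeCycle h).mem_alternatingGroup

/-- The same, inside the alternating group. -/
def cycA {a b c : Fin r} (h : D3 a b c) : alternatingGroup (Fin r) := ⟨cyc a b c, cyc_mem h⟩

theorem exists_cyc {σ : Equiv.Perm (Fin r)} (h : IsThreeCycle σ) : ∃ a b c, D3 a b c ∧ σ = cyc a b c := by
  obtain ⟨a, ha⟩ := Finset.card_pos.1 (h.card_support ▸ (by norm_num : 0 < 3) : 0 < σ.support.card)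
  refine ⟨a, σ a, σ (σ a), ?_, (h.eq_swap_mul_swap_iff_mem_support).2 ha⟩
  have hn := (h.nodup_iff_mem_support).2 ha
  simp only [List.nodup_cons, List.mem_cons, List.not_mem_nil, or_false, not_or] at hn
  exact ⟨hn.1.1, hn.2.1, hn.1.2⟩

theorem exists_off (S : Finset (Fin r)) (h : S.card < r) : ∃ x, x ∉ S := by
  by_contra! hc
  have := Finset.card_le_card (fun x _ => hc x : (Finset.univ : Finset (Fin r)) ⊆ S)
  simp at this
  omega

theorem exists_two_off (S : Finset (Fin r)) (h : S.card + 1 < r) : ∃ x y, x ∉ S ∧ y ∉ S ∧ x ≠ y := by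
  obtain ⟨x, hx⟩ := exists_off S (by omega)
  obtain ⟨y, hy⟩ := exists_off (insert x S) (by rw [Finset.card_insert_of_notMem hx]; omega)
  rw [Finset.mem_insert, not_or] at hy
  exact ⟨x, y, hx, hy.2, Ne.symm hy.1⟩

/-- An even permutation carrying one tuple to another. -/
theorem exists_even_map {a : ℕ} (ha : a + 2 ≤ r) {f f' : Fin a → Fin r} (hf : Function.Injective f)
    (hf' : Function.Injective f') : ∃ σ : alternatingGroup (Fin r), ∀ i, (σ : Equiv.Perm (Fin r)) (f i) = f' i := by
  classical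
  let e : {x // x ∈ Set.range f} ≃ {x // x ∈ Set.range f'} :=
    (Equiv.ofInjective f hf).symm.trans (Equiv.ofInjective f' hf')
  have he : ∀ i, e.extendSubtype (f i) = f' i := fun i => by
    rw [Equiv.extendSubtype_apply_of_mem _ _ ⟨i, rfl⟩]
    simp only [e, Equiv.trans_apply]
    rw [show (Equiv.ofInjective f hf).symm ⟨f i, i, rfl⟩ = i from Equiv.ofInjective_symm_apply hf i]
    rfl
  obtain ⟨x, y, hx, hy, hxy⟩ := exists_two_off (Finset.univ.image f')
    (by rw [Finset.card_image_of_injective _ hf', Finset.card_univ, Fintype.card_fin]; omega)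
  simp only [Finset.mem_image, Finset.mem_univ, true_and, not_exists] at hx hy
  rcases Int.units_eq_one_or (Equiv.Perm.sign e.extendSubtype) with hs | hs
  · exact ⟨⟨_, mem_alternatingGroup.2 hs⟩, he⟩
  · refine ⟨⟨swap x y * e.extendSubtype, mem_alternatingGroup.2 ?_⟩, fun i => ?_⟩
    · rw [map_mul, sign_swap hxy, hs]; rfl
    · show (swap x y) (e.extendSubtype (f i)) = f' i
      rw [he, swap_apply_of_ne_of_ne (hx i) (hy i)]

/-- A property of triples closed under rotation and conjugation that holds when at most one point lies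
in `B` holds for every triple. -/
theorem triples_all (P : Fin r → Fin r → Fin r → Prop) (B : Finset (Fin r)) (hB : B.card + 3 ≤ r)
    (hrot : ∀ a b c, D3 a b c → P a b c → P b c a)
    (hconj : ∀ a b c, D3 a b c → P a b c → ∀ e f g, D3 e f g → P e f g →
      P (cyc a b c e) (cyc a b c f) (cyc a b c g))
    (h0 : ∀ a b c, D3 a b c → b ∉ B → c ∉ B → P a b c) :
    ∀ a b c, D3 a b c → P a b c := by
  suffices key : ∀ k : ℕ, ∀ a b c, D3 a b c →
      (if a ∈ B then 1 else 0) + (if b ∈ B then 1 else 0) + (if c ∈ B then 1 else 0) ≤ k → P a b c by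
    intro a b c h; exact key _ a b c h le_rfl
  intro k
  induction k with
  | zero =>
    intro a b c h hk
    refine h0 a b c h (fun hb => ?_) fun hc => ?_
    · rw [if_pos hb] at hk; omega
    · rw [if_pos hc] at hk; omega
  | succ k ih =>
    have key : ∀ p q s, D3 p q s → p ∈ B →
        (if p ∈ B then 1 else 0) + (if q ∈ B then 1 else 0) + (if s ∈ B then 1 else 0) ≤ k + 1 → P p q s := by
      intro p q s h hp hk
      by_cases hqs : q ∉ B ∧ s ∉ B
      · exact h0 p q s h hqs.1 hqs.2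
      have hcard : ((B ∪ {q, s}).card) + 1 < r := by
        rw [not_and_or, not_not, not_not] at hqs
        obtain ⟨x, hx⟩ : ∃ x, B ∪ {q, s} ⊆ insert x B := by
          rcases hqs with hh | hh
          · exact ⟨s, by simp [Finset.union_subset_iff, Finset.subset_insert, Finset.insert_subset_iff, hh]⟩
          · exact ⟨q, by simp [Finset.union_subset_iff, Finset.subset_insert, Finset.insert_subset_iff, hh]⟩
        have := (Finset.card_le_card hx).trans (Finset.card_insert_le _ _)
        omega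
      obtain ⟨u, v, hu, hv, huv⟩ := exists_two_off _ hcard
      simp only [Finset.mem_union, Finset.mem_insert, Finset.mem_singleton, not_or] at hu hv
      have hup : u ≠ p := fun e => hu.1 (e ▸ hp)
      have hvp : v ≠ p := fun e => hv.1 (e ▸ hp)
      have h1 : D3 p v u := ⟨hvp.symm, huv.symm, hup.symm⟩
      have hA : P p v u := h0 _ _ _ h1 hv.1 hu.1
      have hA' : P u p v := hrot _ _ _ h1.rot (hrot _ _ _ h1 hA)
      have h2 : D3 u q s := ⟨hu.2.1, h.2.1, hu.2.2⟩
      have hB' : P u q s := ih _ _ _ h2 (by rw [if_neg hu.1]; rw [if_pos hp] at hk; omega)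
      have := hconj _ _ _ h1.rot.rot hA' _ _ _ h2 hB'
      rwa [cyc_fst h1.rot.rot, cyc_off (Ne.symm hu.2.1) h.1.symm (Ne.symm hv.2.1),
        cyc_off (Ne.symm hu.2.2) h.2.2.symm (Ne.symm hv.2.2)] at this
    intro a b c h hk
    by_cases ha : a ∈ B
    · exact key a b c h ha hk
    by_cases hb : b ∈ B
    · exact hrot _ _ _ h.rot.rot (hrot _ _ _ h.rot (key b c a h.rot hb (by omega)))
    by_cases hc : c ∈ B
    · exact hrot _ _ _ h.rot.rot (key c a b h.rot.rot hc (by omega))
    · exact h0 a b c h hb hc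

end CfsgLib.AltRep
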